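import Cfsg.Agent.Lib.Aut34Cent67.Five

/-!
# The action of the centralizer on the four classes

helper67.
-/

set_option autoImplicit false
set_option linter.unusedSectionVars false
set_option linter.style.haveILetI false

open Subgroup

namespace Cfsg.Agent.Lib.Aut34Cent67

universe u

namespace Mark

variable {G : Type u} [Group G] {z : G} {E : Subgroup G} (Φ : Mark z E) [Finite G]

theorem five_four (c : ↥(centralizer ({z} : Set G))) : Φ.five c 4 = 4 := by
  refine sing_injective ?_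
  rw [Φ.sing_five]
  exact Φ.fixed c c.2 _ (Φ.lift_mem _) (Φ.v_lift _)

/-- The action on the four classes. -/
noncomputable def actC : ↥(centralizer ({z} : Set G)) →* Equiv.Perm (Fin 4) :=
  MonoidHom.mk' (fun c => (exists_restrict (Φ.five c) (Φ.five_four c)).choose) fun c d =>
    Equiv.ext fun i => Fin.castSucc_injective _ (by
      rw [← (exists_restrict _ (Φ.five_four (c * d))).choose_spec, Equiv.Perm.mul_apply,
        ← (exists_restrict _ (Φ.five_four c)).choose_spec,
        ← (exists_restrict _ (Φ.five_four d)).choose_spec, map_mul, Equiv.Perm.mul_apply])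

open scoped Classical in
/-- The action as a function on the group, trivial off the centralizer. -/
noncomputable def act (g : G) : Equiv.Perm (Fin 4) :=
  if h : g ∈ centralizer ({z} : Set G) then Φ.actC ⟨g, h⟩ else 1

theorem act_eq {g : G} (h : g ∈ centralizer ({z} : Set G)) : Φ.act g = Φ.actC ⟨g, h⟩ := dif_pos h

theorem act_mul {g h : G} (hg : g ∈ centralizer ({z} : Set G))
    (hh : h ∈ centralizer ({z} : Set G)) : Φ.act (g * h) = Φ.act g * Φ.act h := by
  rw [Φ.act_eq hg, Φ.act_eq hh, Φ.act_eq (mul_mem hg hh), ← map_mul]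
  rfl

theorem act_one : Φ.act 1 = 1 := by
  rw [Φ.act_eq (one_mem _), show (⟨1, one_mem _⟩ : ↥(centralizer ({z} : Set G))) = 1 from rfl,
    map_one]

theorem act_inv {g : G} (hg : g ∈ centralizer ({z} : Set G)) : Φ.act g⁻¹ = (Φ.act g)⁻¹ := by
  rw [eq_inv_iff_mul_eq_one, ← Φ.act_mul (inv_mem hg) hg, inv_mul_cancel, act_one]

theorem five_castSucc (c : ↥(centralizer ({z} : Set G))) (i : Fin 4) :
    Φ.five c i.castSucc = (Φ.actC c i).castSucc :=
  (exists_restrict _ (Φ.five_four c)).choose_spec i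

theorem img_unit {c : G} (hc : c ∈ centralizer ({z} : Set G)) (i : Fin 4) :
    Φ.img c (unit i) = unit (Φ.act c i) := by
  rw [Φ.act_eq hc, unit, unit, ← Φ.five_castSucc, Φ.sing_five]

/-- The class of a conjugate. -/
theorem v_act {c : G} (hc : c ∈ centralizer ({z} : Set G)) {x : G} (hx : x ∈ E) :
    Φ.v (c * x * c⁻¹) = fun i => Φ.v x ((Φ.act c)⁻¹ i) := by
  have hs : ∀ (a : ZMod 2) (i : Fin 4),
      Φ.img c ((fun _ => a) * unit i) = (fun _ => a) * unit (Φ.act c i) := by
    intro a i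
    rcases zmod2 a with rfl | rfl
    · rw [show ((fun _ => (0 : ZMod 2)) * unit i : V) = 0 from funext fun j => zero_mul _,
        Φ.img_zero hc]
      exact (funext fun j => zero_mul _).symm
    · rw [show ((fun _ => (1 : ZMod 2)) * unit i : V) = unit i from funext fun j => one_mul _,
        Φ.img_unit hc]
      exact (funext fun j => one_mul _).symm
  have key : ∀ (π : Equiv.Perm (Fin 4)) (w : V),
      (fun _ => w 0) * unit (π 0) + (fun _ => w 1) * unit (π 1) + (fun _ => w 2) * unit (π 2) +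
        (fun _ => w 3) * unit (π 3) = fun i => w (π⁻¹ i) := by decide +kernel
  rw [Φ.v_conj hc hx]
  conv_lhs => rw [v_eq_sum (Φ.v x), Φ.img_add hc, Φ.img_add hc, Φ.img_add hc, hs, hs, hs, hs]
  exact key _ _

/-- The kernel is `E`. -/
theorem act_eq_one_iff {c : G} (hc : c ∈ centralizer ({z} : Set G)) :
    Φ.act c = 1 ↔ c ∈ E := by
  have hker := SetLike.ext_iff.1 Φ.ker_five ⟨c, hc⟩
  rw [MonoidHom.mem_ker, mem_subgroupOf] at hker
  refine Iff.trans ?_ hker
  constructor
  · intro h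
    refine Equiv.ext fun i => ?_
    rcases Fin.eq_castSucc_or_eq_last i with ⟨j, rfl⟩ | rfl
    · rw [Φ.five_castSucc, ← Φ.act_eq hc, h]
      rfl
    · exact Φ.five_four _
  · intro h
    refine Equiv.ext fun i => Fin.castSucc_injective _ ?_
    rw [Φ.act_eq hc, ← Φ.five_castSucc, h]
    rfl

theorem act_of_mem {x : G} (hx : x ∈ E) : Φ.act x = 1 :=
  (Φ.act_eq_one_iff (Φ.cfg.le hx)).2 hx

theorem act_surjective (π : Equiv.Perm (Fin 4)) :
    ∃ c ∈ centralizer ({z} : Set G), Φ.act c = π := by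
  classical
  have hker : Φ.actC.ker = E.subgroupOf (centralizer ({z} : Set G)) := by
    ext c
    rw [MonoidHom.mem_ker, mem_subgroupOf, ← Φ.act_eq_one_iff c.2, Φ.act_eq c.2]
  have h := Φ.actC.ker.card_eq_card_quotient_mul_card_subgroup
  have hq := Nat.card_congr (QuotientGroup.quotientKerEquivRange Φ.actC).toEquiv
  rw [hq, hker, Nat.card_congr (subgroupOfEquivOfLe Φ.cfg.le).toEquiv, Φ.cfg.card_E,
    Φ.cfg.card_C] at h
  have htop : Φ.actC.range = ⊤ := Subgroup.eq_top_of_card_eq _ (by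
    rw [Nat.card_eq_fintype_card (α := Equiv.Perm (Fin 4)), Fintype.card_perm, Fintype.card_fin,
      show Nat.factorial 4 = 24 from rfl]
    omega)
  obtain ⟨c, hc⟩ : π ∈ Φ.actC.range := by rw [htop]; trivial
  exact ⟨c, c.2, by rw [Φ.act_eq c.2]; exact hc⟩

/-- An involution of the weight four class. -/
noncomputable def e : G := Φ.lift one'

theorem e_mem : Φ.e ∈ E := Φ.lift_mem _

theorem v_e : Φ.v Φ.e = one' := Φ.v_lift _

theorem e_sq : Φ.e * Φ.e = 1 := (Φ.sq_one_iff Φ.e_mem).2 (by rw [v_e]; decide)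

theorem e_ne_one : Φ.e ≠ 1 := fun h => by
  have := congrArg Φ.v h
  rw [v_e, Φ.v_one] at this
  revert this
  decide

theorem e_ne_z : Φ.e ≠ z := fun h => by
  have := congrArg Φ.v h
  rw [v_e, Φ.v_z] at this
  revert this
  decide

theorem conj_e {c : G} (hc : c ∈ centralizer ({z} : Set G)) :
    c * Φ.e * c⁻¹ = Φ.e ∨ c * Φ.e * c⁻¹ = Φ.e * z :=
  Φ.eq_of_v_eq (Φ.conj_mem hc Φ.e_mem) Φ.e_mem (by
    rw [Φ.v_act hc Φ.e_mem, v_e]
    have key : ∀ π : Equiv.Perm (Fin 4), (fun i => one' (π⁻¹ i)) = one' := by decide +kernel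
    exact key _)

theorem comm_e_iff {x : G} (hx : x ∈ E) : x * Φ.e = Φ.e * x ↔ wt (Φ.v x) = 0 := by
  rw [Φ.comm_iff hx Φ.e_mem, v_e, form_comm, form_one]

theorem wt_act {c : G} (hc : c ∈ centralizer ({z} : Set G)) {x : G} (hx : x ∈ E) :
    wt (Φ.v (c * x * c⁻¹)) = wt (Φ.v x) := by
  have key : ∀ (π : Equiv.Perm (Fin 4)) (w : V), wt (fun i => w (π⁻¹ i)) = wt w := by
    decide +kernel
  rw [Φ.v_act hc hx]
  exact key _ _

end Mark

end Cfsg.Agent.Lib.Aut34Cent67
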