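import Cfsg.Agent.Lib.AutPSL.Card
import Cfsg.Agent.Lib.Linear.Order
import Cfsg.Agent.Lib.Linear.Transvection
import Cfsg.Agent.Lib.L34Sylow67.Model

/-!
# Orders of the projective linear group over four elements and of its automorphism group

helper67.  The derived subgroup is the special one, so automorphisms restrict to it, faithfully.
-/

set_option autoImplicit false
set_option linter.unusedSectionVars false
set_option linter.style.haveILetI false

open Matrix Subgroup

namespace Cfsg.Agent.Lib.Aut34Cent67

universe w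

variable {F : Type w} [Field F] [Fintype F] (hF : Fintype.card F = 4)

include hF

theorem card_PGL34 : Nat.card (GL (Fin 3) F ⧸ Subgroup.center (GL (Fin 3) F)) = 60480 := by
  have h : Nat.card (Matrix.ProjGenLinGroup (Fin 3) F) = 60480 := by
    rw [Linear.card_PGL_eq_card_SL, Linear.card_SL_eq_gcd_mul_card_PSL (ι := Fin 3) (F := F),
      L34Sylow67.card_PSL hF, Fintype.card_fin, Nat.card_eq_fintype_card (α := F), hF]
    decide +kernel
  exact h

/-- The inclusion of the special group. -/
noncomputable def toPGL (_hF : Fintype.card F = 4) :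
    Matrix.ProjectiveSpecialLinearGroup (Fin 3) F →* GL (Fin 3) F ⧸ Subgroup.center (GL (Fin 3) F) :=
  QuotientGroup.map (Subgroup.center (Matrix.SpecialLinearGroup (Fin 3) F))
    (Subgroup.center (GL (Fin 3) F)) Matrix.SpecialLinearGroup.toGL fun s hs => by
      obtain ⟨r, -, hr⟩ := Matrix.SpecialLinearGroup.mem_center_iff.1 hs
      refine AutPSL.mem_center_GL_of_scalar (c := r) ?_
      show (s : Matrix (Fin 3) (Fin 3) F) = r • 1
      rw [← hr, Matrix.smul_one_eq_diagonal]
      rfl

theorem toPGL_injective : Function.Injective (toPGL hF) := by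
  refine (injective_iff_map_eq_one _).2 fun x hx => ?_
  obtain ⟨s, rfl⟩ := QuotientGroup.mk_surjective x
  change QuotientGroup.mk (Matrix.SpecialLinearGroup.toGL s) = (1 : GL (Fin 3) F ⧸ _) at hx
  rw [QuotientGroup.eq_one_iff] at hx
  refine (QuotientGroup.eq_one_iff s).2 (Subgroup.mem_center_iff.2 fun t => ?_)
  refine Matrix.SpecialLinearGroup.toGL_injective ?_
  rw [map_mul, map_mul]
  exact Subgroup.mem_center_iff.1 hx _

/-- The image of the special group is the derived subgroup. -/
theorem range_toPGL :
    (toPGL hF).range = commutator (GL (Fin 3) F ⧸ Subgroup.center (GL (Fin 3) F)) := by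
  classical
  refine le_antisymm ?_ ?_
  · rintro _ ⟨x, rfl⟩
    obtain ⟨s, rfl⟩ := QuotientGroup.mk_surjective x
    have hs : s ∈ commutator (Matrix.SpecialLinearGroup (Fin 3) F) := by
      rw [Linear.commutator_SL_eq_top (by norm_num) (by norm_num)]
      exact mem_top s
    set f := (QuotientGroup.mk' (Subgroup.center (GL (Fin 3) F))).comp
      (Matrix.SpecialLinearGroup.toGL (n := Fin 3) (R := F)) with hf
    have h : f s ∈ (commutator (Matrix.SpecialLinearGroup (Fin 3) F)).map f := ⟨s, hs, rfl⟩
    rw [map_commutator_eq] at h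
    exact Subgroup.commutator_mono le_top le_top h
  · have hdet : ∀ g ∈ Subgroup.center (GL (Fin 3) F),
        (Matrix.GeneralLinearGroup.det g : Fˣ) = 1 := by
      intro g hg
      rw [Matrix.GeneralLinearGroup.center_eq_range_scalar] at hg
      obtain ⟨c, rfl⟩ := hg
      refine Units.ext ?_
      simp only [Matrix.GeneralLinearGroup.val_det_apply, Matrix.GeneralLinearGroup.coe_scalar,
        Matrix.scalar_apply, Matrix.det_diagonal, Finset.prod_const, Finset.card_univ,
        Fintype.card_fin, Units.val_one]
      have := FiniteField.pow_card_sub_one_eq_one (c : F) c.ne_zero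
      rwa [hF] at this
    let d := QuotientGroup.lift (Subgroup.center (GL (Fin 3) F))
      (Matrix.GeneralLinearGroup.det (n := Fin 3) (R := F)) hdet
    intro x hx
    have h1 : d x = 1 := Abelianization.commutator_subset_ker d hx
    obtain ⟨g, rfl⟩ := QuotientGroup.mk_surjective x
    change Matrix.GeneralLinearGroup.det g = 1 at h1
    exact ⟨QuotientGroup.mk ⟨(g : Matrix (Fin 3) (Fin 3) F), congrArg Units.val h1⟩,
      congrArg QuotientGroup.mk (Units.ext rfl)⟩

/-- The automorphism group of the projective group is no larger than that of the special one. -/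
theorem card_mulAut_PGL_le :
    Nat.card (MulAut (GL (Fin 3) F ⧸ Subgroup.center (GL (Fin 3) F))) ≤ 241920 := by
  classical
  haveI : Fact (Nat.Prime 2) := ⟨Nat.prime_two⟩
  set P := GL (Fin 3) F ⧸ Subgroup.center (GL (Fin 3) F) with hP
  let e := MonoidHom.ofInjective (toPGL_injective hF)
  have hmem : ∀ (α : MulAut P) x, α (toPGL hF x) ∈ (toPGL hF).range := fun α x => by
    have h : α (toPGL hF x) ∈ (toPGL hF).range.map α.toMonoidHom := ⟨_, ⟨x, rfl⟩, rfl⟩
    rwa [range_toPGL hF, Subgroup.characteristic_iff_map_eq.1 inferInstance α,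
      ← range_toPGL hF] at h
  let r : MulAut P → Matrix.ProjectiveSpecialLinearGroup (Fin 3) F →
      Matrix.ProjectiveSpecialLinearGroup (Fin 3) F := fun α x => e.symm ⟨_, hmem α x⟩
  have hr : ∀ α x, toPGL hF (r α x) = α (toPGL hF x) := fun α x =>
    congrArg Subtype.val (e.apply_symm_apply ⟨_, hmem α x⟩)
  let R : MulAut P → MulAut (Matrix.ProjectiveSpecialLinearGroup (Fin 3) F) := fun α =>
    { toFun := r α
      invFun := r α⁻¹
      left_inv := fun x => toPGL_injective hF (by rw [hr, hr]; exact α.symm_apply_apply _)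
      right_inv := fun x => toPGL_injective hF (by rw [hr, hr]; exact α.apply_symm_apply _)
      map_mul' := fun x y => toPGL_injective hF (by
        simp only [map_mul, hr]) }
  have hR : Function.Injective R := by
    intro α β hab
    have hfix : ∀ x, α (toPGL hF x) = β (toPGL hF x) := fun x => by
      rw [← hr α, ← hr β]
      exact congrArg (toPGL hF) (DFunLike.congr_fun hab x)
    refine MulEquiv.ext fun p => ?_
    obtain ⟨g, rfl⟩ := QuotientGroup.mk_surjective p
    set h : P := (β (QuotientGroup.mk g))⁻¹ * α (QuotientGroup.mk g) with hh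
    obtain ⟨k, hk⟩ := QuotientGroup.mk_surjective h
    -- conjugation by `k` fixes the special group
    have hconj : ∀ s : Matrix.SpecialLinearGroup (Fin 3) F,
        AutPSL.conjAut k (QuotientGroup.mk s : Matrix.ProjectiveSpecialLinearGroup (Fin 3) F)
          = QuotientGroup.mk s := by
      intro s
      have key : ∀ (g : GL (Fin 3) F) (t : Matrix.SpecialLinearGroup (Fin 3) F),
          toPGL hF (QuotientGroup.mk (AutPSL.conjSL g t)) =
            (QuotientGroup.mk g : P) * toPGL hF (QuotientGroup.mk t) * (QuotientGroup.mk g)⁻¹ := by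
        intro g t
        exact congrArg QuotientGroup.mk (Units.ext (AutPSL.coe_conjSL g t) :
          Matrix.SpecialLinearGroup.toGL (AutPSL.conjSL g t) =
            g * Matrix.SpecialLinearGroup.toGL t * g⁻¹)
      obtain ⟨x, hx⟩ : ∃ x, β (toPGL hF x) = toPGL hF (QuotientGroup.mk s) :=
        ⟨r β⁻¹ (QuotientGroup.mk s), by rw [hr]; exact β.apply_symm_apply _⟩
      obtain ⟨t, rfl⟩ := QuotientGroup.mk_surjective x
      set y := toPGL hF (QuotientGroup.mk t) with hy
      set m : P := QuotientGroup.mk g with hm
      have hc : α (m * y * m⁻¹) = β (m * y * m⁻¹) := by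
        rw [hy, hm, ← key]; exact hfix _
      rw [map_mul, map_mul, map_mul, map_mul, map_inv, map_inv, hfix] at hc
      refine toPGL_injective hF ?_
      rw [AutPSL.conjAut_mk, key, hk, ← hx, hh]
      calc (β m)⁻¹ * α m * β y * ((β m)⁻¹ * α m)⁻¹
          = (β m)⁻¹ * (α m * β y * (α m)⁻¹) * β m := by group
        _ = β y := by rw [hc]; group
    have hc1 : (AutPSL.conjAut k : MulAut (Matrix.ProjectiveSpecialLinearGroup (Fin 3) F)) = 1 := by
      refine MulEquiv.ext fun x => ?_
      obtain ⟨s, rfl⟩ := QuotientGroup.mk_surjective x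
      exact hconj s
    obtain ⟨hkZ, -⟩ := AutPSL.eq_one_of_conj_field (n := 3) (F := F) (g := k) (σ := 1)
      (by norm_num) (by rw [map_one, mul_one]; exact hc1)
    rw [hh, eq_comm, (QuotientGroup.eq_one_iff k).2 hkZ, inv_mul_eq_one] at hk
    exact hk.symm
  refine (Nat.card_le_card_of_injective R hR).trans (le_of_eq ?_)
  rw [AutPSL.card_mulAut_PSL (p := 2) (f := 2) (by rw [hF]; norm_num) (by norm_num)]
  show (if 3 = 2 then 1 else 2) * 2 * Nat.card P = _
  rw [card_PGL34 hF]
  norm_num

end Cfsg.Agent.Lib.Aut34Cent67
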