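import Cfsg.Agent.Lib.Aut34Cent67.Fusion
import Mathlib.GroupTheory.GroupAction.ConjAct

/-!
# The four group through `z` and `e`

helper67.  Its normalizer induces all permutations of its three involutions; the largest normal
2-subgroup of its centralizer has order 64.
-/

set_option autoImplicit false
set_option linter.unusedSectionVars false
set_option linter.style.haveILetI false

open Subgroup

namespace Cfsg.Agent.Lib.Aut34Cent67.Mark

universe u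

variable {G : Type u} [Group G] [Finite G] {z : G} {E : Subgroup G} (Φ : Mark z E)

/-- The four group. -/
def W : Subgroup G where
  carrier := {x | x ∈ E ∧ (Φ.v x = 0 ∨ Φ.v x = one')}
  one_mem' := ⟨one_mem _, Or.inl Φ.v_one⟩
  mul_mem' := by
    rintro a b ⟨ha, h⟩ ⟨hb, h'⟩
    refine ⟨mul_mem ha hb, ?_⟩
    rw [Φ.v_mul ha hb]
    rcases h with h | h <;> rcases h' with h' | h' <;> rw [h, h'] <;>
      simp [v_add_self]
  inv_mem' := by
    rintro a ⟨ha, h⟩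
    exact ⟨inv_mem ha, by rwa [Φ.v_inv ha]⟩

theorem mem_W {x : G} : x ∈ Φ.W ↔ x ∈ E ∧ (Φ.v x = 0 ∨ Φ.v x = one') := Iff.rfl

theorem z_mem_W : z ∈ Φ.W := ⟨Φ.cfg.z_mem, Or.inl Φ.v_z⟩

theorem e_mem_W : Φ.e ∈ Φ.W := ⟨Φ.e_mem, Or.inr Φ.v_e⟩

theorem e_z : Φ.e * z = z * Φ.e := mem_centralizer_singleton_iff.1 (Φ.cfg.le Φ.e_mem)

theorem ez_ne : Φ.e * z ≠ 1 ∧ Φ.e * z ≠ z ∧ Φ.e * z ≠ Φ.e := by
  refine ⟨fun h => Φ.e_ne_z ?_, fun h => Φ.e_ne_one ?_, fun h => Φ.cfg.z_ne ?_⟩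
  · rw [eq_inv_of_mul_eq_one_left h, Φ.toQuad.z_inv]
  · exact mul_eq_right.1 h
  · exact mul_eq_left.1 h

theorem mem_W_iff {x : G} : x ∈ Φ.W ↔ x = 1 ∨ x = z ∨ x = Φ.e ∨ x = Φ.e * z := by
  constructor
  · rintro ⟨hx, h | h⟩
    · rcases Φ.eq_of_v_zero hx h with e | e <;> simp [e]
    · rcases Φ.eq_of_v_eq hx Φ.e_mem (h.trans Φ.v_e.symm) with e | e <;> simp [e]
  · rintro (rfl | rfl | rfl | rfl)
    exacts [one_mem _, Φ.z_mem_W, Φ.e_mem_W, mul_mem Φ.e_mem_W Φ.z_mem_W]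

theorem card_W : Nat.card ↥Φ.W = 4 := by
  classical
  haveI := Fintype.ofFinite G
  rw [Nat.card_eq_fintype_card, Fintype.card_of_subtype {1, z, Φ.e, Φ.e * z}]
  · have h1 := Φ.ez_ne
    simp [Φ.cfg.z_ne.symm, Φ.e_ne_one.symm, Φ.e_ne_z.symm, h1.1.symm, h1.2.1.symm, h1.2.2.symm]
  · intro x
    rw [Φ.mem_W_iff]
    simp

theorem sq_W {x : G} (hx : x ∈ Φ.W) : x * x = 1 := by
  rcases Φ.mem_W_iff.1 hx with rfl | rfl | rfl | rfl
  · exact one_mul 1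
  · exact Φ.cfg.z_mul
  · exact Φ.e_sq
  · calc Φ.e * z * (Φ.e * z) = Φ.e * (z * Φ.e) * z := by group
      _ = Φ.e * Φ.e * (z * z) := by rw [← Φ.e_z]; group
      _ = 1 := by rw [Φ.e_sq, Φ.cfg.z_mul, one_mul]

theorem conj_W {c : G} (hc : c ∈ centralizer ({z} : Set G)) {x : G} (hx : x ∈ Φ.W) :
    c * x * c⁻¹ ∈ Φ.W := by
  obtain ⟨hxE, h⟩ := hx
  refine ⟨Φ.conj_mem hc hxE, ?_⟩
  rw [Φ.v_conj' hc hxE]
  rcases h with h | h <;> rw [h]
  · exact Or.inl rfl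
  · refine Or.inr ?_
    have key : ∀ π : Equiv.Perm (Fin 4), permV π one' = one' := by decide +kernel
    exact key _

theorem C_le_normalizer : centralizer ({z} : Set G) ≤ normalizer (Φ.W : Set G) := fun c hc =>
  Subgroup.mem_normalizer_iff.2 fun x => ⟨fun hx => Φ.conj_W hc hx, fun hx => by
    have := Φ.conj_W (inv_mem hc) hx
    simpa [mul_assoc] using this⟩

/-- The centralizer of the four group. -/
def K : Subgroup G := centralizer ({z} : Set G) ⊓ centralizer ({Φ.e} : Set G)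

theorem mem_K {x : G} : x ∈ Φ.K ↔ x * z = z * x ∧ x * Φ.e = Φ.e * x := by
  rw [K, mem_inf, mem_centralizer_singleton_iff, mem_centralizer_singleton_iff]

theorem K_le : Φ.K ≤ centralizer ({z} : Set G) := inf_le_left

theorem K_comm {x w : G} (hx : x ∈ Φ.K) (hw : w ∈ Φ.W) : x * w = w * x := by
  obtain ⟨h1, h2⟩ := Φ.mem_K.1 hx
  rcases Φ.mem_W_iff.1 hw with rfl | rfl | rfl | rfl
  · simp
  · exact h1
  · exact h2
  · exact Commute.mul_right h2 h1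

theorem W_le_K : Φ.W ≤ Φ.K := fun w hw => Φ.mem_K.2 ⟨mem_centralizer_singleton_iff.1 (Φ.cfg.le hw.1),
  (Φ.comm_iff hw.1 Φ.e_mem).2 (by
    rcases hw.2 with h | h <;> rw [h, Φ.v_e] <;> decide)⟩

/-- Two elements of `C` moving `e` differ by an element of `K`. -/
theorem mul_mem_K {c d : G} (hc : c ∈ centralizer ({z} : Set G)) (hc' : c * Φ.e * c⁻¹ = Φ.e * z)
    (hd : d ∈ centralizer ({z} : Set G)) (hd' : d * Φ.e * d⁻¹ = Φ.e * z) : c⁻¹ * d ∈ Φ.K := by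
  refine Φ.mem_K.2 ⟨mem_centralizer_singleton_iff.1 (mul_mem (inv_mem hc) hd),
    mul_inv_eq_iff_eq_mul.1 ?_⟩
  calc c⁻¹ * d * Φ.e * (c⁻¹ * d)⁻¹ = c⁻¹ * (d * Φ.e * d⁻¹) * c := by group
    _ = c⁻¹ * (c * Φ.e * c⁻¹) * c := by rw [hd', hc']
    _ = Φ.e := by group

theorem sq_mem_K {c : G} (hc : c ∈ centralizer ({z} : Set G)) : c * c ∈ Φ.K := by
  refine Φ.mem_K.2 ⟨mem_centralizer_singleton_iff.1 (mul_mem hc hc), mul_inv_eq_iff_eq_mul.1 ?_⟩
  rw [show c * c * Φ.e * (c * c)⁻¹ = c * (c * Φ.e * c⁻¹) * c⁻¹ by group]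
  rcases Φ.conj_e hc with h | h
  · rw [h, h]
  · calc c * (c * Φ.e * c⁻¹) * c⁻¹ = c * (Φ.e * z) * c⁻¹ := by rw [h]
      _ = c * Φ.e * c⁻¹ * (c * z * c⁻¹) := by group
      _ = Φ.e := by
        rw [h, mem_centralizer_singleton_iff.1 hc, mul_inv_cancel_right, mul_assoc, Φ.cfg.z_mul,
          mul_one]

theorem exists_mem_K_act (π : Equiv.Perm (Fin 4)) : ∃ k ∈ Φ.K, Φ.act k = π := by
  obtain ⟨c, hc, hcπ⟩ := Φ.act_surjective π
  rcases Φ.conj_e hc with h | h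
  · exact ⟨c, Φ.mem_K.2 ⟨mem_centralizer_singleton_iff.1 hc, mul_inv_eq_iff_eq_mul.1 h⟩, hcπ⟩
  · obtain ⟨x, hx, hx'⟩ := Φ.exists_conj_ez
    refine ⟨x⁻¹ * c, Φ.mul_mem_K (Φ.cfg.le hx) hx' hc h, ?_⟩
    rw [Φ.act_mul (inv_mem (Φ.cfg.le hx)) hc, Φ.act_inv (Φ.cfg.le hx), Φ.act_of_mem hx, inv_one,
      one_mul, hcπ]

theorem card_K : Nat.card ↥Φ.K = 384 := by
  obtain ⟨x, hx, hx'⟩ := Φ.exists_conj_ez
  have hidx : (Φ.K.subgroupOf (centralizer ({z} : Set G))).index = 2 := by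
    refine Subgroup.index_eq_two_iff.2 ⟨⟨x, Φ.cfg.le hx⟩, fun b => ?_⟩
    simp only [mem_subgroupOf, Subgroup.coe_mul]
    rcases Φ.conj_e b.2 with h | h
    · refine Or.inr ⟨Φ.mem_K.2 ⟨mem_centralizer_singleton_iff.1 b.2, mul_inv_eq_iff_eq_mul.1 h⟩,
        fun hk => ?_⟩
      have hbK : (b : G) ∈ Φ.K :=
        Φ.mem_K.2 ⟨mem_centralizer_singleton_iff.1 b.2, mul_inv_eq_iff_eq_mul.1 h⟩
      have hxK := (Subgroup.mul_mem_cancel_left _ hbK).1 hk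
      have e := (Φ.mem_K.1 hxK).2
      rw [← mul_inv_eq_iff_eq_mul, hx'] at e
      exact Φ.ez_ne.2.2 e
    · refine Or.inl ⟨?_, fun hk => ?_⟩
      · have h' : (b : G)⁻¹ * Φ.e * (b : G)⁻¹⁻¹ = Φ.e * z := by
          rcases Φ.conj_e (inv_mem b.2) with e | e
          · exfalso
            refine Φ.ez_ne.2.2 ?_
            calc Φ.e * z = (b : G) * Φ.e * (b : G)⁻¹ := h.symm
              _ = (b : G) * ((b : G)⁻¹ * Φ.e * (b : G)⁻¹⁻¹) * (b : G)⁻¹ := by rw [e]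
              _ = Φ.e := by group
          · exact e
        simpa using Φ.mul_mem_K (inv_mem b.2) h' (Φ.cfg.le hx) hx'
      · have e := (Φ.mem_K.1 hk).2
        rw [← mul_inv_eq_iff_eq_mul, h] at e
        exact Φ.ez_ne.2.2 e
  have h := (Φ.K.subgroupOf (centralizer ({z} : Set G))).card_mul_index
  rw [hidx, Φ.cfg.card_C, Nat.card_congr (subgroupOfEquivOfLe Φ.K_le).toEquiv] at h
  omega

/-- The largest normal 2-subgroup of the centralizer of the four group. -/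
def R : Subgroup G where
  carrier := {x | x ∈ Φ.K ∧ (Φ.act x = 1 ∨ IsDT (Φ.act x))}
  one_mem' := ⟨one_mem _, Or.inl Φ.act_one⟩
  mul_mem' := by
    rintro a b ⟨ha, h⟩ ⟨hb, h'⟩
    refine ⟨mul_mem ha hb, ?_⟩
    rw [Φ.act_mul (Φ.K_le ha) (Φ.K_le hb)]
    rcases h with h | h
    · rw [h, one_mul]; exact h'
    · rcases h' with h' | h'
      · rw [h', mul_one]; exact Or.inr h
      · exact dt_mul _ _ h h'
  inv_mem' := by
    rintro a ⟨ha, h⟩
    refine ⟨inv_mem ha, ?_⟩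
    rw [Φ.act_inv (Φ.K_le ha)]
    rcases h with h | h
    · rw [h, inv_one]; exact Or.inl rfl
    · exact Or.inr (dt_inv _ h)

theorem mem_R {x : G} : x ∈ Φ.R ↔ x ∈ Φ.K ∧ (Φ.act x = 1 ∨ IsDT (Φ.act x)) := Iff.rfl

theorem R_le_K : Φ.R ≤ Φ.K := fun _ h => h.1

theorem W_le_R : Φ.W ≤ Φ.R := fun _ h => ⟨Φ.W_le_K h, Or.inl (Φ.act_of_mem h.1)⟩

theorem E_inf_K {x : G} (hx : x ∈ E) : x ∈ Φ.K ↔ wt (Φ.v x) = 0 := by
  rw [mem_K, ← Φ.comm_e_iff hx]
  exact ⟨fun h => h.2, fun h => ⟨mem_centralizer_singleton_iff.1 (Φ.cfg.le hx), h⟩⟩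

theorem card_R : Nat.card ↥Φ.R = 64 := by
  classical
  haveI := Fintype.ofFinite G
  choose k hk hkπ using Φ.exists_mem_K_act
  let A := {π : Equiv.Perm (Fin 4) // π = 1 ∨ IsDT π}
  let D := {v : V // wt v = 0}
  let f : (A × D) × ZMod 2 → ↥Φ.R := fun p =>
    ⟨k p.1.1.1 * (Φ.lift p.1.2.1 * Φ.ζ p.2), mul_mem
      ⟨hk _, by rw [hkπ]; exact p.1.1.2⟩
      ⟨mul_mem ((Φ.E_inf_K (Φ.lift_mem _)).2 (by rw [Φ.v_lift]; exact p.1.2.2))
        (Φ.W_le_K ⟨Φ.ζ_mem _, Or.inl (Φ.v_ζ _)⟩),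
      Or.inl (Φ.act_of_mem (mul_mem (Φ.lift_mem _) (Φ.ζ_mem _)))⟩⟩
  have hmem : ∀ (v : V) (a : ZMod 2), Φ.lift v * Φ.ζ a ∈ E := fun v a =>
    mul_mem (Φ.lift_mem _) (Φ.ζ_mem _)
  have hv : ∀ (v : V) (a : ZMod 2), Φ.v (Φ.lift v * Φ.ζ a) = v := fun v a => by
    rw [Φ.v_mul (Φ.lift_mem _) (Φ.ζ_mem _), Φ.v_lift, Φ.v_ζ, add_zero]
  have hf : Function.Bijective f := by
    constructor
    · rintro ⟨⟨π, v⟩, a⟩ ⟨⟨π', v'⟩, a'⟩ e
      have e' := congrArg Subtype.val e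
      simp only [f] at e'
      have h1 := congrArg Φ.act e'
      rw [Φ.act_mul (Φ.K_le (hk _)) (Φ.cfg.le (hmem _ _)), Φ.act_mul (Φ.K_le (hk _))
        (Φ.cfg.le (hmem _ _)), Φ.act_of_mem (hmem _ _), Φ.act_of_mem (hmem _ _), hkπ, hkπ,
        mul_one, mul_one] at h1
      obtain rfl := Subtype.ext h1
      have e2 := mul_left_cancel e'
      have h2 := congrArg Φ.v e2
      rw [hv, hv] at h2
      obtain rfl := Subtype.ext h2
      exact Prod.ext rfl (Φ.ζ_inj (mul_left_cancel e2))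
    · rintro ⟨x, hxK, hxA⟩
      have hxC := Φ.K_le hxK
      set y := (k (Φ.act x))⁻¹ * x with hy
      have hyK : y ∈ Φ.K := mul_mem (inv_mem (hk _)) hxK
      have hyE : y ∈ E := (Φ.act_eq_one_iff (Φ.K_le hyK)).1 (by
        rw [hy, Φ.act_mul (inv_mem (Φ.K_le (hk _))) hxC, Φ.act_inv (Φ.K_le (hk _)), hkπ,
          inv_mul_cancel])
      have hywt := (Φ.E_inf_K hyE).1 hyK
      rcases Φ.eq_of_v_eq hyE (Φ.lift_mem (Φ.v y)) (by rw [Φ.v_lift]) with e | e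
      · refine ⟨((⟨_, hxA⟩, ⟨_, hywt⟩), 0), Subtype.ext ?_⟩
        show k (Φ.act x) * (Φ.lift (Φ.v y) * Φ.ζ 0) = x
        rw [Φ.ζ_zero, mul_one, ← e, hy, mul_inv_cancel_left]
      · refine ⟨((⟨_, hxA⟩, ⟨_, hywt⟩), 1), Subtype.ext ?_⟩
        show k (Φ.act x) * (Φ.lift (Φ.v y) * Φ.ζ 1) = x
        rw [Φ.ζ_one, ← e, hy, mul_inv_cancel_left]
  rw [← Nat.card_congr (Equiv.ofBijective f hf), Nat.card_prod, Nat.card_prod,
    Nat.card_eq_fintype_card, Nat.card_eq_fintype_card, Nat.card_eq_fintype_card,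
    Fintype.card_subtype, Fintype.card_subtype, card_dt, card_wt, ZMod.card]

theorem isPGroup_R : IsPGroup 2 ↥Φ.R := IsPGroup.of_card (n := 6) (by rw [card_R]; norm_num)

theorem isTwoElt_act {x : G} (hxC : x ∈ centralizer ({z} : Set G)) {k : ℕ} (hk : x ^ 2 ^ k = 1) :
    IsTwoElt (Φ.act x) := by
  have hp : ∀ m : ℕ, Φ.act (x ^ m) = Φ.act x ^ m := by
    intro m
    induction m with
    | zero => rw [pow_zero, pow_zero, act_one]
    | succ m ih => rw [pow_succ, pow_succ, Φ.act_mul (pow_mem hxC m) hxC, ih]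
  have h1 : orderOf (Φ.act x) ∣ 2 ^ k := orderOf_dvd_of_pow_eq_one (by rw [← hp, hk, act_one])
  obtain ⟨j, -, hj⟩ := (Nat.dvd_prime_pow Nat.prime_two).1 h1
  have h2 : orderOf (Φ.act x) ∣ 24 := by
    have := orderOf_dvd_natCard (Φ.act x)
    rwa [Nat.card_eq_fintype_card, Fintype.card_perm, Fintype.card_fin] at this
  have h3 : orderOf (Φ.act x) ∣ 8 := by
    rw [hj] at h2 ⊢
    exact (Nat.Coprime.pow_left j (by norm_num : Nat.Coprime 2 3)).dvd_of_dvd_mul_right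
      (by simpa using h2)
  show _ = 1
  calc _ = Φ.act x ^ 8 := by simp only [pow_succ, pow_zero, one_mul, mul_assoc]
    _ = 1 := orderOf_dvd_iff_pow_eq_one.1 h3

/-- Conjugation permuting the four group. -/
theorem conj_K {n : G} (hn : ∀ w ∈ Φ.W, n⁻¹ * w * n ∈ Φ.W) {x : G} (hx : x ∈ Φ.K) :
    n * x * n⁻¹ ∈ Φ.K := by
  have key : ∀ w ∈ Φ.W, n * x * n⁻¹ * w = w * (n * x * n⁻¹) := fun w hw => by
    calc n * x * n⁻¹ * w = n * (x * (n⁻¹ * w * n)) * n⁻¹ := by group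
      _ = n * ((n⁻¹ * w * n) * x) * n⁻¹ := by rw [Φ.K_comm hx (hn w hw)]
      _ = w * (n * x * n⁻¹) := by group
  exact Φ.mem_K.2 ⟨key _ Φ.z_mem_W, key _ Φ.e_mem_W⟩

/-- The subgroup is normalized by the normalizer of the four group. -/
theorem conj_R {n : G} (hn : n ∈ normalizer (Φ.W : Set G)) {x : G} (hx : x ∈ Φ.R) :
    n * x * n⁻¹ ∈ Φ.R := by
  have h1 : ∀ w ∈ Φ.W, n⁻¹ * w * n ∈ Φ.W := fun w hw => by
    have := (Subgroup.mem_normalizer_iff.1 (inv_mem hn) w).1 hw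
    rwa [inv_inv] at this
  have h2 : ∀ w ∈ Φ.W, n⁻¹⁻¹ * w * n⁻¹ ∈ Φ.W := fun w hw => by
    rw [inv_inv]; exact (Subgroup.mem_normalizer_iff.1 hn w).1 hw
  have hyK := Φ.conj_K h1 hx.1
  have hyC := Φ.K_le hyK
  have two : ∀ a ∈ Φ.R, ∃ k, (n * a * n⁻¹) ^ 2 ^ k = 1 := fun a ha => by
    obtain ⟨k, hk⟩ := Φ.isPGroup_R ⟨a, ha⟩
    exact ⟨k, by rw [conj_pow, show a ^ 2 ^ k = 1 from congrArg Subtype.val hk]; group⟩
  obtain ⟨k, hk⟩ := two x hx
  refine ⟨hyK, fitting_four _ (Φ.isTwoElt_act hyC hk) fun σ => ?_⟩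
  obtain ⟨m, hm, hmσ⟩ := Φ.exists_mem_K_act σ
  set m' := n⁻¹ * m * n with hm'
  have hm'K : m' ∈ Φ.K := by
    have := Φ.conj_K h2 hm
    rwa [inv_inv] at this
  have hconjR : m' * x * m'⁻¹ ∈ Φ.R := by
    refine ⟨mul_mem (mul_mem hm'K hx.1) (inv_mem hm'K), ?_⟩
    rw [Φ.conj_centralizer (Φ.K_le hm'K) (Φ.K_le hx.1)]
    rcases hx.2 with h | h
    · rw [h, mul_one, mul_inv_cancel]; exact Or.inl rfl
    · exact Or.inr (dt_conj _ _ h)
  obtain ⟨j, hj⟩ := two _ (mul_mem hx hconjR)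
  have e : n * (x * (m' * x * m'⁻¹)) * n⁻¹ = n * x * n⁻¹ * (m * (n * x * n⁻¹) * m⁻¹) := by
    rw [hm']; group
  rw [e] at hj
  have hmC := Φ.K_le hm
  have := Φ.isTwoElt_act (mul_mem hyC (mul_mem (mul_mem hmC hyC) (inv_mem hmC))) hj
  rw [Φ.act_mul hyC (mul_mem (mul_mem hmC hyC) (inv_mem hmC)), Φ.conj_centralizer hmC hyC,
    hmσ] at this
  exact this

variable (hns : ¬ Group.IsSolvable G)
include hns

/-- An element moving `e` to `z` normalizes the four group. -/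
theorem exists_rotation : ∃ g : G, g * Φ.e * g⁻¹ = z ∧ g ∈ normalizer (Φ.W : Set G) := by
  obtain ⟨g, hg⟩ := Φ.fused_e hns
  refine ⟨g, hg, ?_⟩
  set u := g * z * g⁻¹ with hu
  have hu2 : u * u = 1 := by
    rw [hu, show g * z * g⁻¹ * (g * z * g⁻¹) = g * (z * z) * g⁻¹ by group, Φ.cfg.z_mul]; group
  have huC : u ∈ centralizer ({z} : Set G) := by
    refine mem_centralizer_singleton_iff.2 ?_
    rw [hu]
    calc g * z * g⁻¹ * z = g * z * g⁻¹ * (g * Φ.e * g⁻¹) := by rw [hg]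
      _ = g * (z * Φ.e) * g⁻¹ := by group
      _ = g * (Φ.e * z) * g⁻¹ := by rw [Φ.e_z]
      _ = (g * Φ.e * g⁻¹) * (g * z * g⁻¹) := by group
      _ = z * (g * z * g⁻¹) := by rw [hg]
  -- the conjugate of `K` centralizes `u` and has index two in `C`
  set K' := Φ.K.map (MulAut.conj g).toMonoidHom with hK'
  have hK'C : K' ≤ centralizer ({z} : Set G) ⊓ centralizer ({u} : Set G) := by
    rintro _ ⟨k, hk, rfl⟩
    obtain ⟨h1, h2⟩ := Φ.mem_K.1 hk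
    refine mem_inf.2 ⟨mem_centralizer_singleton_iff.2 ?_, mem_centralizer_singleton_iff.2 ?_⟩
    · rw [← hg]
      show MulAut.conj g k * MulAut.conj g Φ.e = MulAut.conj g Φ.e * MulAut.conj g k
      rw [← map_mul, ← map_mul, h2]
    · show MulAut.conj g k * MulAut.conj g z = MulAut.conj g z * MulAut.conj g k
      rw [← map_mul, ← map_mul, h1]
  set L := K'.subgroupOf (centralizer ({z} : Set G)) with hL
  have hidx : L.index = 2 := by
    have h := L.card_mul_index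
    rw [hL, Nat.card_congr (subgroupOfEquivOfLe (hK'C.trans inf_le_left)).toEquiv, hK',
      Subgroup.card_map_of_injective (MulAut.conj g).injective, Φ.card_K, Φ.cfg.card_C] at h
    rw [hL, hK']
    omega
  have hsqc : ∀ c ∈ centralizer ({z} : Set G), c * c * u = u * (c * c) := fun c hc => by
    have h := Subgroup.sq_mem_of_index_two hidx ⟨c, hc⟩
    have h' : c * c ∈ K' := by
      have := mem_subgroupOf.1 h
      simpa [sq] using this
    exact mem_centralizer_singleton_iff.1 (mem_inf.1 (hK'C h')).2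
  have hact : Φ.act u = 1 := squares_centralizer _ fun σ => by
    obtain ⟨c, hc, rfl⟩ := Φ.act_surjective σ
    rw [← Φ.act_mul hc hc, ← Φ.act_mul huC (mul_mem hc hc), ← Φ.act_mul (mul_mem hc hc) huC,
      hsqc c hc]
  have huE := (Φ.act_eq_one_iff huC).1 hact
  have huW : u ∈ Φ.W := ⟨huE, squares_fixed _ ((Φ.sq_one_iff huE).1 hu2) fun σ => by
    obtain ⟨c, hc, rfl⟩ := Φ.act_surjective σ
    rw [← Φ.act_mul hc hc, ← Φ.v_conj' (mul_mem hc hc) huE, hsqc c hc, mul_inv_cancel_right]⟩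
  have hle : ∀ x ∈ Φ.W, g * x * g⁻¹ ∈ Φ.W := by
    intro x hx
    rcases Φ.mem_W_iff.1 hx with rfl | rfl | rfl | rfl
    · simp
    · exact huW
    · rw [hg]; exact Φ.z_mem_W
    · rw [show g * (Φ.e * z) * g⁻¹ = g * Φ.e * g⁻¹ * u by rw [hu]; group, hg]
      exact mul_mem Φ.z_mem_W huW
  refine L34Sylow67.normalizer_iff_map.2 (Subgroup.eq_of_le_of_card_ge ?_
    (Subgroup.card_map_of_injective (MulAut.conj g).injective).ge)
  rintro _ ⟨x, hx, rfl⟩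
  exact hle x hx

/-- The normalizer moves `z` to every involution of the four group. -/
theorem exists_move {w : G} (hw : w ∈ Φ.W) (hw1 : w ≠ 1) :
    ∃ n ∈ normalizer (Φ.W : Set G), n * z * n⁻¹ = w := by
  obtain ⟨g, hg, hgN⟩ := Φ.exists_rotation hns
  obtain ⟨x, hx, hx'⟩ := Φ.exists_conj_ez
  have h : g⁻¹ * z * g⁻¹⁻¹ = Φ.e := by
    calc g⁻¹ * z * g⁻¹⁻¹ = g⁻¹ * (g * Φ.e * g⁻¹) * g⁻¹⁻¹ := by rw [hg]
      _ = Φ.e := by group
  rcases Φ.mem_W_iff.1 hw with rfl | rfl | rfl | rfl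
  · exact absurd rfl hw1
  · exact ⟨1, one_mem _, by group⟩
  · exact ⟨g⁻¹, inv_mem hgN, h⟩
  · refine ⟨x * g⁻¹, mul_mem (Φ.C_le_normalizer (Φ.cfg.le hx)) (inv_mem hgN), ?_⟩
    calc x * g⁻¹ * z * (x * g⁻¹)⁻¹ = x * (g⁻¹ * z * g⁻¹⁻¹) * x⁻¹ := by group
      _ = Φ.e * z := by rw [h, hx']

/-- The order of the normalizer. -/
theorem card_normalizer : Nat.card ↥(normalizer (Φ.W : Set G)) = 2304 := by
  classical
  set N := normalizer (Φ.W : Set G) with hN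
  choose m hm hmz using fun w : {w : ↥Φ.W // w ≠ 1} =>
    Φ.exists_move hns w.1.2 (fun e => w.2 (Subtype.ext e))
  let f : {w : ↥Φ.W // w ≠ 1} × ↥(centralizer ({z} : Set G)) → ↥N :=
    fun p => ⟨m p.1 * p.2, mul_mem (hm _) (Φ.C_le_normalizer p.2.2)⟩
  have hf : Function.Bijective f := by
    constructor
    · rintro ⟨w, c⟩ ⟨w', c'⟩ e
      have e' : m w * c = m w' * c' := congrArg Subtype.val e
      have hz : ∀ (a : G) (c : ↥(centralizer ({z} : Set G))), a * c * z * (a * c)⁻¹ = a * z * a⁻¹ :=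
        fun a c => by
          calc a * c * z * (a * c)⁻¹ = a * ((c : G) * z) * (c : G)⁻¹ * a⁻¹ := by group
            _ = a * z * a⁻¹ := by rw [mem_centralizer_singleton_iff.1 c.2]; group
      have hww : ((w.1 : ↥Φ.W) : G) = (w'.1 : ↥Φ.W) := by
        calc ((w.1 : ↥Φ.W) : G) = m w * z * (m w)⁻¹ := (hmz w).symm
          _ = m w * c * z * (m w * c)⁻¹ := (hz _ c).symm
          _ = m w' * c' * z * (m w' * c')⁻¹ := by rw [e']
          _ = m w' * z * (m w')⁻¹ := hz _ c'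
          _ = _ := hmz w'
      obtain rfl : w = w' := Subtype.ext (Subtype.ext hww)
      exact Prod.ext rfl (Subtype.ext (mul_left_cancel e'))
    · rintro ⟨n, hn⟩
      have hw : n * z * n⁻¹ ∈ Φ.W := (Subgroup.mem_normalizer_iff.1 hn z).1 Φ.z_mem_W
      set w : {w : ↥Φ.W // w ≠ 1} := ⟨⟨_, hw⟩, fun e => Φ.cfg.z_ne
        (conj_eq_one_iff.1 (congrArg Subtype.val e :))⟩ with hw'
      refine ⟨(w, ⟨(m w)⁻¹ * n, mem_centralizer_singleton_iff.2 (mul_inv_eq_iff_eq_mul.1 ?_)⟩),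
        Subtype.ext (by show m w * ((m w)⁻¹ * n) = n; group)⟩
      have e : n * z * n⁻¹ = m w * z * (m w)⁻¹ := (hmz w).symm
      calc (m w)⁻¹ * n * z * ((m w)⁻¹ * n)⁻¹ = (m w)⁻¹ * (n * z * n⁻¹) * m w := by group
        _ = z := by rw [e]; group
  have h3 : Nat.card {w : ↥Φ.W // w ≠ 1} = 3 := by
    haveI := Fintype.ofFinite ↥Φ.W
    rw [Nat.card_eq_fintype_card, Fintype.card_subtype_compl, Fintype.card_subtype_eq,
      ← Nat.card_eq_fintype_card, Φ.card_W]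
  rw [← Nat.card_congr (Equiv.ofBijective f hf), Nat.card_prod, h3, Φ.cfg.card_C]

end Cfsg.Agent.Lib.Aut34Cent67.Mark
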