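import Cfsg.Agent.Lib.Aut34Cent67.Coords
import Cfsg.Agent.Lib.L34Sylow67.Local
import Cfsg.Agent.Lib.L34Sylow67.Plane

/-!
# The conjugates of `z` in its centralizer

helper67.  They lie in the subgroup of order 64; the involutions outside it are not fused into it,
and those conjugate to an involution of `E` outside it are conjugate in the centralizer.
-/

set_option autoImplicit false
set_option linter.unusedSectionVars false
set_option linter.style.haveILetI false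

open Subgroup

namespace Cfsg.Agent.Lib.Aut34Cent67.Mark

universe u w

open L34Sylow67 (Frame)

variable {G : Type u} [Group G] [Finite G] {z : G} {E : Subgroup G} (Φ : Mark z E)
  {F : Type w} [Field F] [Fintype F] (Ψ : Frame F Φ.R)
  (hΨ : ∀ g : G, g ∈ Φ.W ↔ ∃ x : F, Ψ.a (x, 0) = g)

include hΨ

theorem W_le_A : Φ.W ≤ Ψ.A := fun g hg => by
  obtain ⟨x, rfl⟩ := (hΨ g).1 hg
  exact ⟨_, rfl⟩

theorem W_le_B : Φ.W ≤ Ψ.B := fun g hg => by
  obtain ⟨x, rfl⟩ := (hΨ g).1 hg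
  exact Ψ.mem_B_iff.2 rfl

theorem A_inf_B {x : G} (hA : x ∈ Ψ.A) (hB : x ∈ Ψ.B) : x ∈ Φ.W := by
  obtain ⟨v, rfl⟩ := hA
  exact (hΨ _).2 ⟨v.1, congrArg Ψ.a (Prod.ext rfl (Ψ.mem_B_iff.1 hB).symm)⟩

omit hΨ in
theorem inf_E {x : G} (hR : x ∈ Φ.R) (hE : x ∈ E) (h : x * x = 1) : x ∈ Φ.W := by
  refine ⟨hE, ?_⟩
  have hwt := (Φ.E_inf_K hE).1 hR.1
  rcases sing_cases _ ((Φ.sq_one_iff hE).1 h) with e | e | ⟨i, e⟩
  · exact Or.inl e
  · exact Or.inr e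
  · rw [e, wt_unit] at hwt
    exact absurd hwt one_ne_zero

omit hΨ in
theorem act_dt {x : G} (hR : x ∈ Φ.R) (h : x * x = 1) (hW : x ∉ Φ.W) : IsDT (Φ.act x) :=
  hR.2.resolve_left fun e => hW (Φ.inf_E hR ((Φ.act_eq_one_iff (Φ.K_le hR.1)).1 e) h)

/-- Elements of `A` and `B` outside the four group do not commute. -/
theorem not_commute {a b : G} (ha : a ∈ Ψ.A) (haW : a ∉ Φ.W) (hb : b ∈ Ψ.B) (hbW : b ∉ Φ.W) :
    a * b ≠ b * a := fun h => hbW (Φ.A_inf_B Ψ hΨ (by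
  obtain ⟨v, rfl⟩ := ha
  have hv : v.2 ≠ 0 := fun e => haW ((hΨ _).2 ⟨v.1, congrArg Ψ.a (Prod.ext rfl e.symm)⟩)
  exact Ψ.mem_A_of_comm (Ψ.B_le hb) hv h.symm) hb)

omit hΨ in
theorem conj_R_C {c : G} (hc : c ∈ centralizer ({z} : Set G)) {x : G} (hx : x ∈ Φ.R) :
    c * x * c⁻¹ ∈ Φ.R := Φ.conj_R (Φ.C_le_normalizer hc) hx

omit hΨ in
/-- An element of the normalizer of the four group permutes `A` and `B`. -/
theorem conj_AB {n : G} (hn : n ∈ normalizer (Φ.W : Set G)) :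
    Ψ.A.map (MulAut.conj n).toMonoidHom = Ψ.A ∨ Ψ.A.map (MulAut.conj n).toMonoidHom = Ψ.B :=
  Ψ.eq_or_eq (by rintro _ ⟨x, hx, rfl⟩; exact Φ.conj_R hn (Ψ.A_le hx)) (Ψ.conj_sub n)
    (Ψ.card_conj n).ge

omit hΨ in
/-- An involution either fixes or interchanges `A` and `B`. -/
theorem fix_or_swap {u : G} (hu : u ∈ centralizer ({z} : Set G)) (_hu2 : u * u = 1) :
    ((∀ a ∈ Ψ.A, u * a * u⁻¹ ∈ Ψ.A) ∧ ∀ b ∈ Ψ.B, u * b * u⁻¹ ∈ Ψ.B) ∨
      ((∀ a ∈ Ψ.A, u * a * u⁻¹ ∈ Ψ.B) ∧ ∀ b ∈ Ψ.B, u * b * u⁻¹ ∈ Ψ.A) := by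
  have hA := Φ.conj_AB Ψ (Φ.C_le_normalizer hu)
  have hB := Φ.conj_AB Ψ.symm (Φ.C_le_normalizer hu)
  simp only [Frame.symm_A, Frame.symm_B] at hB
  have hne : Ψ.A.map (MulAut.conj u).toMonoidHom ≠ Ψ.B.map (MulAut.conj u).toMonoidHom := fun e =>
    Ψ.A_ne_B (Subgroup.map_injective (f := (MulAut.conj u).toMonoidHom) (MulAut.conj u).injective e)
  rcases hA with hA | hA <;> rcases hB with hB | hB
  · exact Or.inl ⟨fun a ha => hA ▸ ⟨a, ha, rfl⟩, fun b hb => hB ▸ ⟨b, hb, rfl⟩⟩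
  · exact absurd (hA.trans hB.symm) hne
  · exact absurd (hA.trans hB.symm) hne
  · exact Or.inr ⟨fun a ha => hA ▸ ⟨a, ha, rfl⟩, fun b hb => hB ▸ ⟨b, hb, rfl⟩⟩

/-- An involution of `E` of weight one interchanges `A` and `B`. -/
theorem unit_swap {τ : G} (hτ : τ ∈ E) {i : Fin 4} (hv : Φ.v τ = unit i) :
    (∀ a ∈ Ψ.A, τ * a * τ⁻¹ ∈ Ψ.B) ∧ ∀ b ∈ Ψ.B, τ * b * τ⁻¹ ∈ Ψ.A := by
  have hτ2 : τ * τ = 1 := (Φ.sq_one_iff hτ).2 (by rw [hv, quad_unit])
  refine (Φ.fix_or_swap Ψ (Φ.cfg.le hτ) hτ2).resolve_left fun ⟨hfix, _⟩ => ?_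
  set a := Ψ.a (0, 1) with ha
  have haA : a ∈ Ψ.A := ⟨_, rfl⟩
  have haR := Ψ.A_le haA
  have haC := Φ.K_le haR.1
  have haW : a ∉ Φ.W := fun h => by
    obtain ⟨x, hx⟩ := (hΨ a).1 h
    exact zero_ne_one (congrArg Prod.snd (Ψ.a_inj hx))
  have hdt := Φ.act_dt haR (Ψ.a_sq _) haW
  set d := a * τ * a⁻¹ * τ⁻¹ with hd
  have hdA : d ∈ Ψ.A := by
    rw [show d = a * (τ * a⁻¹ * τ⁻¹) by rw [hd]; group]
    exact mul_mem haA (hfix _ (inv_mem haA))
  have hdE : d ∈ E := mul_mem (Φ.conj_mem haC hτ) (inv_mem hτ)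
  have hdW := (Φ.inf_E (Ψ.A_le hdA) hdE (Ψ.sq_of_mem hdA)).2
  rw [hd, Φ.v_mul (Φ.conj_mem haC hτ) (inv_mem hτ), Φ.v_inv hτ, Φ.v_conj' haC hτ, hv] at hdW
  exact unit_dt_move i _ hdt hdW

/-- An involution of the centralizer of the four group acting as a transposition centralizes only
the four group. -/
theorem transposition_centralizer {u : G} (huK : u ∈ Φ.K) (hu2 : u * u = 1) {a b : Fin 4}
    (hab : a ≠ b) (hact : Φ.act u = Equiv.swap a b) {r : G} (hr : r ∈ Φ.R)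
    (hc : u * r = r * u) : r ∈ Φ.W := by
  have huC := Φ.K_le huK
  have hWfix : ∀ w ∈ Φ.W, u * w * u⁻¹ = w := fun w hw => by
    rw [Φ.K_comm huK hw, mul_inv_cancel_right]
  have hu' : u⁻¹ = u := inv_eq_of_mul_eq_one_right hu2
  -- `u` interchanges `A` and `B`
  obtain ⟨hAB, hBA⟩ := (Φ.fix_or_swap Ψ huC hu2).resolve_left fun ⟨hfA, hfB⟩ => by
    -- otherwise some elements of `A` and `B` with distinct images are stable up to `W`
    obtain ⟨σ, τ', hσ, hτ', hfix, hmove⟩ : ∃ σ τ' : Equiv.Perm (Fin 4), IsDT σ ∧ IsDT τ' ∧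
        Equiv.swap a b * σ * (Equiv.swap a b)⁻¹ = σ ∧
        Equiv.swap a b * τ' * (Equiv.swap a b)⁻¹ = σ * τ' := by
      have key : ∀ a b : Fin 4, a ≠ b → ∃ σ τ' : Equiv.Perm (Fin 4), IsDT σ ∧ IsDT τ' ∧
          Equiv.swap a b * σ * (Equiv.swap a b)⁻¹ = σ ∧
          Equiv.swap a b * τ' * (Equiv.swap a b)⁻¹ = σ * τ' := by decide +kernel
      exact key a b hab
    have hex : ∀ (H : Subgroup G), H ≤ Φ.R → Nat.card ↥H = 16 → (∀ x ∈ H, x * x = 1) →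
        ∀ π, IsDT π → ∃ x ∈ H, Φ.act x = π := by
      intro H hH h16 hsq π hπ
      classical
      haveI := Fintype.ofFinite G
      by_contra hno
      push Not at hno
      -- the image misses `π`, so the fibre over `1` is too large
      let s : Finset G := Finset.univ.filter (fun x => x ∈ H)
      have hs : s.card = 16 := by
        rw [← h16, Nat.card_eq_fintype_card, Fintype.card_subtype]
      have hmap : ∀ x ∈ s, Φ.act x ∈ ((Finset.univ.filter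
          fun π : Equiv.Perm (Fin 4) => π = 1 ∨ IsDT π).erase π) := by
        intro x hx
        have hxH : x ∈ H := by simpa [s] using hx
        exact Finset.mem_erase.2 ⟨hno x hxH, Finset.mem_filter.2 ⟨Finset.mem_univ _, (hH hxH).2⟩⟩
      have hcard := Finset.card_eq_sum_card_fiberwise hmap
      have hfib : ∀ q, (s.filter fun x => Φ.act x = q).card ≤ 4 := by
        intro q
        rcases (s.filter fun x => Φ.act x = q).eq_empty_or_nonempty with h | ⟨x₀, hx₀⟩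
        · rw [h]; simp
        have hW4 : (Finset.univ.filter fun x => x ∈ Φ.W).card = 4 := by
          rw [← Φ.card_W, Nat.card_eq_fintype_card, Fintype.card_subtype]
        refine le_of_le_of_eq ?_ hW4
        refine Finset.card_le_card_of_injOn (fun x => x₀ * x) (fun x hx => ?_)
          (fun x _ y _ e => mul_left_cancel e)
        simp only [Finset.mem_coe, Finset.mem_filter, s, Finset.mem_univ, true_and] at hx hx₀ ⊢
        have hm := mul_mem hx₀.1 hx.1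
        refine Φ.inf_E (hH hm) ?_ (hsq _ hm)
        refine (Φ.act_eq_one_iff (Φ.K_le (hH hm).1)).1 ?_
        rw [Φ.act_mul (Φ.K_le (hH hx₀.1).1) (Φ.K_le (hH hx.1).1), hx₀.2, hx.2, ← hx.2,
          ← Φ.act_mul (Φ.K_le (hH hx.1).1) (Φ.K_le (hH hx.1).1), hsq x hx.1, act_one]
      have h3 : ((Finset.univ.filter fun π : Equiv.Perm (Fin 4) => π = 1 ∨ IsDT π).erase π).card
          = 3 := by
        rw [Finset.card_erase_of_mem, card_dt]
        exact Finset.mem_filter.2 ⟨Finset.mem_univ _, Or.inr hπ⟩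
      have := Finset.sum_le_card_nsmul ((Finset.univ.filter
          fun π : Equiv.Perm (Fin 4) => π = 1 ∨ IsDT π).erase π)
        (fun q => (s.filter fun x => Φ.act x = q).card) 4 (fun q _ => hfib q)
      rw [← hcard, hs, h3, smul_eq_mul] at this
      omega
    obtain ⟨x, hxA, hxσ⟩ := hex Ψ.A Ψ.A_le Ψ.card_A (fun x hx => Ψ.sq_of_mem hx) σ hσ
    obtain ⟨y, hyB, hyτ⟩ := hex Ψ.B Ψ.B_le Ψ.card_B (fun x hx => Ψ.symm.sq_of_mem hx) τ' hτ'
    obtain ⟨y₁, hy₁B, hy₁⟩ := hex Ψ.B Ψ.B_le Ψ.card_B (fun x hx => Ψ.symm.sq_of_mem hx) σ hσ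
    have hxR := Ψ.A_le hxA
    have hyR := Ψ.B_le hyB
    have hy₁R := Ψ.B_le hy₁B
    -- the conjugates
    set w₁ := x⁻¹ * (u * x * u⁻¹) with hw₁
    have hw₁W : w₁ ∈ Φ.W := by
      have hm : w₁ ∈ Ψ.A := mul_mem (inv_mem hxA) (hfA x hxA)
      refine Φ.inf_E (Ψ.A_le hm) ?_ (Ψ.sq_of_mem hm)
      refine (Φ.act_eq_one_iff (Φ.K_le (Ψ.A_le hm).1)).1 ?_
      rw [hw₁, Φ.act_mul (inv_mem (Φ.K_le hxR.1)) (mul_mem (mul_mem huC (Φ.K_le hxR.1)) (inv_mem huC)),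
        Φ.conj_centralizer huC (Φ.K_le hxR.1), Φ.act_inv (Φ.K_le hxR.1), hact, hxσ, hfix,
        inv_mul_cancel]
    set w₂ := (y₁ * y)⁻¹ * (u * y * u⁻¹) with hw₂
    have hw₂W : w₂ ∈ Φ.W := by
      have hm : w₂ ∈ Ψ.B := mul_mem (inv_mem (mul_mem hy₁B hyB)) (hfB y hyB)
      refine Φ.inf_E (Ψ.B_le hm) ?_ (Ψ.symm.sq_of_mem hm)
      refine (Φ.act_eq_one_iff (Φ.K_le (Ψ.B_le hm).1)).1 ?_
      rw [hw₂, Φ.act_mul (inv_mem (mul_mem (Φ.K_le hy₁R.1) (Φ.K_le hyR.1)))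
        (mul_mem (mul_mem huC (Φ.K_le hyR.1)) (inv_mem huC)),
        Φ.conj_centralizer huC (Φ.K_le hyR.1), Φ.act_inv (mul_mem (Φ.K_le hy₁R.1) (Φ.K_le hyR.1)),
        Φ.act_mul (Φ.K_le hy₁R.1) (Φ.K_le hyR.1), hact, hy₁, hyτ, hmove, inv_mul_cancel]
    -- the commutators
    have hbrW : br x y ∈ Φ.W := by
      refine Φ.A_inf_B Ψ hΨ ?_ ?_
      · rw [show br x y = x * (y * x⁻¹ * y⁻¹) by simp only [br]; group]
        exact mul_mem hxA (Ψ.normal_A hyR (inv_mem hxA))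
      · exact mul_mem (Ψ.normal_B hxR hyB) (inv_mem hyB)
    have e1 : br (u * x * u⁻¹) (u * y * u⁻¹) = br x y := by
      rw [show br (u * x * u⁻¹) (u * y * u⁻¹) = u * br x y * u⁻¹ by simp only [br]; group,
        hWfix _ hbrW]
    have hux : u * x * u⁻¹ = x * w₁ := by rw [hw₁]; group
    have huy : u * y * u⁻¹ = y₁ * y * w₂ := by rw [hw₂]; group
    have hW1 : ∀ r ∈ Φ.R, Commute r w₁ := fun r hr => Φ.K_comm (Φ.R_le_K hr) hw₁W
    have hW2 : ∀ r ∈ Φ.R, Commute r w₂ := fun r hr => Φ.K_comm (Φ.R_le_K hr) hw₂W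
    have e2 : br (x * w₁) (y₁ * y * w₂) = br x (y₁ * y) := by
      simp only [br]
      calc x * w₁ * (y₁ * y * w₂) * (x * w₁)⁻¹ * (y₁ * y * w₂)⁻¹
          = x * (w₁ * (y₁ * y)) * (w₂ * w₁⁻¹) * x⁻¹ * w₂⁻¹ * (y₁ * y)⁻¹ := by group
        _ = x * (y₁ * y) * (w₁ * w₁⁻¹) * (w₂ * x⁻¹) * w₂⁻¹ * (y₁ * y)⁻¹ := by
            rw [← (hW1 _ (mul_mem hy₁R hyR)).eq, ((hW1 _ (Φ.W_le_R hw₂W)).inv_right).eq]; group
        _ = x * (y₁ * y) * x⁻¹ * (y₁ * y)⁻¹ := by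
            rw [← ((hW2 _ hxR).inv_left).eq]; group
    rw [hux, huy, e2] at e1
    have hxy₁ : x * y₁ = y₁ * x := by
      have e3 : br x (y₁ * y) = br x y₁ * (y₁ * br x y * y₁⁻¹) := by simp only [br]; group
      rw [e3, Φ.K_comm (Φ.R_le_K hy₁R) hbrW, mul_inv_cancel_right, mul_eq_right] at e1
      exact mul_inv_eq_iff_eq_mul.1 (mul_inv_eq_one.1 e1)
    have hnW : ∀ {t : G} {π : Equiv.Perm (Fin 4)}, Φ.act t = π → IsDT π → t ∉ Φ.W := by
      intro t π ht hπ hW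
      rw [Φ.act_of_mem hW.1] at ht
      exact (hπ 0).1 (by rw [← ht]; rfl)
    exact Φ.not_commute Ψ hΨ hxA (hnW hxσ hσ) hy₁B (hnW hy₁ hσ) hxy₁
  obtain ⟨v, y, hr'⟩ := Ψ.exists_eq hr
  set x := Ψ.a v with hxdef
  set b' := Ψ.b (0, y) with hb'
  have hxA : x ∈ Ψ.A := ⟨_, rfl⟩
  have hbB : b' ∈ Ψ.B := ⟨_, rfl⟩
  set xu := u * x * u⁻¹ with hxu
  set bu := u * b' * u⁻¹ with hbu
  have hxuB : xu ∈ Ψ.B := hAB x hxA
  have hbuA : bu ∈ Ψ.A := hBA b' hbB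
  have heq : x * b' = xu * bu := by
    calc x * b' = u * (x * b') * u⁻¹ := by rw [← hr', hc, mul_inv_cancel_right]
      _ = xu * bu := by rw [hxu, hbu]; group
  set w := x⁻¹ * bu with hw
  have hwW : w ∈ Φ.W := by
    refine Φ.A_inf_B Ψ hΨ (mul_mem (inv_mem hxA) hbuA) ?_
    have e : x⁻¹ * bu = b' * (bu⁻¹ * xu⁻¹ * bu) := by
      calc x⁻¹ * bu = x⁻¹ * (x * b') * (xu * bu)⁻¹ * bu := by rw [heq]; group
        _ = b' * (bu⁻¹ * xu⁻¹ * bu) := by group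
    rw [hw, e, show bu⁻¹ * xu⁻¹ * bu = bu⁻¹ * xu⁻¹ * bu⁻¹⁻¹ by group]
    exact mul_mem hbB (Ψ.normal_B (inv_mem (Ψ.A_le hbuA)) (inv_mem hxuB))
  have hwR := fun r hr => (Φ.K_comm (Φ.R_le_K (x := r) hr) hwW : r * w = w * r)
  have hbu' : bu = x * w := by rw [hw]; group
  have hxu' : xu = b' * w := by
    have e : b' = xu * w := by
      calc b' = (u * u) * b' * (u * u)⁻¹ := by rw [hu2]; group
        _ = u * bu * u⁻¹ := by rw [hbu]; group
        _ = xu * (u * w * u⁻¹) := by rw [hbu', hxu]; group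
        _ = xu * w := by rw [hWfix w hwW]
    rw [e, mul_assoc, Φ.sq_W hwW, mul_one]
  have hcomm : x * b' = b' * x := by
    calc x * b' = xu * bu := heq
      _ = b' * (w * x) * w := by rw [hxu', hbu']; simp only [mul_assoc]
      _ = b' * x * (w * w) := by rw [← hwR x (Ψ.A_le hxA)]; group
      _ = b' * x := by rw [Φ.sq_W hwW, mul_one]
  have hconjW : ∀ t : G, u * t * u⁻¹ ∈ Φ.W → t ∈ Φ.W := fun t ht => by
    have := hWfix _ ht
    rw [show u * t * u⁻¹ = t from (MulAut.conj u).injective this] at ht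
    exact ht
  by_cases hxW : x ∈ Φ.W
  · have hbuW : bu ∈ Φ.W := by rw [hbu']; exact mul_mem hxW hwW
    rw [hr']
    exact mul_mem hxW (hconjW b' hbuW)
  · by_cases hbW : b' ∈ Φ.W
    · have hxuW : xu ∈ Φ.W := by rw [hxu']; exact mul_mem hbW hwW
      exact absurd (hconjW x hxuW) hxW
    · exact absurd hcomm (Φ.not_commute Ψ hΨ hxA hxW hbB hbW)

/-- The conjugates of `z` in its centralizer. -/
theorem z_class {g : G} (hu : g * z * g⁻¹ ∈ centralizer ({z} : Set G)) :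
    g * z * g⁻¹ ∈ Φ.R := by
  set u := g * z * g⁻¹ with hu'
  have hu2 : u * u = 1 := by
    rw [hu', show g * z * g⁻¹ * (g * z * g⁻¹) = g * (z * z) * g⁻¹ by group, Φ.cfg.z_mul]; group
  rcases perm_cases _ (Φ.act_sq hu hu2) with h | h | ⟨a, b, hab, h⟩
  · have huE := (Φ.act_eq_one_iff hu).1 h
    rcases sing_cases _ ((Φ.sq_one_iff huE).1 hu2) with e | e | ⟨i, e⟩
    · exact Φ.W_le_R ⟨huE, Or.inl e⟩
    · exact Φ.W_le_R ⟨huE, Or.inr e⟩
    · exact absurd hu'.symm (Φ.not_fused_unit huE e g)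
  · exact ⟨Φ.mem_K.2 ⟨mem_centralizer_singleton_iff.1 hu, Φ.dt_comm_e hu hu2 h⟩, Or.inr h⟩
  · exfalso
    obtain ⟨U, hUD, huU, -, y, hyU, hyE, hyv, -, hcen⟩ := Φ.transposition_shift hu hab h hu'.symm
    have hyy : y * y = Φ.e ∨ y * y = Φ.e * z := Φ.eq_of_v_eq hyE Φ.e_mem (hyv.trans Φ.v_e.symm)
    have hKU : ∀ t ∈ U, t ∈ Φ.K := by
      intro t ht
      have htC := (mem_inf.1 (hUD ht)).1
      refine Φ.mem_K.2 ⟨mem_centralizer_singleton_iff.1 htC, ?_⟩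
      have := hcen t ht
      rcases hyy with e | e <;> rw [e] at this
      · exact this
      · have hz := mem_centralizer_singleton_iff.1 htC
        refine mul_right_cancel (b := z) ?_
        rw [mul_assoc, this, mul_assoc Φ.e, ← hz, ← mul_assoc]
    have huK := hKU u huU
    have hyK := hKU y hyU
    have hyu : y * u = u * y := mem_centralizer_singleton_iff.1 (mem_inf.1 (hUD hyU)).2
    have hne : Φ.v (y * y) ≠ 0 := by rw [hyv]; decide
    rcases centralizer_swap a b (Φ.act y) hab (by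
        rw [← h, ← Φ.act_mul (Φ.K_le hyK) hu, ← Φ.act_mul hu (Φ.K_le hyK), hyu]) with hy | hy
    · have := Φ.transposition_centralizer Ψ hΨ huK hu2 hab h ⟨hyK, hy⟩ hyu.symm
      rw [Φ.sq_W this] at hne
      exact hne Φ.v_one
    · have hmem := Φ.transposition_centralizer Ψ hΨ huK hu2 hab h
        (r := y * u) ⟨mul_mem hyK huK, by rw [Φ.act_mul (Φ.K_le hyK) hu, h]; exact hy⟩
        (by rw [← mul_assoc, ← hyu])
      refine hne ?_
      have e : y * y = 1 := by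
        calc y * y = y * y * (u * u) := by rw [hu2, mul_one]
          _ = y * (y * u) * u := by group
          _ = y * (u * y) * u := by rw [← hyu]
          _ = (y * u) * (y * u) := by group
          _ = 1 := Φ.sq_W hmem
      rw [e, Φ.v_one]

omit hΨ in
/-- All conjugates of `z` in its centralizer lie in the four group. -/
def IsClosedW (_Φ : Mark z E) : Prop :=
  ∀ g : G, g * z * g⁻¹ ∈ centralizer ({z} : Set G) → g * z * g⁻¹ ∈ _Φ.W

omit hΨ in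
/-- An element of order three of `K` stabilizes `A`. -/
theorem three_stab {π₀ : G} (hπ : π₀ ∈ Φ.K) (ho : orderOf π₀ = 3) {x : G} (hx : x ∈ Ψ.A) :
    π₀ * x * π₀⁻¹ ∈ Ψ.A := by
  have hπN := Φ.C_le_normalizer (Φ.K_le hπ)
  rcases Φ.conj_AB Ψ hπN with e | e
  · exact e ▸ ⟨x, hx, rfl⟩
  exfalso
  rcases Φ.conj_AB Ψ.symm hπN with e' | e'
  · simp only [Frame.symm_A] at e'
    exact Ψ.A_ne_B (Subgroup.map_injective (f := (MulAut.conj π₀).toMonoidHom)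
      (MulAut.conj π₀).injective (e.trans e'.symm))
  · simp only [Frame.symm_A, Frame.symm_B] at e'
    have h3 : ((Ψ.A.map (MulAut.conj π₀).toMonoidHom).map (MulAut.conj π₀).toMonoidHom).map
        (MulAut.conj π₀).toMonoidHom = Ψ.A := by
      rw [Subgroup.map_map, Subgroup.map_map]
      have hid : (MulAut.conj π₀).toMonoidHom.comp ((MulAut.conj π₀).toMonoidHom.comp
          (MulAut.conj π₀).toMonoidHom) = MonoidHom.id G := by
        refine MonoidHom.ext fun x => ?_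
        show π₀ * (π₀ * (π₀ * x * π₀⁻¹) * π₀⁻¹) * π₀⁻¹ = x
        calc _ = π₀ * π₀ * π₀ * x * (π₀ * π₀ * π₀)⁻¹ := by group
          _ = x := by rw [cube ho]; group
      rw [MonoidHom.comp_assoc, hid, Subgroup.map_id]
    rw [e, e', e] at h3
    exact Ψ.A_ne_B h3.symm

omit hΨ in
theorem symm_axis (h : ∀ g : G, g ∈ Φ.W ↔ ∃ x : F, Ψ.a (x, 0) = g) :
    ∀ g : G, g ∈ Φ.W ↔ ∃ x : F, Ψ.symm.a (x, 0) = g := fun g => by
  rw [h g]
  exact exists_congr fun x => by rw [Ψ.axis]; rfl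

/-- One fused involution of `A` outside the four group gives all. -/
theorem fused_A {t r : G} (htA : t ∈ Ψ.A) (htW : t ∉ Φ.W) {k : G} (hk : k * z * k⁻¹ = t)
    (hrA : r ∈ Ψ.A) (hrW : r ∉ Φ.W) : ∃ g : G, g * z * g⁻¹ = r := by
  obtain ⟨π₀, hπ, ho⟩ := Φ.exists_pi
  have hπC := Φ.K_le hπ
  have hsq : ∀ x ∈ Ψ.A, x * x = 1 := fun x hx => Ψ.sq_of_mem hx
  have htR := Ψ.A_le htA
  have hrR := Ψ.A_le hrA
  have hdt := Φ.act_dt htR (hsq t htA) htW
  have hdr := Φ.act_dt hrR (hsq r hrA) hrW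
  have h3 : Φ.act π₀ * Φ.act π₀ * Φ.act π₀ = 1 := by
    rw [← Φ.act_mul hπC hπC, ← Φ.act_mul (mul_mem hπC hπC) hπC, cube ho, act_one]
  have hne : Φ.act π₀ ≠ 1 := fun h => by
    obtain ⟨j, hj⟩ := IsPGroup.iff_orderOf.1 Φ.isPGroup_E ⟨π₀, (Φ.act_eq_one_iff hπC).1 h⟩
    rw [Subgroup.orderOf_mk, ho] at hj
    rcases j with _ | j
    · norm_num at hj
    · omega
  obtain ⟨c, hcC, hcA, hact⟩ : ∃ c ∈ centralizer ({z} : Set G),
      c * t * c⁻¹ ∈ Ψ.A ∧ Φ.act (c * t * c⁻¹) = Φ.act r := by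
    rcases dt_orbit _ _ _ h3 hne hdt hdr with h | h | h
    · exact ⟨1, one_mem _, by simpa using htA, by simp [h]⟩
    · exact ⟨π₀, hπC, Φ.three_stab Ψ hπ ho htA, by
        rw [Φ.conj_centralizer hπC (Φ.K_le htR.1), h]⟩
    · refine ⟨π₀ * π₀, mul_mem hπC hπC, ?_, by
        rw [Φ.conj_centralizer (mul_mem hπC hπC) (Φ.K_le htR.1), Φ.act_mul hπC hπC, h]⟩
      rw [show π₀ * π₀ * t * (π₀ * π₀)⁻¹ = π₀ * (π₀ * t * π₀⁻¹) * π₀⁻¹ by group]
      exact Φ.three_stab Ψ hπ ho (Φ.three_stab Ψ hπ ho htA)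
  set t' := c * t * c⁻¹ with ht'
  have ht'R := Ψ.A_le hcA
  have ht'C := Φ.K_le ht'R.1
  have hdt' : IsDT (Φ.act t') := hact ▸ hdr
  set w := t' * r with hw
  have hwA : w ∈ Ψ.A := mul_mem hcA hrA
  have hwW : w ∈ Φ.W := Φ.inf_E (Ψ.A_le hwA) ((Φ.act_eq_one_iff (Φ.K_le (Ψ.A_le hwA).1)).1 (by
    rw [hw, Φ.act_mul ht'C (Φ.K_le hrR.1), hact, Φ.act_sq (Φ.K_le hrR.1) (hsq r hrA)]))
    (hsq w hwA)
  have hr : r = t' * w := by rw [hw, ← mul_assoc, hsq t' hcA, one_mul]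
  obtain ⟨⟨x1, -, h1⟩, ⟨x2, -, h2⟩, x3, -, h3'⟩ := Φ.dt_translates ht'C (hsq t' hcA) hdt'
  have hget : ∀ x : G, x * t' * x⁻¹ = t' * w → ∃ g : G, g * z * g⁻¹ = r := fun x hx =>
    ⟨x * c * k, by
      rw [hr, ← hx, ht', ← hk]; group⟩
  rcases Φ.mem_W_iff.1 hwW with e | e | e | e
  · exact hget 1 (by rw [e]; group)
  · exact hget x1 (h1.trans (congrArg (t' * ·) e.symm))
  · exact hget x2 (h2.trans (congrArg (t' * ·) e.symm))
  · exact hget x3 (h3'.trans (congrArg (t' * ·) e.symm))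

variable (hns : ¬ Group.IsSolvable G)
include hns

/-- If a conjugate of `z` lies outside the four group, all involutions are fused. -/
theorem all_fused (hnc : ¬ Φ.IsClosedW) {r : G} (hr : r ∈ Φ.R) (hr2 : r * r = 1) (hr1 : r ≠ 1) :
    ∃ g : G, g * z * g⁻¹ = r := by
  by_cases hrW : r ∈ Φ.W
  · obtain ⟨n, -, hn⟩ := Φ.exists_move hns hrW hr1
    exact ⟨n, hn⟩
  simp only [IsClosedW, not_forall] at hnc
  obtain ⟨g, hgC, hgW⟩ := hnc
  set t := g * z * g⁻¹ with ht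
  have htR := Φ.z_class Ψ hΨ hgC
  have ht2 : t * t = 1 := by
    rw [ht, show g * z * g⁻¹ * (g * z * g⁻¹) = g * (z * z) * g⁻¹ by group, Φ.cfg.z_mul]; group
  obtain ⟨hAB, hBA⟩ := Φ.unit_swap Ψ hΨ (Φ.p_mem 0) (Φ.v_p 0)
  set τ := Φ.p 0
  have hτC := Φ.cfg.le (Φ.p_mem 0)
  have hmove : τ * t * τ⁻¹ ∉ Φ.W := fun h => hgW (by
    have := Φ.conj_W (inv_mem hτC) h
    rwa [show τ⁻¹ * (τ * t * τ⁻¹) * τ⁻¹⁻¹ = t by group] at this)
  have hτ : τ * g * z * (τ * g)⁻¹ = τ * t * τ⁻¹ := by rw [ht]; group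
  have hΨ' := Φ.symm_axis Ψ hΨ
  rcases Ψ.invol hr hr2 with hrA | hrB <;> rcases Ψ.invol htR ht2 with htA | htB
  · exact Φ.fused_A Ψ hΨ htA hgW ht.symm hrA hrW
  · exact Φ.fused_A Ψ hΨ (hBA t htB) hmove hτ hrA hrW
  · exact Φ.fused_A Ψ.symm hΨ' (hAB t htA) hmove hτ hrB hrW
  · exact Φ.fused_A Ψ.symm hΨ' htB hgW ht.symm hrB hrW

/-- An involution of the centralizer outside the subgroup of order 64 is not fused into it. -/
theorem not_conj_R {s : G} (hs : s ∈ centralizer ({z} : Set G)) (hsR : s ∉ Φ.R) {v : G}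
    (hv : v ∈ Φ.R) (hv2 : v * v = 1) (g : G) : g * v * g⁻¹ ≠ s := by
  haveI : Fact (Nat.Prime 2) := ⟨Nat.prime_two⟩
  intro hg
  by_cases hv1 : v = 1
  · refine hsR ?_
    rw [← hg, hv1, mul_one, mul_inv_cancel]
    exact one_mem _
  by_cases hcl : Φ.IsClosedW
  swap
  · obtain ⟨k, hk⟩ := Φ.all_fused Ψ hΨ hns hcl hv hv2 hv1
    have e : g * k * z * (g * k)⁻¹ = s := by rw [← hg, ← hk]; group
    exact hsR (e ▸ Φ.z_class Ψ hΨ (g := g * k) (e.symm ▸ hs))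
  set Cs := centralizer ({s} : Set G) with hCs
  set Q := Φ.W.map (MulAut.conj g).toMonoidHom with hQ
  have hQs : Q ≤ Cs := by
    rintro _ ⟨w, hw, rfl⟩
    refine mem_centralizer_singleton_iff.2 ?_
    rw [← hg]
    show MulAut.conj g w * MulAut.conj g v = MulAut.conj g v * MulAut.conj g w
    rw [← map_mul, ← map_mul, Φ.K_comm hv.1 hw]
  have hzs : z ∈ Cs := mem_centralizer_singleton_iff.2 (mem_centralizer_singleton_iff.1 hs).symm
  obtain ⟨P, hP⟩ := (IsPGroup.of_card (p := 2) (n := 1) (G := ↥(zpowers z))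
    (by rw [Nat.card_zpowers, Φ.orderOf_z, pow_one]) |>.of_equiv
    (subgroupOfEquivOfLe (zpowers_le.2 hzs)).symm).exists_le_sylow
  have hQ2 : IsPGroup 2 ↥(Q.subgroupOf Cs) :=
    ((IsPGroup.of_card (p := 2) (n := 2) (G := ↥Φ.W) (by rw [Φ.card_W]; norm_num)).map
      (MulAut.conj g).toMonoidHom).of_equiv (subgroupOfEquivOfLe hQs).symm
  obtain ⟨h, hhP⟩ := L34Sylow67.exists_conj_sylow P hQ2
  obtain ⟨T, hTC, -, -⟩ := Φ.exists_sylow
  obtain ⟨c, hcT⟩ := L34Sylow67.exists_conj_sylow T ((P.2.map Cs.subtype))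
  set n := c * (h : G) * g with hn
  have hin : ∀ x ∈ P, c * (x : G) * c⁻¹ ∈ centralizer ({z} : Set G) := fun x hx =>
    hTC (hcT _ ⟨x, hx, rfl⟩)
  -- the conjugate of `z` and those of the four group lie in the four group
  have hcz : c * z * c⁻¹ ∈ Φ.W := hcl c (hin ⟨z, hzs⟩ (hP (mem_zpowers z)))
  have hnW : ∀ w ∈ Φ.W, n * w * n⁻¹ ∈ Φ.W := by
    intro w hw
    by_cases hw1 : w = 1
    · rw [hw1]; simp
    obtain ⟨m, -, hm⟩ := Φ.exists_move hns hw hw1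
    have hC : n * w * n⁻¹ ∈ centralizer ({z} : Set G) := by
      have := hin _ (hhP ⟨g * w * g⁻¹, hQs ⟨w, hw, rfl⟩⟩ ⟨w, hw, rfl⟩)
      simpa [hn, mul_assoc] using this
    have e : n * w * n⁻¹ = n * m * z * (n * m)⁻¹ := by rw [← hm]; group
    rw [e] at hC ⊢
    exact hcl _ hC
  have hnN : n ∈ normalizer (Φ.W : Set G) := by
    refine L34Sylow67.normalizer_iff_map.2 (Subgroup.eq_of_le_of_card_ge ?_
      (Subgroup.card_map_of_injective (MulAut.conj n).injective).ge)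
    rintro _ ⟨w, hw, rfl⟩
    exact hnW w hw
  obtain ⟨m, hmN, hm⟩ := Φ.exists_move hns hcz fun e => Φ.cfg.z_ne (conj_eq_one_iff.1 e)
  have hcN : c ∈ normalizer (Φ.W : Set G) := by
    have hmc : m⁻¹ * c ∈ centralizer ({z} : Set G) := mem_centralizer_singleton_iff.2
      (mul_inv_eq_iff_eq_mul.1 (by
        calc m⁻¹ * c * z * (m⁻¹ * c)⁻¹ = m⁻¹ * (c * z * c⁻¹) * m := by group
          _ = m⁻¹ * (m * z * m⁻¹) * m := by rw [hm]
          _ = z := by group))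
    have := mul_mem hmN (Φ.C_le_normalizer hmc)
    rwa [mul_inv_cancel_left] at this
  have hhg : (h : G) * g ∈ normalizer (Φ.W : Set G) := by
    have := mul_mem (inv_mem hcN) hnN
    rwa [hn, ← mul_assoc, ← mul_assoc, inv_mul_cancel, one_mul] at this
  refine hsR ?_
  have e : (h : G) * g * v * ((h : G) * g)⁻¹ = s := by
    calc (h : G) * g * v * ((h : G) * g)⁻¹ = h * (g * v * g⁻¹) * (h : G)⁻¹ := by group
      _ = s := by rw [hg, mem_centralizer_singleton_iff.1 h.2, mul_inv_cancel_right]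
  exact e ▸ Φ.conj_R hhg hv

omit hns

/-- An involution of weight one is fused within `C` only by `C`. -/
theorem tau_class {g : G} (hg : g * Φ.p 0 * g⁻¹ ∈ centralizer ({z} : Set G)) :
    ∃ c ∈ centralizer ({z} : Set G), c * Φ.p 0 * c⁻¹ = g * Φ.p 0 * g⁻¹ := by
  haveI : Fact (Nat.Prime 2) := ⟨Nat.prime_two⟩
  obtain ⟨hAB, hBA⟩ := Φ.unit_swap Ψ hΨ (Φ.p_mem 0) (Φ.v_p 0)
  set τ := Φ.p 0 with hτ
  have hτE : τ ∈ E := Φ.p_mem 0
  have huniq : ∀ k : G, k * z * k⁻¹ ∈ centralizer ({z} : Set G) →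
      k * z * k⁻¹ * τ = τ * (k * z * k⁻¹) → k * z * k⁻¹ = z := by
    intro k hk hc
    set u := k * z * k⁻¹ with hu
    have huR := Φ.z_class Ψ hΨ hk
    have hu2 : u * u = 1 := by
      rw [hu, show k * z * k⁻¹ * (k * z * k⁻¹) = k * (z * z) * k⁻¹ by group, Φ.cfg.z_mul]; group
    have hfix : τ * u * τ⁻¹ = u := by rw [← hc, mul_inv_cancel_right]
    have huW : u ∈ Φ.W := by
      rcases Ψ.invol huR hu2 with h | h
      · exact Φ.A_inf_B Ψ hΨ h (hfix ▸ hAB u h)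
      · exact Φ.A_inf_B Ψ hΨ (hfix ▸ hBA u h) h
    have hτe : ¬ τ * Φ.e = Φ.e * τ := fun h => by
      have := (Φ.comm_e_iff hτE).1 h
      rw [hτ, Φ.v_p, wt_unit] at this
      exact one_ne_zero this
    have hτz := mem_centralizer_singleton_iff.1 (Φ.cfg.le hτE)
    rcases Φ.mem_W_iff.1 huW with e | e | e | e
    · exact absurd (conj_eq_one_iff.1 e) Φ.cfg.z_ne
    · exact e
    · exact absurd (by rw [← e]; exact hc.symm) hτe
    · refine absurd (mul_right_cancel (b := z) ?_) hτe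
      rw [mul_assoc, ← e, ← hc, e, mul_assoc Φ.e τ z, hτz, ← mul_assoc]
  set Cτ := centralizer ({τ} : Set G) with hCτ
  have hzτ : z ∈ Cτ := mem_centralizer_singleton_iff.2
    (mem_centralizer_singleton_iff.1 (Φ.cfg.le hτE)).symm
  obtain ⟨P, hP⟩ := (IsPGroup.of_card (p := 2) (n := 1) (G := ↥(zpowers z))
    (by rw [Nat.card_zpowers, Φ.orderOf_z, pow_one]) |>.of_equiv
    (subgroupOfEquivOfLe (zpowers_le.2 hzτ)).symm).exists_le_sylow
  have hzP : (⟨z, hzτ⟩ : ↥Cτ) ∈ P := hP (mem_zpowers z)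
  -- the Sylow subgroup lies in `C`
  have hPC : ∀ x ∈ P, (x : G) ∈ centralizer ({z} : Set G) := by
    by_contra hcon
    push Not at hcon
    obtain ⟨x₀, hx₀, hx₀C⟩ := hcon
    haveI : Group.IsNilpotent ↥(P : Subgroup ↥Cτ) := P.2.isNilpotent
    set S₀ : Subgroup ↥(P : Subgroup ↥Cτ) :=
      (centralizer ({z} : Set G)).comap (Cτ.subtype.comp (P : Subgroup ↥Cτ).subtype) with hS₀
    have hlt : S₀ < ⊤ := lt_top_iff_ne_top.2 fun h => hx₀C (by
      have : (⟨x₀, hx₀⟩ : ↥(P : Subgroup ↥Cτ)) ∈ S₀ := h ▸ mem_top _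
      exact this)
    obtain ⟨n, hn, hn'⟩ := SetLike.exists_of_lt (Group.normalizerCondition_of_isNilpotent _ hlt)
    have hmem := (Subgroup.mem_normalizer_iff.1 hn ⟨⟨z, hzτ⟩, hzP⟩).1 Φ.z_mem_C
    have hc' : ((n : ↥Cτ) : G) * z * ((n : ↥Cτ) : G)⁻¹ = z :=
      huniq _ hmem (by
        have := (n * ⟨⟨z, hzτ⟩, hzP⟩ * n⁻¹ : ↥(P : Subgroup ↥Cτ)).1.2
        exact mem_centralizer_singleton_iff.1 this)
    exact hn' (mem_centralizer_singleton_iff.2 (mul_inv_eq_iff_eq_mul.1 hc'))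
  set u := g⁻¹ * z * g with hu
  have huτ : u ∈ Cτ := mem_centralizer_singleton_iff.2 (by
    have h := mem_centralizer_singleton_iff.1 hg
    calc g⁻¹ * z * g * τ = g⁻¹ * (z * (g * τ * g⁻¹)) * g := by group
      _ = g⁻¹ * ((g * τ * g⁻¹) * z) * g := by rw [h]
      _ = τ * (g⁻¹ * z * g) := by group)
  have hu2 : IsPGroup 2 ↥(zpowers (⟨u, huτ⟩ : ↥Cτ)) := by
    refine IsPGroup.of_card (n := 1) ?_
    rw [Nat.card_zpowers, Subgroup.orderOf_mk, pow_one]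
    refine orderOf_eq_prime ?_ fun e => ?_
    · rw [sq, hu, show g⁻¹ * z * g * (g⁻¹ * z * g) = g⁻¹ * (z * z) * g by group, Φ.cfg.z_mul]; group
    · rw [hu, show g⁻¹ * z * g = g⁻¹ * z * g⁻¹⁻¹ by group, conj_eq_one_iff] at e
      exact Φ.cfg.z_ne e
  obtain ⟨h, hh⟩ := L34Sylow67.exists_conj_sylow P hu2
  have hmem := hh _ (mem_zpowers _)
  have he : (h : G) * g⁻¹ * z * ((h : G) * g⁻¹)⁻¹ = (h : G) * u * (h : G)⁻¹ := by rw [hu]; group
  have hz : (h : G) * g⁻¹ * z * ((h : G) * g⁻¹)⁻¹ = z := by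
    refine huniq _ ?_ ?_
    · rw [he]; exact hPC _ hmem
    · rw [he]
      exact mem_centralizer_singleton_iff.1 (mul_mem (mul_mem h.2 huτ) (inv_mem h.2))
  refine ⟨((h : G) * g⁻¹)⁻¹, inv_mem (mem_centralizer_singleton_iff.2
    (mul_inv_eq_iff_eq_mul.1 hz)), ?_⟩
  calc ((h : G) * g⁻¹)⁻¹ * τ * ((h : G) * g⁻¹)⁻¹⁻¹ = g * ((h : G)⁻¹ * τ * (h : G)) * g⁻¹ := by
        group
    _ = g * τ * g⁻¹ := by
        rw [mem_centralizer_singleton_iff.1 (inv_mem h.2), inv_mul_cancel_right]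

end Cfsg.Agent.Lib.Aut34Cent67.Mark
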