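import Cfsg.Agent.Lib.Aut34Cent67.Torus
import Cfsg.Agent.Lib.L34Sylow67.Frame

/-!
# Coordinates on the subgroup of order 64

helper67.  It has the structure of a Sylow 2-subgroup of `PSL(3,4)`, the axis being the four group.
-/

set_option autoImplicit false
set_option linter.unusedSectionVars false
set_option linter.unnecessarySimpa false
set_option linter.style.haveILetI false

open Subgroup

namespace Cfsg.Agent.Lib.Aut34Cent67

universe u w

open L34Sylow67 (IsFour cases_four Frame)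

variable {G : Type u} [Group G]

section Four

variable {F : Type w} [Field F] [Fintype F] (hF : IsFour F) {c : F} (hc0 : c ≠ 0) (hc1 : c ≠ 1)
include hF hc0 hc1

/-- Additive maps into a group, determined on a basis. -/
theorem ext_four {f g : F → G} (hf : ∀ x y, f (x + y) = f x * f y)
    (hg : ∀ x y, g (x + y) = g x * g y) (h1 : f 1 = g 1) (hc : f c = g c) (x : F) :
    f x = g x := by
  have h0 : ∀ h : F → G, (∀ x y, h (x + y) = h x * h y) → h 0 = 1 := fun h hh => by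
    have := hh 0 0
    rw [add_zero] at this
    exact right_eq_mul.1 this
  rcases cases_four hF hc0 hc1 x with rfl | rfl | rfl | rfl
  · rw [h0 f hf, h0 g hg]
  · exact h1
  · exact hc
  · rw [hf, hg, h1, hc]

/-- An additive parametrisation of a four group. -/
theorem four_hom (a b : G) (ha : a * a = 1) (hb : b * b = 1) (hab : a * b = b * a) :
    ∃ f : F → G, f 1 = a ∧ f c = b ∧ (∀ x y, f (x + y) = f x * f y) ∧
      (∀ x, f x = 1 ∨ f x = a ∨ f x = b ∨ f x = a * b) ∧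
      (a ≠ 1 → b ≠ 1 → a ≠ b → ∀ x, f x = 1 → x = 0) := by
  classical
  refine ⟨fun x => if x = 0 then 1 else if x = 1 then a else if x = c then b else a * b, ?_, ?_,
    ?_, ?_, ?_⟩
  · simp
  · simp [hc0, hc1]
  · have hab' : a * (a * b) = b := by rw [← mul_assoc, ha, one_mul]
    have hba' : b * (a * b) = a := by rw [hab, ← mul_assoc, hb, one_mul]
    have hab'' : a * b * a = b := by rw [hab, mul_assoc, ha, mul_one]
    have hba'' : a * b * b = a := by rw [mul_assoc, hb, mul_one]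
    have habab : a * b * (a * b) = 1 := by rw [mul_assoc, hba', ha]
    have hc2 : c + 1 ≠ 0 := fun h => hc1 (L34Sylow67.eq_of_add_eq_zero hF h)
    have hc3 : c + 1 ≠ 1 := fun h => hc0 (by simp at h; exact h)
    have hc4 : c + 1 ≠ c := fun h => one_ne_zero (α := F) (by simpa using h)
    have hs := L34Sylow67.add_self hF
    have e1 : (1 : F) + c = c + 1 := add_comm _ _
    have e2 : (1 : F) + (c + 1) = c := by rw [add_comm c, ← add_assoc, hs, zero_add]
    have e3 : c + (c + 1) = 1 := by rw [← add_assoc, hs, zero_add]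
    have e4 : c + 1 + 1 = c := by rw [add_assoc, hs, add_zero]
    have e5 : c + 1 + c = 1 := by rw [add_comm, e3]
    intro x y
    rcases cases_four hF hc0 hc1 x with hx | hx | hx | hx <;>
      rcases cases_four hF hc0 hc1 y with hy | hy | hy | hy <;> subst hx <;> subst hy <;>
      simp [hs, e1, e2, e3, e4, e5, hc0, hc1, hc2, hc3, hc4, ha, hb, hab', hba', hab'', hba'',
        habab, hab.symm]
  · intro x
    simp only
    split_ifs <;> simp
  · intro ha1 hb1 hne x hx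
    simp only at hx
    split_ifs at hx with h0 h1 h2
    · exact h0
    · exact absurd hx ha1
    · exact absurd hx hb1
    · refine absurd ?_ hne
      rw [eq_inv_of_mul_eq_one_left hx, inv_eq_of_mul_eq_one_right hb]

end Four

/-- Involutions with involutory product commute. -/
theorem exp_two_comm {a b : G} (ha : a * a = 1) (hb : b * b = 1) (hab : a * b * (a * b) = 1) :
    a * b = b * a := by
  calc a * b = (a * b)⁻¹ := (inv_eq_of_mul_eq_one_right hab).symm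
    _ = b * a := by rw [mul_inv_rev, inv_eq_of_mul_eq_one_right ha, inv_eq_of_mul_eq_one_right hb]

/-- A four group permuted cyclically. -/
theorem four_cycle [Finite G] (H : Subgroup G) (hcard : Nat.card ↥H = 4)
    (hsq : ∀ x ∈ H, x * x = 1) {r : G} (hr : ∀ x ∈ H, r * x * r⁻¹ ∈ H) (hr3 : r * r * r = 1)
    {x : G} (hx : x ∈ H) (hx1 : x ≠ 1) (hmove : r * x * r⁻¹ ≠ x) :
    r * (r * x * r⁻¹) * r⁻¹ = x * (r * x * r⁻¹) ∧ x * (r * x * r⁻¹) = r * x * r⁻¹ * x ∧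
      ∀ h ∈ H, h = 1 ∨ h = x ∨ h = r * x * r⁻¹ ∨ h = x * (r * x * r⁻¹) := by
  classical
  haveI := Fintype.ofFinite G
  set y := r * x * r⁻¹ with hy
  have hyH : y ∈ H := hr x hx
  have hy1 : y ≠ 1 := fun e => hx1 (conj_eq_one_iff.1 e)
  have hxy1 : x * y ≠ 1 := fun e => hmove (by
    rw [eq_inv_of_mul_eq_one_right e, inv_eq_of_mul_eq_one_right (hsq x hx)])
  have hcomm : x * y = y * x := exp_two_comm (hsq x hx) (hsq y hyH) (hsq _ (mul_mem hx hyH))
  have hset : ({1, x, y, x * y} : Finset G) = Finset.univ.filter (fun g => g ∈ H) := by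
    refine Finset.eq_of_subset_of_card_le ?_ ?_
    · intro g hg
      simp only [Finset.mem_insert, Finset.mem_singleton] at hg
      rcases hg with rfl | rfl | rfl | rfl <;> simp [hx, hyH, mul_mem hx hyH]
    · rw [← Fintype.card_subtype, ← Nat.card_eq_fintype_card, hcard]
      simp [hx1.symm, hy1.symm, hxy1.symm, hmove.symm, hx1, hy1]
  have hall : ∀ h ∈ H, h = 1 ∨ h = x ∨ h = y ∨ h = x * y := by
    intro h hh
    have hm : h ∈ ({1, x, y, x * y} : Finset G) := by rw [hset]; simpa using hh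
    simpa using hm
  refine ⟨?_, hcomm, hall⟩
  rcases hall _ (hr y hyH) with e | e | e | e
  · exact absurd (conj_eq_one_iff.1 e) hy1
  · exfalso
    refine hmove ?_
    calc y = r * r * r * y * (r * r * r)⁻¹ := by rw [hr3]; group
      _ = r * (r * (r * y * r⁻¹) * r⁻¹) * r⁻¹ := by group
      _ = r * (r * x * r⁻¹) * r⁻¹ := congrArg (fun t => r * (r * t * r⁻¹) * r⁻¹) e
      _ = x := e
  · exact absurd ((MulAut.conj r).injective (e.trans hy)) hmove
  · exact e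

/-- The commutator. -/
def br (a b : G) : G := a * b * a⁻¹ * b⁻¹

namespace Mark

variable [Finite G] {z : G} {E : Subgroup G} (Φ : Mark z E) (hns : ¬ Group.IsSolvable G)
include hns

/-- Commutators in the subgroup of order 64 lie in the four group. -/
theorem br_mem_W {π₀ : G} (hπ : π₀ ∈ Φ.K) (ho : orderOf π₀ = 3) {a b : G} (ha : a ∈ Φ.R)
    (hb : b ∈ Φ.R) : br a b ∈ Φ.W := by
  classical
  haveI := Fintype.ofFinite G
  obtain ⟨n, hn, hnz⟩ := Φ.exists_move hns Φ.e_mem_W Φ.e_ne_one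
  set m := n⁻¹ with hm
  have hmN : m ∈ normalizer (Φ.W : Set G) := inv_mem hn
  set c := br a b with hc
  have hcR : c ∈ Φ.R := mul_mem (mul_mem (mul_mem ha hb) (inv_mem ha)) (inv_mem hb)
  by_contra hcW
  set S := (Φ.R ⊓ E) ⊓ (Φ.R ⊓ E).map (MulAut.conj n).toMonoidHom with hS
  have hmem : ∀ x, x ∈ Φ.R → x ∈ E → m * x * m⁻¹ ∈ E → x ∈ S := fun x hxR hxE hmx =>
    mem_inf.2 ⟨mem_inf.2 ⟨hxR, hxE⟩, ⟨m * x * m⁻¹, mem_inf.2 ⟨Φ.conj_R hmN hxR, hmx⟩, by
      show n * (m * x * m⁻¹) * n⁻¹ = x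
      rw [hm]; group⟩⟩
  have hcE : c ∈ E := Φ.comm_mem_E ha hb
  have hmcE : m * c * m⁻¹ ∈ E := by
    rw [show m * c * m⁻¹ = br (m * a * m⁻¹) (m * b * m⁻¹) by rw [hc]; simp only [br]; group]
    exact Φ.comm_mem_E (Φ.conj_R hmN ha) (Φ.conj_R hmN hb)
  have hcS : c ∈ S := hmem c hcR hcE hmcE
  set c' := π₀ * c * π₀⁻¹ with hc'
  have hc'S : c' ∈ S := by
    refine hmem c' (Φ.conj_R (Φ.C_le_normalizer (Φ.K_le hπ)) hcR) (Φ.conj_mem (Φ.K_le hπ) hcE) ?_
    have hπ' : m * π₀ * m⁻¹ ∈ Φ.K := Φ.conj_K (fun w hw => by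
      have := (Subgroup.mem_normalizer_iff.1 (inv_mem hmN) w).1 hw
      simpa [hm] using this) hπ
    rw [show m * c' * m⁻¹ = m * π₀ * m⁻¹ * (m * c * m⁻¹) * (m * π₀ * m⁻¹)⁻¹ by rw [hc']; group]
    exact Φ.conj_mem (Φ.K_le hπ') hmcE
  have hWS : Φ.W ≤ S := fun w hw =>
    hmem w (Φ.W_le_R hw) hw.1 ((Subgroup.mem_normalizer_iff.1 hmN w).1 hw).1
  have h12 : 12 ≤ Nat.card ↥S := by
    let f : Fin 3 × ↥Φ.W → ↥S := fun p => ⟨![1, c, c'] p.1 * p.2, mul_mem (by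
      rcases p with ⟨i, w⟩
      fin_cases i
      · exact one_mem _
      · exact hcS
      · exact hc'S) (hWS p.2.2)⟩
    have hinv : ∀ x ∈ Φ.W, x⁻¹ ∈ Φ.W := fun x hx => inv_mem hx
    have hsep : ∀ i j : Fin 3, (![1, c, c'] i)⁻¹ * ![1, c, c'] j ∈ Φ.W → i = j := by
      intro i j h
      have hc'W : c' ∉ Φ.W := fun h' => hcW (by
        have := Φ.conj_W (inv_mem (Φ.K_le hπ)) h'
        simpa [hc', mul_assoc] using this)
      have hcc : c⁻¹ * c' ∉ Φ.W := fun h' => hcW (Φ.fixed_coset hπ ho hcR h')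
      fin_cases i <;> fin_cases j <;>
        first
          | rfl
          | (exfalso; simp at h; first
              | exact hcW h
              | exact hc'W h
              | exact hcc h
              | exact hcW (by simpa using inv_mem h)
              | exact hc'W (by simpa using inv_mem h)
              | exact hcc (by simpa using inv_mem h))
    have hf : Function.Injective f := by
      rintro ⟨i, w⟩ ⟨j, w'⟩ e
      have e' : ![1, c, c'] i * w = ![1, c, c'] j * w' := congrArg Subtype.val e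
      have : (![1, c, c'] i)⁻¹ * ![1, c, c'] j = (w : G) * (w' : G)⁻¹ := by
        rw [eq_mul_inv_iff_mul_eq, mul_assoc, ← e', inv_mul_cancel_left]
      obtain rfl := hsep i j (this ▸ mul_mem w.2 (inv_mem w'.2))
      exact Prod.ext rfl (Subtype.ext (mul_left_cancel e'))
    have := Nat.card_le_card_of_injective f hf
    rwa [Nat.card_prod, Nat.card_fin, Φ.card_W] at this
  -- so the intersection is all of `E ∩ R`
  have hlt : Nat.card ↥(Φ.R ⊓ E) ≤ 16 := by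
    have hd : Nat.card ↥(Φ.R ⊓ E) ∣ 32 := Φ.cfg.card_E ▸ Subgroup.card_dvd_of_le inf_le_right
    have hne : Φ.R ⊓ E ≠ E := fun h => by
      have hp0 : Φ.p 0 ∈ Φ.K := Φ.R_le_K (mem_inf.1 (h.symm ▸ Φ.p_mem 0 : Φ.p 0 ∈ Φ.R ⊓ E)).1
      rw [Φ.E_inf_K (Φ.p_mem 0), Φ.v_p, wt_unit] at hp0
      exact one_ne_zero hp0
    have hne32 : Nat.card ↥(Φ.R ⊓ E) ≠ 32 := fun h => hne
      (Subgroup.eq_of_le_of_card_ge inf_le_right (by rw [h, Φ.cfg.card_E]))
    obtain ⟨k, hk, hk'⟩ := (Nat.dvd_prime_pow Nat.prime_two).1 (show _ ∣ 2 ^ 5 from hd)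
    rw [hk'] at hne32 ⊢
    have hk4 : k ≤ 4 := by
      by_contra hk5
      exact hne32 (by rw [show k = 5 by omega]; norm_num)
    exact (Nat.pow_le_pow_right (by norm_num) hk4).trans (by norm_num)
  have hSle : S ≤ Φ.R ⊓ E := inf_le_left
  have hSeq : S = Φ.R ⊓ E := by
    refine Subgroup.eq_of_le_of_card_ge hSle ?_
    obtain ⟨k, hk⟩ := Subgroup.card_dvd_of_le hSle
    have hpos : 0 < Nat.card ↥(Φ.R ⊓ E) := Nat.card_pos
    rw [hk] at hlt hpos ⊢
    rcases k with _ | _ | k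
    · omega
    · omega
    · exfalso; nlinarith
  obtain ⟨x, y, ⟨hxE, hxR⟩, ⟨hyE, hyR⟩, hxy⟩ := Φ.exists_comm_z
  obtain ⟨x', hx', hxx⟩ := (mem_inf.1 (hSeq.ge (mem_inf.2 ⟨hxR, hxE⟩))).2
  obtain ⟨y', hy', hyy⟩ := (mem_inf.1 (hSeq.ge (mem_inf.2 ⟨hyR, hyE⟩))).2
  have hz : m * z * m⁻¹ = br x' y' := by
    calc m * z * m⁻¹ = m * (x * y * x⁻¹ * y⁻¹) * m⁻¹ :=
          congrArg (fun t => m * t * m⁻¹) hxy.symm
      _ = br x' y' := by
        rw [← hxx, ← hyy, hm]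
        show n⁻¹ * (n * x' * n⁻¹ * (n * y' * n⁻¹) * (n * x' * n⁻¹)⁻¹ * (n * y' * n⁻¹)⁻¹) *
          n⁻¹⁻¹ = x' * y' * x'⁻¹ * y'⁻¹
        group
  have hb2 : br x' y' = 1 ∨ br x' y' = z := by
    rcases Φ.cfg.swap x' (mem_inf.1 hx').2 y' (mem_inf.1 hy').2 with h | h
    · exact Or.inl (by rw [br, h]; group)
    · exact Or.inr (by rw [br, h]; group)
  rcases hb2 with h | h
  · rw [h, conj_eq_one_iff] at hz
    exact Φ.cfg.z_ne hz
  · rw [h] at hz
    refine Φ.e_ne_z ?_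
    calc Φ.e = n * z * n⁻¹ := hnz.symm
      _ = n * (m * z * m⁻¹) * n⁻¹ := congrArg (fun t => n * t * n⁻¹) hz.symm
      _ = z := by rw [hm]; group

omit hns

theorem br_mul_left {π₀ : G} (hπ : π₀ ∈ Φ.K) (ho : orderOf π₀ = 3) (hns : ¬ Group.IsSolvable G)
    {a b c : G} (ha : a ∈ Φ.R) (hb : b ∈ Φ.R) (hc : c ∈ Φ.R) :
    br (a * b) c = br a c * br b c := by
  have h1 := Φ.br_mem_W hns hπ ho hb hc
  calc br (a * b) c = a * br b c * (c * a⁻¹ * c⁻¹) := by simp only [br]; group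
    _ = br b c * br a c := by
        rw [Φ.K_comm (Φ.R_le_K ha) h1]; simp only [br]; group
    _ = _ := (Φ.K_comm (Φ.R_le_K (mul_mem (mul_mem (mul_mem ha hc) (inv_mem ha)) (inv_mem hc))) h1).symm

theorem br_mul_right {π₀ : G} (hπ : π₀ ∈ Φ.K) (ho : orderOf π₀ = 3) (hns : ¬ Group.IsSolvable G)
    {a b c : G} (ha : a ∈ Φ.R) (hb : b ∈ Φ.R) (hc : c ∈ Φ.R) :
    br a (b * c) = br a b * br a c := by
  calc br a (b * c) = br a b * (b * br a c * b⁻¹) := by simp only [br]; group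
    _ = _ := by rw [Φ.K_comm (Φ.R_le_K hb) (Φ.br_mem_W hns hπ ho ha hc), mul_inv_cancel_right]

include hns

/-- The coordinates. -/
theorem exists_frame {F : Type w} [Field F] [Fintype F] (hF : IsFour F) :
    ∃ Ψ : Frame F Φ.R, ∀ g : G, g ∈ Φ.W ↔ ∃ x : F, Ψ.a (x, 0) = g := by
  classical
  obtain ⟨c, hc0, hc1, hcc⟩ := L34Sylow67.exists_gen hF
  obtain ⟨π₀, ⟨T⟩⟩ := Φ.exists_torus hns
  obtain ⟨p, hp, q, hq, hpK, hqK, hX4, hY4, hXY⟩ := T.exists_two
  set X := T.X p with hX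
  set Y := T.X q with hY
  have hXR : X ≤ Φ.R := inf_le_left
  have hYR : Y ≤ Φ.R := inf_le_left
  have hπ := T.pi_K
  have ho := T.pi_order
  have hXsq : ∀ x ∈ X, x * x = 1 := fun x hx => by
    by_cases h : x = 1
    · rw [h, one_mul]
    · exact (T.X_structure hp hpK hX4 hx h).1
  have hYsq : ∀ x ∈ Y, x * x = 1 := fun x hx => by
    by_cases h : x = 1
    · rw [h, one_mul]
    · exact (T.X_structure hq hqK hY4 hx h).1
  -- the product is everything
  let μ : (↥X × ↥Y) × ↥Φ.W → ↥Φ.R := fun t =>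
    ⟨t.1.1 * t.1.2 * t.2, mul_mem (mul_mem (hXR t.1.1.2) (hYR t.1.2.2)) (Φ.W_le_R t.2.2)⟩
  have hsep : ∀ x ∈ X, ∀ y ∈ Y, x⁻¹ * y ∈ Φ.W → x = 1 ∧ y = 1 := by
    intro x hx y hy h
    have hqx : q * x * q⁻¹ ∈ X := T.conj_X hp hpK hq hx
    have hqy : q * y * q⁻¹ = y := by rw [← (T.mem_X.1 hy).2, mul_inv_cancel_right]
    have h' : q * (x⁻¹ * y) * q⁻¹ ∈ Φ.W := T.conj_W hq h
    have e : (q * x * q⁻¹)⁻¹ * x = q * (x⁻¹ * y) * q⁻¹ * (x⁻¹ * y)⁻¹ := by
      calc (q * x * q⁻¹)⁻¹ * x = (q * x * q⁻¹)⁻¹ * (q * y * q⁻¹) * y⁻¹ * x := by rw [hqy]; group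
        _ = _ := by group
    have h1 := T.X_inf_W hp hpK (mul_mem (inv_mem hqx) hx) (e ▸ mul_mem h' (inv_mem h))
    have hxY : x ∈ Y := T.mem_X.2 ⟨hXR hx, (mul_inv_eq_iff_eq_mul.1 (inv_mul_eq_one.1 h1)).symm⟩
    obtain rfl := hXY x hx hxY
    rw [inv_one, one_mul] at h
    exact ⟨rfl, T.X_inf_W hq hqK hy h⟩
  have hμ : Function.Bijective μ := by
    refine Function.Injective.bijective_of_nat_card_le ?_
      (by rw [Nat.card_prod, Nat.card_prod, hX4, hY4, Φ.card_W, Φ.card_R])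
    rintro ⟨⟨x, y⟩, w⟩ ⟨⟨x', y'⟩, w'⟩ e
    have e' : (x : G) * y * w = x' * y' * w' := congrArg Subtype.val e
    have hw : ∀ v ∈ Φ.W, ∀ r ∈ Φ.R, v * r = r * v := fun v hv r hr =>
      (Φ.K_comm (Φ.R_le_K hr) hv).symm
    have h1 : ((x' : G)⁻¹ * x)⁻¹ * (y' * (y : G)⁻¹) = (w : G) * (w' : G)⁻¹ := by
      calc ((x' : G)⁻¹ * x)⁻¹ * (y' * (y : G)⁻¹)
          = (x : G)⁻¹ * (x' * y' * w') * ((w' : G)⁻¹ * (y : G)⁻¹) := by group
        _ = (y : G) * (w * (w' : G)⁻¹) * (y : G)⁻¹ := by rw [← e']; group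
        _ = _ := by
            rw [Φ.K_comm (Φ.R_le_K (hYR y.2)) (mul_mem w.2 (inv_mem w'.2)), mul_inv_cancel_right]
    obtain ⟨h2, h3⟩ := hsep _ (mul_mem (inv_mem x'.2) x.2) _ (mul_mem y'.2 (inv_mem y.2))
      (h1 ▸ mul_mem w.2 (inv_mem w'.2))
    obtain rfl : x' = x := Subtype.ext (inv_mul_eq_one.1 h2)
    obtain rfl : y' = y := Subtype.ext (mul_inv_eq_one.1 h3)
    exact Prod.ext rfl (Subtype.ext (mul_left_cancel e'))
  obtain ⟨x0, hx0, hx1⟩ := X.bot_or_exists_ne_one.resolve_left (fun h => by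
    rw [h] at hX4; simp at hX4)
  obtain ⟨y0, hy0, hy1⟩ := Y.bot_or_exists_ne_one.resolve_left (fun h => by
    rw [h] at hY4; simp at hY4)
  -- rotations
  have hqfix : ∀ y ∈ Y, q * y * q⁻¹ = y := fun y hy => by
    rw [← (T.mem_X.1 hy).2, mul_inv_cancel_right]
  have hpfix : ∀ x ∈ X, p * x * p⁻¹ = x := fun x hx => by
    rw [← (T.mem_X.1 hx).2, mul_inv_cancel_right]
  have hrx : q * x0 * q⁻¹ ≠ x0 := fun e =>
    hx1 (hXY x0 hx0 (T.mem_X.2 ⟨hXR hx0, (mul_inv_eq_iff_eq_mul.1 e).symm⟩))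
  have hpy : p * y0 * p⁻¹ ≠ y0 := fun e =>
    hy1 (hXY y0 (T.mem_X.2 ⟨hYR hy0, (mul_inv_eq_iff_eq_mul.1 e).symm⟩) hy0)
  -- the commutator is not trivial
  obtain ⟨hxc1, -, hxall⟩ := four_cycle X hX4 hXsq (fun x hx => T.conj_X hp hpK hq hx)
    (T.exp q hq) hx0 hx1 hrx
  obtain ⟨hyc1, -, hyall⟩ := four_cycle Y hY4 hYsq (fun y hy => T.conj_X hq hqK hp hy)
    (T.exp p hp) hy0 hy1 hpy
  have hbr : ∀ (g a b : G), br (g * a * g⁻¹) (g * b * g⁻¹) = g * br a b * g⁻¹ := fun g a b => by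
    simp only [br]; group
  set w0 := br y0 x0 with hw0
  have hw0W : w0 ∈ Φ.W := Φ.br_mem_W hns hπ ho (hYR hy0) (hXR hx0)
  have hw1 : w0 ≠ 1 := by
    intro h
    have hq0 : br y0 (q * x0 * q⁻¹) = 1 := by
      rw [← hqfix y0 hy0, hbr, ← hw0, h]; group
    have hy0X : ∀ x ∈ X, br y0 x = 1 := by
      intro x hx
      rcases hxall x hx with rfl | rfl | rfl | rfl
      · simp [br]
      · exact h
      · exact hq0
      · rw [Φ.br_mul_right hπ ho hns (hYR hy0) (hXR hx0) (hXR (T.conj_X hp hpK hq hx0)), ← hw0, h,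
          hq0, one_mul]
    have hp0 : ∀ x ∈ X, br (p * y0 * p⁻¹) x = 1 := fun x hx => by
      rw [← hpfix x hx, hbr, hy0X x hx]; group
    have hall : ∀ y ∈ Y, ∀ x ∈ X, x * y = y * x := by
      intro y hy x hx
      have e : br y x = 1 := by
        rcases hyall y hy with rfl | rfl | rfl | rfl
        · simp [br]
        · exact hy0X x hx
        · exact hp0 x hx
        · rw [Φ.br_mul_left hπ ho hns (hYR hy0) (hYR (T.conj_X hq hqK hp hy0)) (hXR hx),
            hy0X x hx, hp0 x hx, one_mul]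
      exact (mul_inv_eq_iff_eq_mul.1 (mul_inv_eq_one.1 e)).symm
    have hxx : ∀ (H : Subgroup G), (∀ a ∈ H, a * a = 1) → ∀ a ∈ H, ∀ b ∈ H, a * b = b * a :=
      fun H hH a ha b hb => exp_two_comm (hH a ha) (hH b hb) (hH _ (mul_mem ha hb))
    have hcomm : ∀ a ∈ Φ.R, ∀ b ∈ Φ.R, a * b = b * a := by
      intro a ha b hb
      obtain ⟨⟨⟨xa, ya⟩, wa⟩, hta⟩ := hμ.2 ⟨a, ha⟩
      obtain ⟨⟨⟨xb, yb⟩, wb⟩, htb⟩ := hμ.2 ⟨b, hb⟩
      have ea : (xa : G) * ya * wa = a := congrArg Subtype.val hta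
      have eb : (xb : G) * yb * wb = b := congrArg Subtype.val htb
      have cW : ∀ (w : ↥Φ.W) (r : G), r ∈ Φ.R → Commute r (w : G) := fun w r hr =>
        Φ.K_comm (Φ.R_le_K hr) w.2
      have c1 : Commute (xa : G) b := by
        rw [← eb]
        exact ((Commute.mul_right (hxx X hXsq _ xa.2 _ xb.2) (hall _ yb.2 _ xa.2)).mul_right
          (cW wb _ (hXR xa.2)))
      have c2 : Commute (ya : G) b := by
        rw [← eb]
        exact ((Commute.mul_right (hall _ ya.2 _ xb.2).symm (hxx Y hYsq _ ya.2 _ yb.2)).mul_right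
          (cW wb _ (hYR ya.2)))
      rw [← ea]
      exact ((c1.mul_left c2).mul_left (cW wa _ hb).symm).eq
    obtain ⟨a, b, ⟨-, ha⟩, ⟨-, hb⟩, hab⟩ := Φ.exists_comm_z
    rw [hcomm a ha b hb, mul_inv_cancel_right, mul_inv_cancel] at hab
    exact Φ.cfg.z_ne hab.symm
  set w1 := q * w0 * q⁻¹ with hw1'
  have hqw : w1 ≠ w0 := fun e => hw1 (T.move_W hq hqK hw0W (mul_inv_eq_iff_eq_mul.1 e))
  obtain ⟨hwc1, hwc, hwall⟩ := four_cycle Φ.W Φ.card_W (fun x hx => Φ.sq_W hx)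
    (fun x hx => T.conj_W hq hx) (T.exp q hq) hw0W hw1 hqw
  -- the second rotation, acting on the four group as the first
  obtain ⟨s, hs, hsX, hsy, hsw⟩ : ∃ s ∈ T.P, (∀ x ∈ X, s * x * s⁻¹ = x) ∧
      s * y0 * s⁻¹ ≠ y0 ∧ s * w0 * s⁻¹ = w1 := by
    have hpw : p * w0 * p⁻¹ ≠ w0 := fun e =>
      hw1 (T.move_W hp hpK hw0W (mul_inv_eq_iff_eq_mul.1 e))
    rcases hwall _ (T.conj_W hp hw0W) with e | e | e | e
    · exact absurd (conj_eq_one_iff.1 e) hw1
    · exact absurd e hpw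
    · exact ⟨p, hp, hpfix, hpy, e⟩
    · refine ⟨p⁻¹, inv_mem hp, fun x hx => ?_, fun h => hpy ?_, ?_⟩
      · calc p⁻¹ * x * p⁻¹⁻¹ = p⁻¹ * (p * x * p⁻¹) * p⁻¹⁻¹ := by rw [hpfix x hx]
          _ = x := by group
      · calc p * y0 * p⁻¹ = p * (p⁻¹ * y0 * p⁻¹⁻¹) * p⁻¹ := by rw [h]
          _ = y0 := by group
      · have hw2 : p * w0 * p⁻¹ = q * (q * w0 * q⁻¹) * q⁻¹ := by rw [hwc1]; exact e
        have hpq := T.comm p hp q hq
        have h2 : p * w1 * p⁻¹ = w0 := by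
          calc p * w1 * p⁻¹ = p * q * w0 * (p * q)⁻¹ := by rw [hw1']; group
            _ = q * (p * w0 * p⁻¹) * q⁻¹ := by rw [hpq]; group
            _ = q * q * q * w0 * (q * q * q)⁻¹ := by rw [hw2]; group
            _ = w0 := by rw [T.exp q hq]; group
        calc p⁻¹ * w0 * p⁻¹⁻¹ = p⁻¹ * (p * w1 * p⁻¹) * p⁻¹⁻¹ := by rw [h2]
          _ = w1 := by group
  set x1 := q * x0 * q⁻¹ with hx1'
  set y1 := s * y0 * s⁻¹ with hy1'
  obtain ⟨hxc1', hxc, -⟩ := four_cycle X hX4 hXsq (fun x hx => T.conj_X hp hpK hq hx)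
    (T.exp q hq) hx0 hx1 hrx
  obtain ⟨hyc1', hyc, -⟩ := four_cycle Y hY4 hYsq (fun y hy => T.conj_X hq hqK hs hy)
    (T.exp s hs) hy0 hy1 hsy
  have hx1X : x1 ∈ X := T.conj_X hp hpK hq hx0
  have hy1Y : y1 ∈ Y := T.conj_X hq hqK hs hy0
  have hw1W : w1 ∈ Φ.W := T.conj_W hq hw0W
  obtain ⟨fX, fX1, fXc, fX_add, fX_ran, fX_inj⟩ :=
    four_hom hF hc0 hc1 x0 x1 (hXsq _ hx0) (hXsq _ hx1X) hxc
  obtain ⟨fY, fY1, fYc, fY_add, fY_ran, fY_inj⟩ :=
    four_hom hF hc0 hc1 y0 y1 (hYsq _ hy0) (hYsq _ hy1Y) hyc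
  obtain ⟨fW, fW1, fWc, fW_add, fW_ran, fW_inj⟩ :=
    four_hom hF hc0 hc1 w0 w1 (Φ.sq_W hw0W) (Φ.sq_W hw1W) hwc
  have hfX : ∀ x, fX x ∈ X := fun x => by
    rcases fX_ran x with e | e | e | e <;> rw [e]
    exacts [one_mem _, hx0, hx1X, mul_mem hx0 hx1X]
  have hfY : ∀ x, fY x ∈ Y := fun x => by
    rcases fY_ran x with e | e | e | e <;> rw [e]
    exacts [one_mem _, hy0, hy1Y, mul_mem hy0 hy1Y]
  have hfW : ∀ x, fW x ∈ Φ.W := fun x => by
    rcases fW_ran x with e | e | e | e <;> rw [e]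
    exacts [one_mem _, hw0W, hw1W, mul_mem hw0W hw1W]
  have fXinj := fX_inj hx1 (fun e => hx1 (conj_eq_one_iff.1 e)) hrx.symm
  have fYinj := fY_inj hy1 (fun e => hy1 (conj_eq_one_iff.1 e)) hsy.symm
  have fWinj := fW_inj hw1 (fun e => hw1 (conj_eq_one_iff.1 e)) hqw.symm
  -- the pairing
  have hpair : ∀ j i : F, br (fY j) (fX i) = fW (j * i) := by
    have b00 : br y0 x0 = fW 1 := fW1.symm
    have b01 : br y0 x1 = fW c := by
      calc br y0 x1 = br (q * y0 * q⁻¹) (q * x0 * q⁻¹) := by rw [hqfix y0 hy0]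
        _ = q * w0 * q⁻¹ := hbr q y0 x0
        _ = fW c := fWc.symm
    have b10 : br y1 x0 = fW c := by
      calc br y1 x0 = br (s * y0 * s⁻¹) (s * x0 * s⁻¹) := by rw [hsX x0 hx0]
        _ = s * w0 * s⁻¹ := hbr s y0 x0
        _ = fW c := hsw.trans fWc.symm
    have b11 : br y1 x1 = fW (c * c) := by
      calc br y1 x1 = br (q * y1 * q⁻¹) (q * x0 * q⁻¹) := by rw [hqfix y1 hy1Y]
        _ = q * br y1 x0 * q⁻¹ := hbr q y1 x0
        _ = q * w1 * q⁻¹ := by rw [b10, fWc]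
        _ = w0 * w1 := hwc1
        _ = fW (c * c) := by rw [hcc, fW_add, fWc, fW1, hwc]
    have hrow : ∀ y ∈ Y, ∀ j : F, br y x0 = fW j → br y x1 = fW (j * c) →
        ∀ i, br y (fX i) = fW (j * i) := fun y hy j h1 h2 =>
      ext_four hF hc0 hc1
        (fun i i' => by rw [fX_add, Φ.br_mul_right hπ ho hns (hYR hy) (hXR (hfX i)) (hXR (hfX i'))])
        (fun i i' => by rw [mul_add, fW_add]) (by rw [fX1, h1, mul_one]) (by rw [fXc, h2])
    intro j i
    refine ext_four hF hc0 hc1 (f := fun j => br (fY j) (fX i)) (g := fun j => fW (j * i))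
      (fun j j' => by
        rw [fY_add, Φ.br_mul_left hπ ho hns (hYR (hfY j)) (hYR (hfY j')) (hXR (hfX i))])
      (fun j j' => by rw [add_mul, fW_add]) ?_ ?_ j
    · rw [fY1]
      exact hrow y0 hy0 1 b00 (by rw [one_mul]; exact b01) i
    · rw [fYc]
      exact hrow y1 hy1Y c b10 b11 i
  have hWc : ∀ (x : F) (r : G), r ∈ Φ.R → Commute r (fW x) := fun x r hr =>
    Φ.K_comm (Φ.R_le_K hr) (hfW x)
  have hf0 : ∀ f : F → G, (∀ x y, f (x + y) = f x * f y) → f 0 = 1 := fun f hf => by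
    have := hf 0 0
    rw [add_zero] at this
    exact right_eq_mul.1 this
  have hadd : ∀ (f : F → G) (H : Subgroup G), H ≤ Φ.R → (∀ x y, f (x + y) = f x * f y) →
      (∀ x, f x ∈ H) → ∀ v v' : F × F,
        fW (v + v').1 * f (v + v').2 = fW v.1 * f v.2 * (fW v'.1 * f v'.2) := by
    intro f H hH hf hfH v v'
    rw [Prod.fst_add, Prod.snd_add, fW_add, hf, mul_assoc (fW v.1), mul_assoc (fW v.1),
      ← mul_assoc (f v.2), (hWc v'.1 _ (hH (hfH v.2))).eq, mul_assoc (fW v'.1)]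
  have hinj : ∀ (f : F → G), (∀ x, f x = 1 → x = 0) → (∀ x y, f (x + y) = f x * f y) →
      (∀ x, f x ∈ Φ.W → f x = 1) →
      (∀ v v' : F × F, fW (v + v').1 * f (v + v').2 = fW v.1 * f v.2 * (fW v'.1 * f v'.2)) →
      Function.Injective (fun v : F × F => fW v.1 * f v.2) := by
    intro f hf hfadd hW hadd' v v' e
    simp only at e
    have hsq : fW (v + v').1 * f (v + v').2 = 1 := by
      rw [hadd', ← e, ← hadd', show v + v = 0 from
        Prod.ext (L34Sylow67.add_self hF _) (L34Sylow67.add_self hF _), Prod.fst_zero,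
        Prod.snd_zero, hf0 fW fW_add, hf0 f hfadd, one_mul]
    have hfW' : f (v + v').2 ∈ Φ.W := by
      rw [eq_inv_of_mul_eq_one_right hsq]
      exact inv_mem (hfW _)
    have h2 := hW _ hfW'
    rw [h2, mul_one] at hsq
    exact Prod.ext (L34Sylow67.eq_of_add_eq_zero hF (fWinj _ hsq))
      (L34Sylow67.eq_of_add_eq_zero hF (hf _ h2))
  have haX := hadd fX X hXR fX_add hfX
  have haY := hadd fY Y hYR fY_add hfY
  refine ⟨{
    a := fun v => fW v.1 * fX v.2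
    b := fun v => fW v.1 * fY v.2
    a_mem := fun v => mul_mem (Φ.W_le_R (hfW _)) (hXR (hfX _))
    b_mem := fun v => mul_mem (Φ.W_le_R (hfW _)) (hYR (hfY _))
    a_add := haX
    b_add := haY
    a_inj := hinj fX fXinj fX_add (fun x h => T.X_inf_W hp hpK (hfX x) h) haX
    b_inj := hinj fY fYinj fY_add (fun x h => T.X_inf_W hq hqK (hfY x) h) haY
    axis := fun x => by rw [hf0 fX fX_add, hf0 fY fY_add]
    act := fun v w => ?_
    four := hF
    card := Φ.card_R }, fun g => ?_⟩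
  · have hYw := hYR (hfY w.2)
    have hsw' : fY w.2 * fX v.2 * (fY w.2)⁻¹ = fW (w.2 * v.2) * fX v.2 := by
      rw [← hpair]; simp only [br]; group
    calc fW w.1 * fY w.2 * (fW v.1 * fX v.2) * (fW w.1 * fY w.2)⁻¹
        = fW w.1 * ((fY w.2 * fW v.1) * fX v.2 * (fY w.2)⁻¹) * (fW w.1)⁻¹ := by group
      _ = fW w.1 * (fW v.1 * (fY w.2 * fX v.2 * (fY w.2)⁻¹)) * (fW w.1)⁻¹ := by
          rw [(hWc v.1 _ hYw).eq]; group
      _ = fW w.1 * (fW (v.1 + w.2 * v.2) * fX v.2) * (fW w.1)⁻¹ := by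
          rw [hsw', fW_add]; group
      _ = fW (v.1 + w.2 * v.2) * fX v.2 := by
          rw [← (hWc w.1 _ (mul_mem (Φ.W_le_R (hfW _)) (hXR (hfX _)))).eq, mul_inv_cancel_right]
  · constructor
    · intro hg
      rcases hwall g hg with rfl | rfl | rfl | rfl
      · exact ⟨0, show fW 0 * fX 0 = 1 by rw [hf0 fW fW_add, hf0 fX fX_add, one_mul]⟩
      · exact ⟨1, show fW 1 * fX 0 = w0 by rw [fW1, hf0 fX fX_add, mul_one]⟩
      · exact ⟨c, show fW c * fX 0 = w1 by rw [fWc, hf0 fX fX_add, mul_one]⟩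
      · exact ⟨1 + c, show fW (1 + c) * fX 0 = w0 * w1 by
          rw [fW_add, fW1, fWc, hf0 fX fX_add, mul_one]⟩
    · rintro ⟨x, rfl⟩
      show fW x * fX 0 ∈ Φ.W
      rw [hf0 fX fX_add, mul_one]
      exact hfW x

end Mark

end Cfsg.Agent.Lib.Aut34Cent67
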