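import Mathlib.Data.ZMod.Basic
import Mathlib.GroupTheory.Perm.Basic
import Mathlib.Data.Fintype.Perm
import Mathlib.Data.Fin.VecNotation
import Mathlib.Tactic.Ring

/-!
# The symplectic space of an extraspecial group of order 32 of minus type

helper67.  Coordinates with respect to four singular vectors pairwise non-orthogonal.
-/

set_option autoImplicit false

namespace Cfsg.Agent.Lib.Aut34Cent67

/-- The space. -/
abbrev V : Type := Fin 4 → ZMod 2

/-- The sum of the coordinates. -/
def wt (v : V) : ZMod 2 := v 0 + v 1 + v 2 + v 3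

/-- The alternating form. -/
def form (v w : V) : ZMod 2 := wt v * wt w + (v 0 * w 0 + v 1 * w 1 + v 2 * w 2 + v 3 * w 3)

/-- The quadratic form. -/
def quad (v : V) : ZMod 2 :=
  v 0 * v 1 + v 0 * v 2 + v 0 * v 3 + v 1 * v 2 + v 1 * v 3 + v 2 * v 3

/-- The five singular vectors. -/
def sing : Fin 5 → V :=
  ![![1, 0, 0, 0], ![0, 1, 0, 0], ![0, 0, 1, 0], ![0, 0, 0, 1], ![1, 1, 1, 1]]

/-- The coordinate vectors. -/
def unit (i : Fin 4) : V := sing i.castSucc

/-- The vector with all coordinates `1`. -/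
def one' : V := sing 4

theorem zmod2 : ∀ a : ZMod 2, a = 0 ∨ a = 1 := by decide

theorem add_self2 : ∀ a : ZMod 2, a + a = 0 := by decide

theorem v_add_self (v : V) : v + v = 0 := funext fun i => add_self2 (v i)

theorem v_eq_of_add (v w : V) (h : v + w = 0) : v = w := by
  calc v = v + (w + w) := by rw [v_add_self, add_zero]
    _ = (v + w) + w := (add_assoc _ _ _).symm
    _ = w := by rw [h, zero_add]

theorem wt_add (v w : V) : wt (v + w) = wt v + wt w := by simp only [wt, Pi.add_apply]; ring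

theorem form_add_left (v v' w : V) : form (v + v') w = form v w + form v' w := by
  simp only [form, wt, Pi.add_apply]; ring

theorem form_comm (v w : V) : form v w = form w v := by simp only [form, wt]; ring

theorem quad_add : ∀ v w : V, quad (v + w) = quad v + quad w + form v w := by decide +kernel

theorem form_unit : ∀ (i : Fin 4) (w : V), form (unit i) w = wt w + w i := by decide +kernel

theorem wt_unit : ∀ i : Fin 4, wt (unit i) = 1 := by decide

theorem quad_unit : ∀ i : Fin 4, quad (unit i) = 0 := by decide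

theorem form_one : ∀ w : V, form one' w = wt w := by decide +kernel

theorem quad_zero : quad 0 = 0 := by decide

theorem sing_spec : ∀ v : V, quad v = 0 ∧ v ≠ 0 ↔ ∃ i, v = sing i := by decide +kernel

theorem sing_injective : Function.Injective sing := by decide +kernel

theorem form_sing : ∀ i j : Fin 5, i ≠ j → form (sing i) (sing j) = 1 := by decide +kernel

/-- A vector is the sum of the coordinate vectors in its support. -/
theorem v_eq_sum : ∀ v : V,
    v = (fun _ => v 0) * unit 0 + (fun _ => v 1) * unit 1 + (fun _ => v 2) * unit 2 +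
      (fun _ => v 3) * unit 3 := by decide +kernel

theorem two_points : ∀ a b : Fin 5, a ≠ b →
    (Finset.univ.filter fun π : Equiv.Perm (Fin 5) => π a = a ∧ π b = b).card ≤ 6 := by
  decide +kernel

end Cfsg.Agent.Lib.Aut34Cent67

namespace Cfsg.Agent.Lib.Aut34Cent67

theorem exists_restrict : ∀ π : Equiv.Perm (Fin 5), π 4 = 4 →
    ∃ σ : Equiv.Perm (Fin 4), ∀ i, π i.castSucc = (σ i).castSucc := by decide +kernel

theorem sing_units : ∀ i : Fin 5, sing i = sing 4 ∨ ∃ j : Fin 4, sing i = unit j := by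
  decide +kernel

end Cfsg.Agent.Lib.Aut34Cent67

namespace Cfsg.Agent.Lib.Aut34Cent67

theorem form_radical : ∀ v : V, (∀ i, form v (unit i) = 0) → v = 0 := by decide +kernel

end Cfsg.Agent.Lib.Aut34Cent67

namespace Cfsg.Agent.Lib.Aut34Cent67

/-- A permutation without fixed points of order two. -/
def IsDT (π : Equiv.Perm (Fin 4)) : Prop := ∀ i, π i ≠ i ∧ π (π i) = i

instance : DecidablePred IsDT := fun π => inferInstanceAs (Decidable (∀ i, _ ∧ _))

/-- The images of the coordinates. -/
def permV (π : Equiv.Perm (Fin 4)) (v : V) : V := fun i => v (π⁻¹ i)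

theorem perm_cases : ∀ π : Equiv.Perm (Fin 4), π * π = 1 →
    π = 1 ∨ IsDT π ∨ ∃ a b : Fin 4, a ≠ b ∧ π = Equiv.swap a b := by decide +kernel

theorem sing_cases : ∀ v : V, quad v = 0 → v = 0 ∨ v = one' ∨ ∃ i, v = unit i := by decide +kernel

theorem permV_unit_eq : ∀ (π : Equiv.Perm (Fin 4)) (i : Fin 4),
    permV π (unit i) = unit i → π i = i := by decide +kernel

theorem two_fix : ∀ (i : Fin 4) (a b : Equiv.Perm (Fin 4)), a i = i → b i = i → a * a = 1 →
    b * b = 1 → a * b * (a * b) = 1 → a = 1 ∨ b = 1 ∨ a = b := by decide +kernel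

theorem two_pow_sq : ∀ (i : Fin 4) (a : Equiv.Perm (Fin 4)), a i = i →
    a * a * (a * a) * (a * a * (a * a)) = 1 → a * a = 1 := by decide +kernel

theorem add_permV_small : ∀ (i : Fin 4) (π : Equiv.Perm (Fin 4)) (w : V), π i = i → π * π = 1 →
    quad (w + permV π w) = 0 → w + permV π w = 0 := by decide +kernel

theorem swap_commute : ∀ (a b : Fin 4) (π : Equiv.Perm (Fin 4)), a ≠ b →
    π * Equiv.swap a b = Equiv.swap a b * π → π * π = 1 := by decide +kernel

theorem swap_pair : ∀ a b : Fin 4, a ≠ b → ∃ c d : Fin 4, c ≠ d ∧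
    permV (Equiv.swap a b) (unit a + unit b) = unit a + unit b ∧
    permV (Equiv.swap a b) (unit c) = unit c ∧ permV (Equiv.swap a b) (unit d) = unit d ∧
    quad (unit a + unit b) = 1 ∧ quad (unit c + unit d) = 1 ∧
    quad (unit a + unit b + unit c) = 1 ∧ quad (unit a + unit b + unit d) = 1 := by decide +kernel

theorem dt_pairs : ∀ π : Equiv.Perm (Fin 4), IsDT π → ∃ a c : Fin 4,
    unit a + unit (π a) + (unit c + unit (π c)) = one' ∧
    (unit a + unit c) + permV π (unit a + unit c) = one' ∧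
    permV π (unit a + unit (π a)) = unit a + unit (π a) ∧ quad (unit a + unit (π a)) = 1 := by
  decide +kernel

theorem dt_fixed : ∀ (π : Equiv.Perm (Fin 4)) (w : V), IsDT π → permV π w = w →
    w = 0 ∨ w = one' ∨ ∃ a, w = unit a + unit (π a) ∧ quad w = 1 := by decide +kernel

theorem dt_commuting : ∀ π σ : Equiv.Perm (Fin 4), IsDT π → σ * σ = 1 → σ * π = π * σ →
    σ = 1 ∨ σ = π ∨ IsDT σ ∨ ∃ a, permV σ (unit a + unit (π a)) = unit a + unit (π a) := by
  decide +kernel

end Cfsg.Agent.Lib.Aut34Cent67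

namespace Cfsg.Agent.Lib.Aut34Cent67

/-- The order divides 8. -/
def IsTwoElt (a : Equiv.Perm (Fin 4)) : Prop := a * a * (a * a) * (a * a * (a * a)) = 1

instance : DecidablePred IsTwoElt := fun a => inferInstanceAs (Decidable (_ = _))

theorem squares_centralizer : ∀ π : Equiv.Perm (Fin 4),
    (∀ σ : Equiv.Perm (Fin 4), π * (σ * σ) = σ * σ * π) → π = 1 := by decide +kernel

theorem squares_fixed : ∀ v : V, quad v = 0 → (∀ σ : Equiv.Perm (Fin 4), permV (σ * σ) v = v) →
    v = 0 ∨ v = one' := by decide +kernel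

theorem fitting_four : ∀ π : Equiv.Perm (Fin 4), IsTwoElt π →
    (∀ σ : Equiv.Perm (Fin 4), IsTwoElt (π * (σ * π * σ⁻¹))) → π = 1 ∨ IsDT π := by decide +kernel

theorem dt_mul : ∀ π σ : Equiv.Perm (Fin 4), IsDT π → IsDT σ → π * σ = 1 ∨ IsDT (π * σ) := by
  decide +kernel

theorem dt_inv : ∀ π : Equiv.Perm (Fin 4), IsDT π → IsDT π⁻¹ := by decide +kernel

theorem dt_conj : ∀ π σ : Equiv.Perm (Fin 4), IsDT π → IsDT (σ * π * σ⁻¹) := by decide +kernel

theorem dt_comm : ∀ π σ : Equiv.Perm (Fin 4), IsDT π → IsDT σ → π * σ = σ * π := by decide +kernel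

theorem dt_three : ∀ π σ : Equiv.Perm (Fin 4), π * π * π = 1 → π ≠ 1 → IsDT σ →
    π * σ ≠ σ * π := by decide +kernel

theorem fixed_three : ∀ (π : Equiv.Perm (Fin 4)) (v : V), π * π * π = 1 → π ≠ 1 →
    permV π v = v → wt v = 0 → v = 0 ∨ v = one' := by decide +kernel

theorem card_dt : (Finset.univ.filter fun π : Equiv.Perm (Fin 4) => π = 1 ∨ IsDT π).card = 4 := by
  decide +kernel

theorem card_wt : (Finset.univ.filter fun v : V => wt v = 0).card = 8 := by decide +kernel

theorem exists_wt_pair : ∃ a b : V, wt a = 0 ∧ wt b = 0 ∧ form a b = 1 := by decide +kernel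

end Cfsg.Agent.Lib.Aut34Cent67

namespace Cfsg.Agent.Lib.Aut34Cent67

theorem unit_dt_move : ∀ (i : Fin 4) (π : Equiv.Perm (Fin 4)), IsDT π →
    ¬ (permV π (unit i) + unit i = 0 ∨ permV π (unit i) + unit i = one') := by decide +kernel

theorem centralizer_swap : ∀ (a b : Fin 4) (y : Equiv.Perm (Fin 4)), a ≠ b →
    y * Equiv.swap a b = Equiv.swap a b * y →
    (y = 1 ∨ IsDT y) ∨ (y * Equiv.swap a b = 1 ∨ IsDT (y * Equiv.swap a b)) := by decide +kernel

theorem dt_orbit : ∀ c a b : Equiv.Perm (Fin 4), c * c * c = 1 → c ≠ 1 → IsDT a → IsDT b →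
    b = a ∨ b = c * a * c⁻¹ ∨ b = c * c * a * (c * c)⁻¹ := by decide +kernel

theorem unit_conj : ∀ i : Fin 4, ∃ π : Equiv.Perm (Fin 4), permV π (unit 0) = unit i := by
  decide +kernel

end Cfsg.Agent.Lib.Aut34Cent67
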