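import Cfsg.Agent.Lib.Aut34Cent67.Model
import Mathlib.GroupTheory.GroupAction.Quotient
import Mathlib.Data.Fintype.Perm

/-!
# The action on the five singular classes

helper67.  The centralizer permutes the five classes with kernel `E`; its image has order 24 and
fixes a class.
-/

set_option autoImplicit false
set_option linter.unusedSectionVars false
set_option linter.style.haveILetI false

open Subgroup

namespace Cfsg.Agent.Lib.Aut34Cent67

universe u

/-- A group of order 24 of permutations of five points fixes one of them. -/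
theorem exists_fixed (H : Subgroup (Equiv.Perm (Fin 5))) (hH : Nat.card ↥H = 24) :
    ∃ a : Fin 5, ∀ π ∈ H, π a = a := by
  classical
  -- an orbit does not consist of two points
  have h2 : ∀ a : Fin 5, Nat.card (MulAction.orbit ↥H a) ≠ 2 := by
    intro a hcard
    have horb := MulAction.card_orbit_mul_card_stabilizer_eq_card_group ↥H a
    rw [← Nat.card_eq_fintype_card, ← Nat.card_eq_fintype_card, ← Nat.card_eq_fintype_card,
      hcard, hH] at horb
    rw [Nat.card_eq_fintype_card, Fintype.card_eq_nat_card] at hcard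
    obtain ⟨b, hb, hba⟩ : ∃ b ∈ MulAction.orbit ↥H a, b ≠ a := by
      have : Set.ncard (MulAction.orbit ↥H a) = 2 := by rw [← Nat.card_coe_set_eq, hcard]
      exact Set.exists_ne_of_one_lt_ncard (s := MulAction.orbit ↥H a) (by omega) a
    have hle : Nat.card (MulAction.stabilizer ↥H a) ≤
        (Finset.univ.filter fun π : Equiv.Perm (Fin 5) => π a = a ∧ π b = b).card := by
      rw [← Fintype.card_coe, ← Nat.card_eq_fintype_card]
      refine Nat.card_le_card_of_injective
        (fun π => ⟨((π : ↥H) : Equiv.Perm (Fin 5)), ?_⟩) ?_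
      · have ha : ((π : ↥H) : Equiv.Perm (Fin 5)) a = a := π.2
        refine Finset.mem_filter.2 ⟨Finset.mem_univ _, ha, ?_⟩
        by_contra hne
        have hmem : ((π : ↥H) : Equiv.Perm (Fin 5)) b ∈ MulAction.orbit ↥H a := by
          obtain ⟨g, rfl⟩ := hb
          exact ⟨(π : ↥H) * g, rfl⟩
        have h3 : Set.ncard ({a, b, ((π : ↥H) : Equiv.Perm (Fin 5)) b} : Set (Fin 5)) ≤ 2 := by
          refine (Set.ncard_le_ncard (t := MulAction.orbit ↥H a) ?_).trans_eq
            (by rw [← Nat.card_coe_set_eq]; exact hcard)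
          intro x hx
          simp only [Set.mem_insert_iff, Set.mem_singleton_iff] at hx
          rcases hx with rfl | rfl | rfl
          exacts [MulAction.mem_orbit_self _, hb, hmem]
        have hd : ((π : ↥H) : Equiv.Perm (Fin 5)) b ≠ a := fun e =>
          hba ((Equiv.injective _) (e.trans ha.symm))
        rw [Set.ncard_insert_of_notMem (by simp [Ne.symm hba, Ne.symm hd]),
          Set.ncard_insert_of_notMem (by simp [Ne.symm hne]), Set.ncard_singleton] at h3
        omega
      · intro π π' e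
        exact Subtype.ext (Subtype.ext (congrArg Subtype.val e :))
    have := two_points a b hba.symm
    omega
  have hdvd : ∀ a : Fin 5, Nat.card (MulAction.orbit ↥H a) ∣ 24 := fun a => by
    rw [← hH]
    have horb := MulAction.card_orbit_mul_card_stabilizer_eq_card_group ↥H a
    rw [← Nat.card_eq_fintype_card, ← Nat.card_eq_fintype_card, ← Nat.card_eq_fintype_card] at horb
    exact ⟨_, horb.symm⟩
  have hone : ∀ a : Fin 5, Nat.card (MulAction.orbit ↥H a) = 1 → ∀ π ∈ H, π a = a := by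
    intro a h π hπ
    haveI : Subsingleton (MulAction.orbit ↥H a) := (Nat.card_eq_one_iff_unique.1 h).1
    exact congrArg Subtype.val (Subsingleton.elim
      (⟨π a, ⟨⟨π, hπ⟩, rfl⟩⟩ : MulAction.orbit ↥H a) ⟨a, MulAction.mem_orbit_self a⟩)
  have h05 : ∀ a : Fin 5, Nat.card (MulAction.orbit ↥H a) ≤ 5 := fun a => by
    exact (Nat.card_le_card_of_injective _ Subtype.val_injective).trans_eq (Nat.card_fin 5)
  have hpos : ∀ a : Fin 5, 0 < Nat.card (MulAction.orbit ↥H a) := fun a => by
    haveI : Nonempty (MulAction.orbit ↥H a) := ⟨⟨a, MulAction.mem_orbit_self a⟩⟩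
    exact Nat.card_pos
  by_contra hno
  push Not at hno
  have hge : ∀ a : Fin 5, 3 ≤ Nat.card (MulAction.orbit ↥H a) := fun a => by
    obtain ⟨π, hπ, hne⟩ := hno a
    have := hpos a
    have := h2 a
    by_contra h
    exact hne (hone a (by omega) π hπ)
  -- so there is one orbit of five points
  have hall : ∀ a b : Fin 5, b ∈ MulAction.orbit ↥H a := by
    intro a b
    by_contra hb
    have hdis : Disjoint (MulAction.orbit ↥H a) (MulAction.orbit ↥H b) := by
      rw [Set.disjoint_left]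
      intro x hx hx'
      exact hb (by
        rw [← MulAction.orbit_eq_iff.2 hx, MulAction.orbit_eq_iff.2 hx']
        exact MulAction.mem_orbit_self b)
    have := Set.ncard_union_eq hdis (Set.toFinite _) (Set.toFinite _)
    have h5 : Set.ncard (MulAction.orbit ↥H a ∪ MulAction.orbit ↥H b) ≤ 5 :=
      (Set.ncard_le_ncard (Set.subset_univ _)).trans_eq (by rw [Set.ncard_univ, Nat.card_fin])
    have ea := hge a
    have eb := hge b
    rw [Nat.card_coe_set_eq] at ea eb
    omega
  have h5 : Nat.card (MulAction.orbit ↥H (0 : Fin 5)) = 5 := by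
    rw [Nat.card_coe_set_eq, Set.eq_univ_of_forall (hall 0), Set.ncard_univ, Nat.card_fin]
  have := hdvd 0
  rw [h5] at this
  omega

namespace Quad

variable {G : Type u} [Group G] {z : G} {E : Subgroup G} (Φ : Quad z E) [Finite G]

/-- The action on classes. -/
noncomputable def img (c : G) (w : V) : V := Φ.v (c * Φ.lift w * c⁻¹)

theorem v_conj {c : G} (hc : c ∈ centralizer ({z} : Set G)) {x : G} (hx : x ∈ E) :
    Φ.v (c * x * c⁻¹) = Φ.img c (Φ.v x) := by
  rcases Φ.eq_of_v_eq hx (Φ.lift_mem (Φ.v x)) (by rw [v_lift]) with e | e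
  · conv_lhs => rw [e]
    rfl
  · conv_lhs => rw [e]
    rw [show c * (Φ.lift (Φ.v x) * z) * c⁻¹ = c * Φ.lift (Φ.v x) * c⁻¹ * (c * z * c⁻¹) by group,
      mem_centralizer_singleton_iff.1 hc, mul_inv_cancel_right,
      Φ.v_mul (Φ.cfg.conj c hc _ (Φ.lift_mem _)) Φ.cfg.z_mem, v_z, add_zero]
    rfl

include Φ in
theorem conj_mem {c : G} (hc : c ∈ centralizer ({z} : Set G)) {x : G} (hx : x ∈ E) :
    c * x * c⁻¹ ∈ E := Φ.cfg.conj c hc x hx

theorem img_add {c : G} (hc : c ∈ centralizer ({z} : Set G)) (w w' : V) :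
    Φ.img c (w + w') = Φ.img c w + Φ.img c w' := by
  have h := Φ.v_conj hc (mul_mem (Φ.lift_mem w) (Φ.lift_mem w'))
  rw [Φ.v_mul (Φ.lift_mem w) (Φ.lift_mem w'), v_lift, v_lift] at h
  rw [← h, show c * (Φ.lift w * Φ.lift w') * c⁻¹ =
    c * Φ.lift w * c⁻¹ * (c * Φ.lift w' * c⁻¹) by group,
    Φ.v_mul (Φ.conj_mem hc (Φ.lift_mem w)) (Φ.conj_mem hc (Φ.lift_mem w'))]
  rfl

theorem img_mul {c d : G} (hc : c ∈ centralizer ({z} : Set G))
    (hd : d ∈ centralizer ({z} : Set G)) (w : V) : Φ.img (c * d) w = Φ.img c (Φ.img d w) := by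
  show _ = Φ.img c (Φ.v (d * Φ.lift w * d⁻¹))
  rw [← Φ.v_conj hc (Φ.conj_mem hd (Φ.lift_mem w))]
  show Φ.v _ = _
  congr 1
  group

theorem img_one (w : V) : Φ.img 1 w = w := by
  show Φ.v _ = w
  rw [one_mul, inv_one, mul_one, v_lift]

theorem img_zero {c : G} (hc : c ∈ centralizer ({z} : Set G)) : Φ.img c 0 = 0 := by
  have h := Φ.img_add hc 0 0
  rw [add_zero] at h
  rw [h, v_add_self]

theorem img_inj {c : G} (hc : c ∈ centralizer ({z} : Set G)) : Function.Injective (Φ.img c) := by
  intro w w' e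
  have := congrArg (Φ.img c⁻¹) e
  rwa [← Φ.img_mul (inv_mem hc) hc, ← Φ.img_mul (inv_mem hc) hc, inv_mul_cancel, img_one,
    img_one] at this

theorem quad_img {c : G} (hc : c ∈ centralizer ({z} : Set G)) (w : V) :
    quad (Φ.img c w) = quad w := by
  have h1 := Φ.sq_eq (Φ.conj_mem hc (Φ.lift_mem w))
  rw [show c * Φ.lift w * c⁻¹ * (c * Φ.lift w * c⁻¹) = c * (Φ.lift w * Φ.lift w) * c⁻¹ by group,
    Φ.sq_eq (Φ.lift_mem w), v_lift, ← Φ.ζ_comm _ hc, mul_inv_cancel_right] at h1
  exact (Φ.ζ_inj h1).symm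

theorem exists_sing {c : G} (hc : c ∈ centralizer ({z} : Set G)) (i : Fin 5) :
    ∃ j, Φ.img c (sing i) = sing j := by
  obtain ⟨hq, hne⟩ := (sing_spec (sing i)).2 ⟨i, rfl⟩
  exact (sing_spec _).1 ⟨by rw [Φ.quad_img hc, hq],
    fun e => hne (Φ.img_inj hc (e.trans (Φ.img_zero hc).symm))⟩

/-- The permutation of the five classes. -/
noncomputable def five : ↥(centralizer ({z} : Set G)) →* Equiv.Perm (Fin 5) where
  toFun c := Equiv.ofBijective (fun i => (Φ.exists_sing c.2 i).choose) (by
    refine Finite.injective_iff_bijective.1 fun i j e => ?_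
    refine sing_injective (Φ.img_inj c.2 ?_)
    rw [(Φ.exists_sing c.2 i).choose_spec, (Φ.exists_sing c.2 j).choose_spec]
    exact congrArg sing e)
  map_one' := Equiv.ext fun i => sing_injective (by
    show sing (Φ.exists_sing (one_mem _) i).choose = sing i
    rw [← (Φ.exists_sing (one_mem _) i).choose_spec]
    exact Φ.img_one _)
  map_mul' c d := Equiv.ext fun i => sing_injective (by
    show sing (Φ.exists_sing (mul_mem c.2 d.2) i).choose =
      sing (Φ.exists_sing c.2 (Φ.exists_sing d.2 i).choose).choose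
    rw [← (Φ.exists_sing (mul_mem c.2 d.2) i).choose_spec, ← (Φ.exists_sing c.2 _).choose_spec]
    show _ = Φ.img _ (sing (Φ.exists_sing d.2 i).choose)
    rw [← (Φ.exists_sing d.2 i).choose_spec]
    exact Φ.img_mul c.2 d.2 _)

theorem sing_five (c : ↥(centralizer ({z} : Set G))) (i : Fin 5) :
    sing (Φ.five c i) = Φ.img c (sing i) := ((Φ.exists_sing c.2 i).choose_spec).symm

/-- Only elements of `E` fix all five classes. -/
theorem ker_five : Φ.five.ker = E.subgroupOf (centralizer ({z} : Set G)) := by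
  ext c
  rw [MonoidHom.mem_ker, mem_subgroupOf]
  constructor
  · intro h
    have hfix : ∀ i, Φ.img c (unit i) = unit i := fun i => by
      show Φ.img c (sing _) = sing _
      rw [← Φ.sing_five, h]
      rfl
    -- the conjugates differ by powers of `z`
    have hp : ∀ i, ∃ a : ZMod 2, (c : G) * Φ.p i * (c : G)⁻¹ = Φ.p i * Φ.ζ a := fun i => by
      have hv : Φ.v ((c : G) * Φ.p i * (c : G)⁻¹) = Φ.v (Φ.p i) := by
        rw [Φ.v_conj c.2 (Φ.p_mem i), v_p, hfix]
      rcases Φ.eq_of_v_eq (Φ.conj_mem c.2 (Φ.p_mem i)) (Φ.p_mem i) hv with e | e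
      · exact ⟨0, by rw [e, ζ_zero, mul_one]⟩
      · exact ⟨1, by rw [e, ζ_one]⟩
    choose a ha using hp
    -- an element of `E` with the same action
    set s := a 0 + a 1 + a 2 + a 3 with hs
    set x := Φ.lift (fun j => a j + s) with hx
    have hxE : x ∈ E := Φ.lift_mem _
    have hxp : ∀ i, x * Φ.p i * x⁻¹ = Φ.p i * Φ.ζ (a i) := by
      intro i
      rw [Φ.mul_swap hxE (Φ.p_mem i), hx, v_lift, v_p, form_comm, form_unit]
      have key : ∀ b c d e : ZMod 2, wt (fun j => ![b, c, d, e] j + (b + c + d + e)) =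
          b + c + d + e := by decide
      have hw : wt (fun j => a j + s) = s := by
        have := key (a 0) (a 1) (a 2) (a 3)
        simpa [wt, hs] using this
      rw [hw, show s + (a i + s) = a i by
        rw [add_comm (a i), ← add_assoc, add_self2, zero_add], ← mul_assoc,
        mul_inv_cancel_right, Φ.ζ_commE _ (Φ.p_mem i)]
    have hd : x⁻¹ * (c : G) ∈ E := by
      refine Φ.cfg.self _ (mul_mem (inv_mem (Φ.cfg.le hxE)) c.2) fun y hy => ?_
      refine Φ.induction (P := fun y => x⁻¹ * (c : G) * y = y * (x⁻¹ * c)) (fun i => ?_)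
        (by simp) ?_ ?_ hy
      · calc x⁻¹ * (c : G) * Φ.p i = x⁻¹ * ((c : G) * Φ.p i * (c : G)⁻¹) * c := by group
          _ = x⁻¹ * (x * Φ.p i * x⁻¹) * c := by rw [ha, hxp]
          _ = Φ.p i * (x⁻¹ * c) := by group
      · intro p _ q _ e e'
        exact Commute.mul_right e e'
      · intro p _ e
        exact Commute.inv_right e
    have := mul_mem hxE hd
    rwa [mul_inv_cancel_left] at this
  · intro hc
    refine Equiv.ext fun i => sing_injective ?_
    rw [Φ.sing_five, Equiv.Perm.one_apply]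
    show Φ.v _ = _
    rw [Φ.v_mul (mul_mem hc (Φ.lift_mem _)) (inv_mem hc), Φ.v_mul hc (Φ.lift_mem _), Φ.v_inv hc,
      v_lift, add_comm (Φ.v _), add_assoc, v_add_self, add_zero]

theorem card_five : Nat.card ↥Φ.five.range = 24 := by
  have h := Φ.five.ker.card_eq_card_quotient_mul_card_subgroup
  rw [Φ.ker_five] at h
  rw [← Nat.card_congr (QuotientGroup.quotientKerEquivRange Φ.five).toEquiv, Φ.ker_five]
  rw [Nat.card_congr (subgroupOfEquivOfLe Φ.cfg.le).toEquiv, Φ.cfg.card_E, Φ.cfg.card_C] at h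
  omega

end Quad

/-- Coordinates in which the centralizer fixes the class `one'`. -/
structure Mark {G : Type u} [Group G] (z : G) (E : Subgroup G) extends Quad z E where
  fixed : ∀ c ∈ centralizer ({z} : Set G), ∀ x ∈ E, toQuad.v x = one' →
    toQuad.v (c * x * c⁻¹) = one'

/-- The coordinates can be chosen so that the centralizer fixes `one'`. -/
theorem Quad.exists_mark {G : Type u} [Group G] {z : G} {E : Subgroup G} [Finite G]
    (Φ : Quad z E) : Nonempty (Mark z E) := by
  obtain ⟨k, hk⟩ := exists_fixed _ Φ.card_five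
  set Ψ : Quad z E :=
    { cfg := Φ.cfg
      p := fun i => Φ.lift (sing (k.succAbove i))
      p_mem := fun _ => Φ.lift_mem _
      p_sq := fun i => (Φ.sq_one_iff (Φ.lift_mem _)).2 (by
        rw [Φ.v_lift]; exact ((sing_spec _).2 ⟨_, rfl⟩).1)
      p_swap := fun i j hij => by
        rw [Φ.mul_swap (Φ.lift_mem _) (Φ.lift_mem _), Φ.v_lift, Φ.v_lift,
          form_sing _ _ (fun e => hij (Fin.succAbove_right_injective e)), Φ.ζ_one] } with hΨ
  -- the class of `sing k` becomes `one'`
  have hk' : Ψ.v (Φ.lift (sing k)) = one' := by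
    have hcb : ∀ i, Quad.cb (Φ.lift (sing k)) (Ψ.p i) = 1 := fun i => by
      show Quad.cb _ (Φ.lift (sing (k.succAbove i))) = 1
      rw [Φ.cb_eq (Φ.lift_mem _) (Φ.lift_mem _), Φ.v_lift, Φ.v_lift,
        form_sing _ _ (Fin.succAbove_ne k i).symm]
    funext j
    simp only [Quad.v, hcb]
    revert j
    decide
  refine ⟨{ toQuad := Ψ, fixed := fun c hc x hx hv => ?_ }⟩
  have hΦ : ∀ {a b : G}, a ∈ E → b ∈ E → Φ.v a = Φ.v b → Ψ.v a = Ψ.v b := by
    intro a b ha hb e
    rcases Φ.eq_of_v_eq ha hb e with rfl | rfl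
    · rfl
    · rw [Ψ.v_mul hb Ψ.cfg.z_mem, Ψ.v_z, add_zero]
  have hΨΦ : Φ.v x = sing k := by
    have := hv.trans hk'.symm
    rcases Ψ.eq_of_v_eq hx (Φ.lift_mem (sing k)) this with e | e
    · rw [e, Φ.v_lift]
    · rw [e, Φ.v_mul (Φ.lift_mem _) Φ.cfg.z_mem, Φ.v_lift, Φ.v_z, add_zero]
  rw [← hk']
  refine hΦ (Φ.conj_mem hc hx) (Φ.lift_mem _) ?_
  rw [Φ.v_conj hc hx, hΨΦ, Φ.v_lift, ← Φ.sing_five ⟨c, hc⟩, hk _ ⟨_, rfl⟩]

end Cfsg.Agent.Lib.Aut34Cent67
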