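import Cfsg.Agent.Lib.Aut34Cent67.Setup

/-!
# The central involution is fused with the involution of weight four

helper67.
-/

set_option autoImplicit false
set_option linter.unusedSectionVars false
set_option linter.style.haveILetI false

open Subgroup

namespace Cfsg.Agent.Lib.Aut34Cent67.Mark

universe u

variable {G : Type u} [Group G] [Finite G] {z : G} {E : Subgroup G} (Φ : Mark z E)

theorem conj_centralizer {u x : G} (hu : u ∈ centralizer ({z} : Set G))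
    (hx : x ∈ centralizer ({z} : Set G)) : Φ.act (u * x * u⁻¹) = Φ.act u * Φ.act x * (Φ.act u)⁻¹ := by
  rw [Φ.act_mul (mul_mem hu hx) (inv_mem hu), Φ.act_mul hu hx, Φ.act_inv hu]

theorem v_conj' {u x : G} (hu : u ∈ centralizer ({z} : Set G)) (hx : x ∈ E) :
    Φ.v (u * x * u⁻¹) = permV (Φ.act u) (Φ.v x) := Φ.v_act hu hx

theorem act_sq {u : G} (hu : u ∈ centralizer ({z} : Set G)) (h : u * u = 1) :
    Φ.act u * Φ.act u = 1 := by rw [← Φ.act_mul hu hu, h, act_one]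

/-- An element with fixed class fixes or moves by `z`. -/
theorem conj_fixed {u x : G} (hu : u ∈ centralizer ({z} : Set G)) (hx : x ∈ E)
    (h : permV (Φ.act u) (Φ.v x) = Φ.v x) : u * x * u⁻¹ = x ∨ u * x * u⁻¹ = x * z :=
  Φ.eq_of_v_eq (Φ.conj_mem hu hx) hx (by rw [Φ.v_conj' hu hx, h])

include Φ in
/-- A conjugate of `z` centralizing `z` has a centralizer in `C(z)` that is not Sylow. -/
theorem exists_shift {u : G} (hu : u ∈ centralizer ({z} : Set G)) (hne : u ≠ z) {g : G}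
    (hg : g * z * g⁻¹ = u) {R : Subgroup G}
    (hR : IsPGroup 2 ↥R) (hRu : R ≤ centralizer ({z} : Set G) ⊓ centralizer ({u} : Set G)) :
    ∃ U : Subgroup G, IsPGroup 2 ↥U ∧ R ≤ U ∧
      U ≤ centralizer ({z} : Set G) ⊓ centralizer ({u} : Set G) ∧ z ∈ U ∧ u ∈ U ∧
      ∃ n : G, n * u * n⁻¹ = u ∧ (∀ x ∈ U, n * x * n⁻¹ ∈ U) ∧ (∀ x ∈ U, n⁻¹ * x * n ∈ U) ∧
        n * z * n⁻¹ ≠ z := by
  haveI : Fact (Nat.Prime 2) := ⟨Nat.prime_two⟩
  set C := centralizer ({z} : Set G) with hC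
  set D := C ⊓ centralizer ({u} : Set G) with hD
  obtain ⟨T, hTC, hET, hTcard⟩ := Φ.exists_sylow
  have huu : u * u = 1 := by
    rw [← hg, show g * z * g⁻¹ * (g * z * g⁻¹) = g * (z * z) * g⁻¹ by group, Φ.cfg.z_mul]; group
  obtain ⟨P, hP⟩ := (hR.of_equiv (subgroupOfEquivOfLe hRu).symm).exists_le_sylow
  set U : Subgroup G := (P : Subgroup ↥D).map D.subtype with hU
  have hUD : U ≤ D := map_subtype_le _
  have hU2 : IsPGroup 2 ↥U := P.2.map _
  have hcen : ∀ d : ↥D, ((d : G) = z ∨ (d : G) = u) → d ∈ (P : Subgroup ↥D) := by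
    intro d hd
    refine L34Sylow67.mem_of_normalizer P (k := 1) (Subgroup.mem_normalizer_iff.2 fun t => ?_) ?_
    · have ht := mem_inf.1 t.2
      have : d * t * d⁻¹ = t := Subtype.ext (by
        show (d : G) * t * (d : G)⁻¹ = t
        rcases hd with e | e <;> rw [e]
        · rw [← mem_centralizer_singleton_iff.1 ht.1, mul_inv_cancel_right]
        · rw [← mem_centralizer_singleton_iff.1 ht.2, mul_inv_cancel_right])
      rw [this]
    · refine Subtype.ext ?_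
      show (d : G) ^ 2 ^ 1 = 1
      rcases hd with e | e <;> rw [e, pow_one, sq]
      exacts [Φ.cfg.z_mul, huu]
  have hzD : z ∈ D := mem_inf.2 ⟨Φ.z_mem_C, mem_centralizer_singleton_iff.2
    (mem_centralizer_singleton_iff.1 hu).symm⟩
  have huD : u ∈ D := mem_inf.2 ⟨hu, mem_centralizer_singleton_iff.2 rfl⟩
  have hzU : z ∈ U := ⟨⟨z, hzD⟩, hcen _ (Or.inl rfl), rfl⟩
  have huU : u ∈ U := ⟨⟨u, huD⟩, hcen _ (Or.inr rfl), rfl⟩
  refine ⟨U, hU2, fun r hr => ⟨⟨r, hRu hr⟩, hP hr, rfl⟩, hUD, hzU, huU, ?_⟩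
  -- a Sylow 2-subgroup of `C(u)` containing `U`
  set Cu := centralizer ({u} : Set G) with hCu
  have hTu : (T : Subgroup G).map (MulAut.conj g).toMonoidHom ≤ Cu := by
    rintro _ ⟨t, ht, rfl⟩
    refine mem_centralizer_singleton_iff.2 ?_
    rw [← hg]
    show MulAut.conj g t * MulAut.conj g z = MulAut.conj g z * MulAut.conj g t
    rw [← map_mul, ← map_mul, mem_centralizer_singleton_iff.1 (hTC ht)]
  have hUCu : U ≤ Cu := hUD.trans inf_le_right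
  obtain ⟨Q, hQ⟩ := (hU2.of_equiv (subgroupOfEquivOfLe hUCu).symm).exists_le_sylow
  set Q' : Subgroup G := (Q : Subgroup ↥Cu).map Cu.subtype with hQ'
  have hUQ : U ≤ Q' := fun x hx => ⟨⟨x, hUCu hx⟩, hQ hx, rfl⟩
  have hQcard : 256 ≤ Nat.card ↥Q' := by
    have h2 : IsPGroup 2 ↥(((T : Subgroup G).map (MulAut.conj g).toMonoidHom).subgroupOf Cu) :=
      (T.2.map _).of_equiv (subgroupOfEquivOfLe hTu).symm
    obtain ⟨Q₂, hQ₂⟩ := h2.exists_le_sylow
    rw [hQ', card_map_of_injective Cu.subtype_injective, Q.card_eq_multiplicity,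
      ← Q₂.card_eq_multiplicity, ← hTcard,
      ← Subgroup.card_map_of_injective (f := (MulAut.conj g).toMonoidHom) (MulAut.conj g).injective,
      ← Nat.card_congr (subgroupOfEquivOfLe hTu).toEquiv]
    exact Subgroup.card_le_of_le hQ₂
  have hlt : U < Q' := by
    refine lt_of_le_of_ne hUQ fun e => ?_
    obtain ⟨c, hc, hcT⟩ := L34Sylow67.exists_conj_into T hTC (R := U) (hUD.trans inf_le_left) hU2
    have hcard : U.map (MulAut.conj c).toMonoidHom = (T : Subgroup G) := by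
      refine Subgroup.eq_of_le_of_card_ge (by rintro _ ⟨x, hx, rfl⟩; exact hcT x hx) ?_
      rw [Subgroup.card_map_of_injective (MulAut.conj c).injective, hTcard, e]
      exact hQcard
    -- then `u` centralizes `E`
    have hE : ∀ x ∈ E, u * x = x * u := by
      intro x hx
      obtain ⟨y, hy, e'⟩ : c * x * c⁻¹ ∈ U.map (MulAut.conj c).toMonoidHom :=
        hcard ▸ hET (Φ.cfg.conj c hc x hx)
      have : y = x := (MulAut.conj c).injective e'
      exact (mem_centralizer_singleton_iff.1 (mem_inf.1 (hUD (this ▸ hy))).2).symm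
    rcases Φ.center_E (Φ.cfg.self u hu hE) (fun i => hE _ (Φ.p_mem i)) with h | h
    · rw [← hg, conj_eq_one_iff] at h
      exact Φ.cfg.z_ne h
    · exact hne h
  haveI : Group.IsNilpotent ↥Q' := (Q.2.map Cu.subtype).isNilpotent
  have hlt' : U.subgroupOf Q' < ⊤ := lt_top_iff_ne_top.2 fun h =>
    hlt.ne (le_antisymm hUQ (subgroupOf_eq_top.1 h))
  obtain ⟨n, hn, hn'⟩ := SetLike.exists_of_lt (Group.normalizerCondition_of_isNilpotent _ hlt')
  have hnU : ∀ x ∈ U, (n : G) * x * (n : G)⁻¹ ∈ U := fun x hx =>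
    (Subgroup.mem_normalizer_iff.1 hn ⟨x, hUQ hx⟩).1 hx
  have hnU' : ∀ x ∈ U, (n : G)⁻¹ * x * n ∈ U := fun x hx => by
    have := (Subgroup.mem_normalizer_iff.1 (inv_mem hn) ⟨x, hUQ hx⟩).1 hx
    simpa [mem_subgroupOf] using this
  have hnu : (n : G) * u * (n : G)⁻¹ = u := by
    have : (n : G) ∈ Cu := map_subtype_le _ n.2
    rw [mem_centralizer_singleton_iff.1 this, mul_inv_cancel_right]
  refine ⟨n, hnu, hnU, hnU', fun hnz => hn' ?_⟩
  -- otherwise `n` lies in the Sylow subgroup `U` of `C ∩ C(u)`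
  have hnD : (n : G) ∈ D := mem_inf.2 ⟨mem_centralizer_singleton_iff.2
    (mul_inv_eq_iff_eq_mul.1 hnz), mem_centralizer_singleton_iff.2 (mul_inv_eq_iff_eq_mul.1 hnu)⟩
  obtain ⟨k, hk⟩ := (Q.2.map Cu.subtype) n
  have hk' : (⟨(n : G), hnD⟩ : ↥D) ^ 2 ^ k = 1 := Subtype.ext (congrArg Subtype.val hk :)
  refine ⟨⟨(n : G), hnD⟩, L34Sylow67.mem_of_normalizer P (Subgroup.mem_normalizer_iff.2 fun t => ?_)
    hk', rfl⟩
  constructor
  · intro ht
    obtain ⟨a, ha, e⟩ := hnU t ⟨t, ht, rfl⟩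
    rwa [show a = ⟨(n : G), hnD⟩ * t * ⟨(n : G), hnD⟩⁻¹ from Subtype.ext e] at ha
  · intro ht
    have h := hnU' _ ⟨_, ht, rfl⟩
    obtain ⟨a, ha, e⟩ := h
    rwa [show a = t from Subtype.ext (e.trans (by simp [mul_assoc]))] at ha

/-- Involutions of `E` with class of weight one are not conjugate to `z`. -/
theorem not_fused_unit {u : G} (hu : u ∈ E) {i : Fin 4} (hv : Φ.v u = unit i) (g : G) :
    g * z * g⁻¹ ≠ u := by
  intro hg
  have hne : u ≠ z := fun e => by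
    rw [e, Φ.v_z] at hv
    revert hv
    revert i
    decide
  set C := centralizer ({z} : Set G) with hC
  obtain ⟨U, hU2, hRU, hUD, hzU, -, n, -, hn, hn', hnz⟩ := Φ.exists_shift (Φ.cfg.le hu) hne hg
    (R := E ⊓ centralizer ({u} : Set G)) (Φ.isPGroup_E.to_le inf_le_left)
    (inf_le_inf_right _ Φ.cfg.le)
  obtain ⟨a, b, hqa, hqb, hab⟩ : ∃ a b : V, form a (unit i) = 0 ∧ form b (unit i) = 0 ∧
      form a b = 1 := by
    have key : ∀ i : Fin 4, ∃ a b : V, form a (unit i) = 0 ∧ form b (unit i) = 0 ∧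
        form a b = 1 := by decide +kernel
    exact key i
  have hxU : ∀ w : V, form w (unit i) = 0 → Φ.lift w ∈ U := fun w hw => hRU (mem_inf.2
    ⟨Φ.lift_mem _, mem_centralizer_singleton_iff.2 ((Φ.comm_iff (Φ.lift_mem _) hu).2
      (by rw [Φ.v_lift, hv]; exact hw))⟩)
  set x₁ := Φ.lift a with hx₁
  set x₂ := Φ.lift b with hx₂
  have hz : z = x₁ * x₂ * x₁⁻¹ * x₂⁻¹ := by
    rw [hx₁, hx₂, Φ.mul_swap (Φ.lift_mem a) (Φ.lift_mem b), Φ.v_lift, Φ.v_lift, hab, Φ.ζ_one]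
    group
  set y₁ := n * x₁ * n⁻¹ with hy₁
  set y₂ := n * x₂ * n⁻¹ with hy₂
  have hy₁U : y₁ ∈ U := hn _ (hxU a hqa)
  have hy₂U : y₂ ∈ U := hn _ (hxU b hqb)
  set z' := n * z * n⁻¹ with hz'
  have hzy : z' = y₁ * y₂ * y₁⁻¹ * y₂⁻¹ := by rw [hz', hy₁, hy₂, hz]; group
  have hz'2 : z' * z' = 1 := by
    rw [hz', show n * z * n⁻¹ * (n * z * n⁻¹) = n * (z * z) * n⁻¹ by group, Φ.cfg.z_mul]; group
  have hfix : ∀ y ∈ U, Φ.act y i = i := fun y hy => by
    refine permV_unit_eq _ _ ?_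
    have h := mem_inf.1 (hUD hy)
    rw [← hv, ← Φ.v_conj' h.1 hu, mem_centralizer_singleton_iff.1 h.2, mul_inv_cancel_right]
  have hsq : ∀ y ∈ U, Φ.act y * Φ.act y = 1 := fun y hy => by
    refine two_pow_sq i _ (hfix y hy) ?_
    obtain ⟨k, hk⟩ := hU2 ⟨y, hy⟩
    have hyC := (mem_inf.1 (hUD hy)).1
    have hp : ∀ m : ℕ, Φ.act (y ^ m) = Φ.act y ^ m := by
      intro m
      induction m with
      | zero => rw [pow_zero, pow_zero, act_one]
      | succ m ih => rw [pow_succ, pow_succ, Φ.act_mul (pow_mem hyC m) hyC, ih]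
    have h1 : orderOf (Φ.act y) ∣ 2 ^ k := orderOf_dvd_of_pow_eq_one (by
      rw [← hp, show y ^ 2 ^ k = 1 from congrArg Subtype.val hk, act_one])
    obtain ⟨j, -, hj⟩ := (Nat.dvd_prime_pow Nat.prime_two).1 h1
    have h2 : orderOf (Φ.act y) ∣ 24 := by
      have := orderOf_dvd_natCard (Φ.act y)
      rwa [Nat.card_eq_fintype_card, Fintype.card_perm, Fintype.card_fin] at this
    have h3 : orderOf (Φ.act y) ∣ 8 := by
      rw [hj] at h2 ⊢
      exact (Nat.Coprime.pow_left j (by norm_num : Nat.Coprime 2 3)).dvd_of_dvd_mul_right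
        (by simpa using h2)
    have h4 := orderOf_dvd_iff_pow_eq_one.1 h3
    calc _ = Φ.act y ^ 8 := by simp only [pow_succ, pow_zero, one_mul, mul_assoc]
      _ = 1 := h4
  have h1C := (mem_inf.1 (hUD hy₁U)).1
  have h2C := (mem_inf.1 (hUD hy₂U)).1
  -- the class of a commutator
  obtain ⟨hz'E, π, w, hπi, hπ2, hw⟩ : z' ∈ E ∧ ∃ π : Equiv.Perm (Fin 4), ∃ w : V,
      π i = i ∧ π * π = 1 ∧ Φ.v z' = w + permV π w := by
    have hpV : ∀ (π : Equiv.Perm (Fin 4)) (w : V), π * π = 1 →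
        permV π (w + permV π w) = w + permV π w := by decide +kernel
    rcases two_fix i _ _ (hfix _ hy₁U) (hfix _ hy₂U) (hsq _ hy₁U) (hsq _ hy₂U)
      (by rw [← Φ.act_mul h1C h2C]; exact hsq _ (mul_mem hy₁U hy₂U)) with h | h | h
    · have hE := (Φ.act_eq_one_iff h1C).1 h
      have hc := Φ.conj_mem h2C (inv_mem hE)
      have e : z' = y₁ * (y₂ * y₁⁻¹ * y₂⁻¹) := by rw [hzy]; group
      refine ⟨e ▸ mul_mem hE hc, _, Φ.v y₁, hfix _ hy₂U, hsq _ hy₂U, ?_⟩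
      rw [e, Φ.v_mul hE hc, Φ.v_conj' h2C (inv_mem hE), Φ.v_inv hE]
    · have hE := (Φ.act_eq_one_iff h2C).1 h
      have hc := Φ.conj_mem h1C hE
      have e : z' = y₁ * y₂ * y₁⁻¹ * y₂⁻¹ := hzy
      refine ⟨e ▸ mul_mem hc (inv_mem hE), _, Φ.v y₂, hfix _ hy₁U, hsq _ hy₁U, ?_⟩
      rw [e, Φ.v_mul hc (inv_mem hE), Φ.v_conj' h1C hE, Φ.v_inv hE, add_comm]
    · have hwC : y₁⁻¹ * y₂ ∈ C := mul_mem (inv_mem h1C) h2C
      have hE : y₁⁻¹ * y₂ ∈ E := (Φ.act_eq_one_iff hwC).1 (by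
        rw [Φ.act_mul (inv_mem h1C) h2C, Φ.act_inv h1C, h, inv_mul_cancel])
      have hc := Φ.conj_mem h1C hE
      have hm : y₁ * (y₁⁻¹ * y₂) * y₁⁻¹ * (y₁⁻¹ * y₂)⁻¹ ∈ E := mul_mem hc (inv_mem hE)
      have e : z' = y₁ * (y₁ * (y₁⁻¹ * y₂) * y₁⁻¹ * (y₁⁻¹ * y₂)⁻¹) * y₁⁻¹ := by rw [hzy]; group
      refine ⟨e ▸ Φ.conj_mem h1C hm, _, Φ.v (y₁⁻¹ * y₂), hfix _ hy₁U, hsq _ hy₁U, ?_⟩
      rw [e, Φ.v_conj' h1C hm, Φ.v_mul hc (inv_mem hE), Φ.v_conj' h1C hE, Φ.v_inv hE, add_comm,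
        hpV _ _ (hsq _ hy₁U)]
  have h0 := add_permV_small i π w hπi hπ2
    (by rw [← hw, ← Φ.sq_one_iff hz'E]; exact hz'2)
  rcases Φ.eq_of_v_zero hz'E (hw.trans h0) with h | h
  · rw [hz', conj_eq_one_iff] at h
    exact Φ.cfg.z_ne h
  · exact hnz h

/-- An element of weight four is conjugate to its product with `z`. -/
theorem exists_conj_ez : ∃ x ∈ E, x * Φ.e * x⁻¹ = Φ.e * z := by
  refine ⟨Φ.p 0, Φ.p_mem 0, ?_⟩
  rcases Φ.eq_of_v_eq (Φ.conj_mem (Φ.cfg.le (Φ.p_mem 0)) Φ.e_mem) Φ.e_mem (by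
      rw [Φ.v_conj' (Φ.cfg.le (Φ.p_mem 0)) Φ.e_mem, Φ.act_of_mem (Φ.p_mem 0)]; rfl) with h | h
  · exfalso
    have hc := (Φ.comm_e_iff (Φ.p_mem 0)).1 (mul_inv_eq_iff_eq_mul.1 h)
    rw [Φ.v_p, wt_unit] at hc
    exact one_ne_zero hc
  · exact h

theorem fused_e_of_class {u : G} (hu : u ∈ E) (hv : Φ.v u = one') {g : G}
    (hg : g * z * g⁻¹ = u) : ∃ g : G, g * Φ.e * g⁻¹ = z := by
  rcases Φ.eq_of_v_eq hu Φ.e_mem (hv.trans Φ.v_e.symm) with rfl | rfl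
  · exact ⟨g⁻¹, by rw [← hg]; group⟩
  · obtain ⟨x, -, hx⟩ := Φ.exists_conj_ez
    exact ⟨g⁻¹ * x, by
      calc g⁻¹ * x * Φ.e * (g⁻¹ * x)⁻¹ = g⁻¹ * (x * Φ.e * x⁻¹) * g := by group
        _ = g⁻¹ * (g * z * g⁻¹) * g := by rw [hx, hg]
        _ = z := by group⟩

/-- An involution acting as a transposition centralizes an element of order four of `E`. -/
theorem exists_four_centralized {u : G} (hu : u ∈ centralizer ({z} : Set G)) {a b : Fin 4}
    (hab : a ≠ b) (hact : Φ.act u = Equiv.swap a b) :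
    ∃ x ∈ E, u * x = x * u ∧ x * x = z := by
  obtain ⟨c, d, -, hfab, hfc, hfd, hqab, hqcd, hqc, hqd⟩ := swap_pair a b hab
  set x := Φ.lift (unit a + unit b) with hx
  have fin : ∀ y ∈ E, quad (Φ.v y) = 1 → u * y * u⁻¹ = y →
      ∃ x ∈ E, u * x = x * u ∧ x * x = z := fun y hy hq h =>
    ⟨y, hy, mul_inv_eq_iff_eq_mul.1 h, by rw [Φ.sq_eq hy, hq, Φ.ζ_one]⟩
  have both : ∀ y w : G, y ∈ E → w ∈ E → u * y * u⁻¹ = y * z → u * w * u⁻¹ = w * z →
      u * (y * w) * u⁻¹ = y * w := by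
    intro y w hy hw h1 h2
    calc u * (y * w) * u⁻¹ = u * y * u⁻¹ * (u * w * u⁻¹) := by group
      _ = y * (z * w * z) := by rw [h1, h2]; group
      _ = y * w := by
        rw [← mem_centralizer_singleton_iff.1 (Φ.cfg.le hw), mul_assoc w, Φ.cfg.z_mul, mul_one]
  have hfix : ∀ w : V, permV (Equiv.swap a b) w = w →
      u * Φ.lift w * u⁻¹ = Φ.lift w ∨ u * Φ.lift w * u⁻¹ = Φ.lift w * z := fun w hw =>
    Φ.conj_fixed hu (Φ.lift_mem w) (by rw [hact, Φ.v_lift, hw])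
  have hvm : ∀ w w' : V, Φ.v (Φ.lift w * Φ.lift w') = w + w' := fun w w' => by
    rw [Φ.v_mul (Φ.lift_mem _) (Φ.lift_mem _), Φ.v_lift, Φ.v_lift]
  rcases hfix _ hfab with h | h
  · exact fin _ (Φ.lift_mem _) (by rw [Φ.v_lift, hqab]) h
  rcases hfix _ hfc with hc | hc
  swap
  · exact fin _ (mul_mem (Φ.lift_mem _) (Φ.lift_mem (unit c))) (by rw [hvm, hqc])
      (both _ _ (Φ.lift_mem _) (Φ.lift_mem _) h hc)
  rcases hfix _ hfd with hd | hd
  swap
  · exact fin _ (mul_mem (Φ.lift_mem _) (Φ.lift_mem (unit d))) (by rw [hvm, hqd])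
      (both _ _ (Φ.lift_mem _) (Φ.lift_mem _) h hd)
  refine fin _ (mul_mem (Φ.lift_mem (unit c)) (Φ.lift_mem (unit d))) (by rw [hvm, hqcd]) ?_
  calc u * (Φ.lift (unit c) * Φ.lift (unit d)) * u⁻¹
      = u * Φ.lift (unit c) * u⁻¹ * (u * Φ.lift (unit d) * u⁻¹) := by group
    _ = _ := by rw [hc, hd]

/-- A conjugate of `z` acting as a transposition gives a conjugate of `z` of weight four that
centralizes a Sylow 2-subgroup of its centralizer. -/
theorem transposition_shift {u : G} (hu : u ∈ centralizer ({z} : Set G)) {a b : Fin 4}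
    (hab : a ≠ b) (hact : Φ.act u = Equiv.swap a b) {g : G} (hg : g * z * g⁻¹ = u) :
    ∃ U : Subgroup G, U ≤ centralizer ({z} : Set G) ⊓ centralizer ({u} : Set G) ∧ u ∈ U ∧
      E ⊓ centralizer ({u} : Set G) ≤ U ∧
      ∃ y ∈ U, y * y ∈ E ∧ Φ.v (y * y) = one' ∧ (∃ h : G, h * z * h⁻¹ = y * y) ∧
        ∀ t ∈ U, t * (y * y) = (y * y) * t := by
  have hne : u ≠ z := fun e => by
    rw [e, Φ.act_of_mem Φ.cfg.z_mem] at hact
    exact hab (by simpa using congrArg (fun π : Equiv.Perm (Fin 4) => π a) hact)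
  obtain ⟨U, -, hRU, hUD, hzU, huU, n, -, hn, hn', hnz⟩ := Φ.exists_shift hu hne hg
    (R := E ⊓ centralizer ({u} : Set G)) (Φ.isPGroup_E.to_le inf_le_left)
    (inf_le_inf_right _ Φ.cfg.le)
  obtain ⟨x, hx, hxu, hxx⟩ := Φ.exists_four_centralized hu hab hact
  have hxU : x ∈ U := hRU (mem_inf.2 ⟨hx, mem_centralizer_singleton_iff.2 hxu.symm⟩)
  set y := n * x * n⁻¹ with hy
  have hyU : y ∈ U := hn x hxU
  have hyy : y * y = n * z * n⁻¹ := by rw [← hxx, hy]; group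
  have hyC := (mem_inf.1 (hUD hyU)).1
  have hyE : y * y ∈ E := by
    refine (Φ.act_eq_one_iff (mul_mem hyC hyC)).1 ?_
    rw [Φ.act_mul hyC hyC]
    refine swap_commute a b _ hab ?_
    rw [← hact, ← Φ.act_mul hyC hu, ← Φ.act_mul hu hyC,
      mem_centralizer_singleton_iff.1 (mem_inf.1 (hUD hyU)).2]
  have hq : quad (Φ.v (y * y)) = 0 := (Φ.sq_one_iff hyE).1 (by
    rw [hyy, show n * z * n⁻¹ * (n * z * n⁻¹) = n * (z * z) * n⁻¹ by group, Φ.cfg.z_mul]; group)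
  refine ⟨U, hUD, huU, hRU, y, hyU, hyE, ?_, ⟨n, hyy.symm⟩, fun t ht => ?_⟩
  · rcases sing_cases _ hq with h | h | ⟨i, h⟩
    · rcases Φ.eq_of_v_zero hyE h with e | e
      · rw [hyy, conj_eq_one_iff] at e
        exact absurd e Φ.cfg.z_ne
      · exact absurd (hyy.symm.trans e) hnz
    · exact h
    · exact absurd hyy.symm (Φ.not_fused_unit hyE h n)
  · rw [hyy]
    have h := mem_centralizer_singleton_iff.1 (mem_inf.1 (hUD (hn' t ht))).1
    calc t * (n * z * n⁻¹) = n * ((n⁻¹ * t * n) * z) * n⁻¹ := by group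
      _ = n * (z * (n⁻¹ * t * n)) * n⁻¹ := by rw [h]
      _ = n * z * n⁻¹ * t := by group

variable {t : G} (ht : t ∈ centralizer ({z} : Set G)) (ht2 : t * t = 1) (hdt : IsDT (Φ.act t))
include ht ht2 hdt

/-- A double transposition inverts the commutators of weight two. -/
theorem dt_inverts {a : Fin 4} : ∀ y ∈ E, Φ.v y = unit a + unit (Φ.act t a) →
    t * y * t⁻¹ = y * z := by
  intro y hy hv
  set q := Φ.p a with hq
  set y₀ := t * q * t⁻¹ * q⁻¹ with hy₀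
  have hqE : q ∈ E := Φ.p_mem a
  have hy₀E : y₀ ∈ E := mul_mem (Φ.conj_mem ht hqE) (inv_mem hqE)
  have hv₀ : Φ.v y₀ = unit a + unit (Φ.act t a) := by
    rw [hy₀, Φ.v_mul (Φ.conj_mem ht hqE) (inv_mem hqE), Φ.v_inv hqE, Φ.v_conj' ht hqE, hq, Φ.v_p,
      add_comm]
    congr 1
    have key : ∀ (π : Equiv.Perm (Fin 4)) (i : Fin 4), permV π (unit i) = unit (π i) := by
      decide +kernel
    exact key _ _
  have hord : y₀ * y₀ = z := by
    have key : ∀ a b : Fin 4, a ≠ b → quad (unit a + unit b) = 1 := by decide +kernel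
    rw [Φ.sq_eq hy₀E, hv₀, key _ _ ((hdt a).1).symm]
    exact Φ.ζ_one
  have ht' : t⁻¹ = t := inv_eq_of_mul_eq_one_right ht2
  have hinv : y₀⁻¹ = y₀ * z := inv_eq_of_mul_eq_one_right (by
    rw [← mul_assoc, hord, Φ.cfg.z_mul])
  have h₀ : t * y₀ * t⁻¹ = y₀ * z := by
    rw [← hinv, hy₀]
    calc t * (t * q * t⁻¹ * q⁻¹) * t⁻¹ = (t * t) * q * t⁻¹ * q⁻¹ * t⁻¹ := by group
      _ = q * t * q⁻¹ * t⁻¹ := by rw [ht2, one_mul, ht']
      _ = _ := by group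
  rcases Φ.eq_of_v_eq hy hy₀E (hv.trans hv₀.symm) with rfl | rfl
  · exact h₀
  · calc t * (y₀ * z) * t⁻¹ = t * y₀ * t⁻¹ * (t * z * t⁻¹) := by group
      _ = y₀ * z * z := by rw [h₀, mem_centralizer_singleton_iff.1 ht, mul_inv_cancel_right]

/-- A double transposition centralizes the weight four involutions. -/
theorem dt_comm_e : t * Φ.e = Φ.e * t := by
  obtain ⟨a, c, hac, -, -, -⟩ := dt_pairs _ hdt
  set A := Φ.lift (unit a + unit (Φ.act t a)) with hA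
  set B := Φ.lift (unit c + unit (Φ.act t c)) with hB
  have h1 := Φ.dt_inverts ht ht2 hdt A (Φ.lift_mem _) (Φ.v_lift _)
  have h2 := Φ.dt_inverts ht ht2 hdt B (Φ.lift_mem _) (Φ.v_lift _)
  have hAB : t * (A * B) * t⁻¹ = A * B := by
    calc t * (A * B) * t⁻¹ = t * A * t⁻¹ * (t * B * t⁻¹) := by group
      _ = A * (z * B * z) := by rw [h1, h2]; group
      _ = A * B := by
        rw [← mem_centralizer_singleton_iff.1 (Φ.cfg.le (Φ.lift_mem _)), mul_assoc B, Φ.cfg.z_mul,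
          mul_one]
  have hv : Φ.v (A * B) = Φ.v Φ.e := by
    rw [Φ.v_mul (Φ.lift_mem _) (Φ.lift_mem _), Φ.v_lift, Φ.v_lift, Φ.v_e, hac]
  rcases Φ.eq_of_v_eq Φ.e_mem (mul_mem (Φ.lift_mem _) (Φ.lift_mem _)) hv.symm with e | e
  · rw [e]; exact mul_inv_eq_iff_eq_mul.1 hAB
  · rw [e, ← mul_assoc, mul_inv_eq_iff_eq_mul.1 hAB, mul_assoc,
      mem_centralizer_singleton_iff.1 ht, ← mul_assoc]

/-- The centralizer in `E` of a double transposition. -/
theorem dt_fixed_E {x : G} (hx : x ∈ E) (hxt : t * x = x * t) : Φ.v x = 0 ∨ Φ.v x = one' := by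
  have hf : permV (Φ.act t) (Φ.v x) = Φ.v x := by
    rw [← Φ.v_conj' ht hx, hxt, mul_inv_cancel_right]
  rcases dt_fixed _ _ hdt hf with h | h | ⟨a, ha, -⟩
  · exact Or.inl h
  · exact Or.inr h
  · exfalso
    have h := Φ.dt_inverts ht ht2 hdt x hx ha
    rw [hxt, mul_inv_cancel_right] at h
    exact Φ.cfg.z_ne (mul_left_cancel (show x * z = x * 1 by rw [← h, mul_one]))

/-- A double transposition is conjugate to its products with `z` and `e`. -/
theorem dt_translates : (∃ x ∈ E, x * t * x⁻¹ = t * z) ∧ (∃ x ∈ E, x * t * x⁻¹ = t * Φ.e) ∧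
    ∃ x ∈ E, x * t * x⁻¹ = t * (Φ.e * z) := by
  obtain ⟨a, c, -, hsum, -, -⟩ := dt_pairs _ hdt
  have ht' : t⁻¹ = t := inv_eq_of_mul_eq_one_right ht2
  set y := Φ.lift (unit a + unit (Φ.act t a)) with hy
  have hyE : y ∈ E := Φ.lift_mem _
  have hyt : y * t * y⁻¹ = t * z := by
    have h := Φ.dt_inverts ht ht2 hdt y hyE (Φ.v_lift _)
    calc y * t * y⁻¹ = t * (t * y * t⁻¹) * (t * t) * y⁻¹ := by
          rw [ht']
          calc y * t * y⁻¹ = (t * t) * y * (t * (t * t)) * y⁻¹ := by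
                rw [ht2, one_mul, mul_one]
            _ = _ := by group
      _ = t * (y * z * y⁻¹) := by rw [h, ht2]; group
      _ = t * z := by
        rw [mem_centralizer_singleton_iff.1 (Φ.cfg.le hyE), mul_inv_cancel_right]
  set x := Φ.lift (unit a + unit c) with hx
  have hxE : x ∈ E := Φ.lift_mem _
  set w := t * x * t⁻¹ * x⁻¹ with hw
  have hwE : w ∈ E := mul_mem (Φ.conj_mem ht hxE) (inv_mem hxE)
  have hwv : Φ.v w = Φ.v Φ.e := by
    rw [hw, Φ.v_mul (Φ.conj_mem ht hxE) (inv_mem hxE), Φ.v_inv hxE, Φ.v_conj' ht hxE, hx,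
      Φ.v_lift, add_comm, hsum, Φ.v_e]
  have hxt : x * t * x⁻¹ = t * w := by
    rw [hw, ← mul_assoc, ← mul_assoc, ← mul_assoc, ht2, one_mul, ht']
  have hboth : (y * x) * t * (y * x)⁻¹ = t * z * (y * w * y⁻¹) := by
    rw [← hyt, show y * x * t * (y * x)⁻¹ = y * (x * t * x⁻¹) * y⁻¹ by group, hxt]; group
  have hwy : y * w = w * y := by
    refine (Φ.comm_iff hyE hwE).2 ?_
    rw [hwv, Φ.v_e, hy, Φ.v_lift, form_comm, form_one, wt_add, wt_unit, wt_unit]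
    decide
  rw [hwy, mul_inv_cancel_right] at hboth
  have hez : z * Φ.e = Φ.e * z :=
    (mem_centralizer_singleton_iff.1 (Φ.cfg.le Φ.e_mem)).symm
  refine ⟨⟨y, hyE, hyt⟩, ?_⟩
  rcases Φ.eq_of_v_eq hwE Φ.e_mem hwv with e | e <;> rw [e] at hxt hboth
  · exact ⟨⟨x, hxE, hxt⟩, y * x, mul_mem hyE hxE, by rw [hboth, mul_assoc, hez]⟩
  · refine ⟨⟨y * x, mul_mem hyE hxE, ?_⟩, x, hxE, hxt⟩
    rw [hboth, mul_assoc, ← mul_assoc z, hez, mul_assoc Φ.e, Φ.cfg.z_mul, mul_one]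

omit ht ht2 hdt in
/-- `z` is conjugate to `e`. -/
theorem fused_e (hns : ¬ Group.IsSolvable G) : ∃ g : G, g * Φ.e * g⁻¹ = z := by
  by_contra hcon
  have hsq : ∀ g : G, g * z * g⁻¹ * (g * z * g⁻¹) = 1 := fun g => by
    rw [show g * z * g⁻¹ * (g * z * g⁻¹) = g * (z * z) * g⁻¹ by group, Φ.cfg.z_mul]; group
  have hno : ∀ g : G, g * z * g⁻¹ ≠ Φ.e := fun g hg => hcon ⟨g⁻¹, by rw [← hg]; group⟩
  have hnoz : ∀ g : G, g * z * g⁻¹ ≠ Φ.e * z := fun g hg => hcon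
    (Φ.fused_e_of_class (mul_mem Φ.e_mem Φ.cfg.z_mem) (by
      rw [Φ.v_mul Φ.e_mem Φ.cfg.z_mem, Φ.v_e, Φ.v_z, add_zero]) hg)
  have hW : ∀ x ∈ E, (Φ.v x = 0 ∨ Φ.v x = one') →
      x = 1 ∨ x = z ∨ x = Φ.e ∨ x = Φ.e * z := by
    intro x hx h
    rcases h with h | h
    · rcases Φ.eq_of_v_zero hx h with e | e <;> simp [e]
    · rcases Φ.eq_of_v_eq hx Φ.e_mem (h.trans Φ.v_e.symm) with e | e <;> simp [e]
  -- the other conjugates act as double transpositions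
  have hall : ∀ g : G, g * z * g⁻¹ ∈ centralizer ({z} : Set G) → g * z * g⁻¹ ≠ z →
      IsDT (Φ.act (g * z * g⁻¹)) := by
    intro g hu hne
    rcases perm_cases _ (Φ.act_sq hu (hsq g)) with h | h | ⟨a, b, hab, h⟩
    · exfalso
      have huE := (Φ.act_eq_one_iff hu).1 h
      rcases sing_cases _ ((Φ.sq_one_iff huE).1 (hsq g)) with h' | h' | ⟨i, h'⟩
      · rcases Φ.eq_of_v_zero huE h' with e | e
        · exact Φ.cfg.z_ne (conj_eq_one_iff.1 e)
        · exact hne e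
      · exact hcon (Φ.fused_e_of_class huE h' (g := g) rfl)
      · exact Φ.not_fused_unit huE h' g rfl
    · exact h
    · exfalso
      obtain ⟨U, -, -, -, y, -, hyE, hyv, ⟨k, hk⟩, -⟩ := Φ.transposition_shift hu hab h (g := g) rfl
      exact hcon (Φ.fused_e_of_class hyE hyv hk)
  obtain ⟨g, hu, hne⟩ := Φ.exists_conj_ne hns
  set t := g * z * g⁻¹ with ht
  have hdt := hall g hu hne
  set z' := g⁻¹ * z * g with hz'
  have hz'C : z' ∈ centralizer ({z} : Set G) := mem_centralizer_singleton_iff.2 (by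
    have h := mem_centralizer_singleton_iff.1 hu
    calc g⁻¹ * z * g * z = g⁻¹ * (z * (g * z * g⁻¹)) * g := by group
      _ = g⁻¹ * ((g * z * g⁻¹) * z) * g := by rw [h]
      _ = z * (g⁻¹ * z * g) := by group)
  have hz'e : z' = g⁻¹ * z * g⁻¹⁻¹ := by rw [inv_inv]
  have hz'ne : z' ≠ z := fun e => hne (by
    calc g * z * g⁻¹ = g * z' * g⁻¹ := by rw [e]
      _ = z := by rw [hz']; group)
  have hz'2 : z' * z' = 1 := by rw [hz'e]; exact hsq _
  have hdt' : IsDT (Φ.act z') := by rw [hz'e]; exact hall _ (hz'e ▸ hz'C) (hz'e ▸ hz'ne)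
  have hcomm := Φ.dt_comm_e hz'C hz'2 hdt'
  obtain ⟨-, ⟨x₁, -, hx₁⟩, x₂, -, hx₂⟩ := Φ.dt_translates hz'C hz'2 hdt'
  set f := g * Φ.e * g⁻¹ with hf
  have hfC : f ∈ centralizer ({z} : Set G) := mem_centralizer_singleton_iff.2 (by
    calc g * Φ.e * g⁻¹ * z = g * (Φ.e * z') * g⁻¹ := by rw [hz']; group
      _ = g * (z' * Φ.e) * g⁻¹ := by rw [hcomm]
      _ = z * (g * Φ.e * g⁻¹) := by rw [hz']; group)
  have hft : f * t = g * (Φ.e * z) * g⁻¹ := by rw [hf, ht]; group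
  have hftc : f * t = t * f := by
    rw [hft, ← mem_centralizer_singleton_iff.1 (Φ.cfg.le Φ.e_mem) |>.symm, hf, ht]
    group
  have hf2 : f * f = 1 := by
    rw [hf, show g * Φ.e * g⁻¹ * (g * Φ.e * g⁻¹) = g * (Φ.e * Φ.e) * g⁻¹ by group, Φ.e_sq]; group
  -- neither `f` nor `f t` is conjugate to `z`, both times `z` are
  have hfz : ∀ k : G, k * z * k⁻¹ ≠ f := fun k hk => hno (g⁻¹ * k) (by
    calc g⁻¹ * k * z * (g⁻¹ * k)⁻¹ = g⁻¹ * (k * z * k⁻¹) * g := by group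
      _ = Φ.e := by rw [hk, hf]; group)
  have hftz : ∀ k : G, k * z * k⁻¹ ≠ f * t := fun k hk => hnoz (g⁻¹ * k) (by
    calc g⁻¹ * k * z * (g⁻¹ * k)⁻¹ = g⁻¹ * (k * z * k⁻¹) * g := by group
      _ = Φ.e * z := by rw [hk, hft]; group)
  obtain ⟨k₁, hk₁⟩ : ∃ k : G, k * z * k⁻¹ = z * f :=
    ⟨g * x₁ * g⁻¹, by
      calc g * x₁ * g⁻¹ * z * (g * x₁ * g⁻¹)⁻¹ = g * (x₁ * z' * x₁⁻¹) * g⁻¹ := by rw [hz']; group
        _ = z * f := by rw [hx₁, hz', hf]; group⟩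
  obtain ⟨k₂, hk₂⟩ : ∃ k : G, k * z * k⁻¹ = z * (f * t) :=
    ⟨g * x₂ * g⁻¹, by
      calc g * x₂ * g⁻¹ * z * (g * x₂ * g⁻¹)⁻¹ = g * (x₂ * z' * x₂⁻¹) * g⁻¹ := by rw [hz']; group
        _ = z * (f * t) := by rw [hx₂, hz', hft]; group⟩
  have ht2 : t * t = 1 := hsq g
  have hh : ∀ h : G, h ∈ E → t * h = h * t → h * h = 1 →
      (∀ k : G, k * z * k⁻¹ ≠ h) → (∃ k : G, k * z * k⁻¹ = z * h) → h = 1 := by
    intro h hhE hht _ hnot ⟨k, hyes⟩
    have hez : z * Φ.e = Φ.e * z :=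
      (mem_centralizer_singleton_iff.1 (Φ.cfg.le Φ.e_mem)).symm
    rcases hW h hhE (Φ.dt_fixed_E hu ht2 hdt hhE hht) with e | e | e | e
    · exact e
    · exact absurd (show 1 * z * 1⁻¹ = h by rw [e]; group) (hnot 1)
    · exfalso
      rw [e, hez] at hyes
      exact hnoz k hyes
    · exfalso
      rw [e, ← mul_assoc z, hez, mul_assoc Φ.e, Φ.cfg.z_mul, mul_one] at hyes
      exact hno k hyes
  -- an inverting element is conjugate to its product with `z`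
  have hinv : ∀ h : G, ∀ q ∈ E, h ∈ centralizer ({z} : Set G) → h * q * h⁻¹ = q * z →
      ∃ k : G, k * h * k⁻¹ = z * h := fun h q hq hhC he => ⟨q, by
    calc q * h * q⁻¹ = q * z * z * h * q⁻¹ := by rw [mul_assoc q z z, Φ.cfg.z_mul, mul_one]
      _ = h * q * h⁻¹ * (z * h) * q⁻¹ := by rw [← he]; group
      _ = h * q * h⁻¹ * (h * z) * q⁻¹ := by rw [mem_centralizer_singleton_iff.1 hhC]
      _ = h * (q * z) * q⁻¹ := by group
      _ = h * z := by rw [mem_centralizer_singleton_iff.1 (Φ.cfg.le hq)]; group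
      _ = z * h := mem_centralizer_singleton_iff.1 hhC⟩
  have hfuse : ∀ h k₀ : G, k₀ * z * k₀⁻¹ = z * h → (∃ k : G, k * h * k⁻¹ = z * h) →
      ∃ k : G, k * z * k⁻¹ = h := by
    rintro h k₀ h0 ⟨k, hk⟩
    exact ⟨k⁻¹ * k₀, by
      calc k⁻¹ * k₀ * z * (k⁻¹ * k₀)⁻¹ = k⁻¹ * (k₀ * z * k₀⁻¹) * k := by group
        _ = k⁻¹ * (k * h * k⁻¹) * k := by rw [h0, hk]
        _ = h := by group⟩
  rcases dt_commuting _ (Φ.act f) hdt (Φ.act_sq hfC hf2)
      (by rw [← Φ.act_mul hfC hu, ← Φ.act_mul hu hfC, hftc]) with h | h | h | ⟨a, ha⟩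
  · have := hh f ((Φ.act_eq_one_iff hfC).1 h) hftc.symm hf2 hfz ⟨k₁, hk₁⟩
    rw [hf, conj_eq_one_iff] at this
    exact Φ.e_ne_one this
  · have hftE : f * t ∈ E := (Φ.act_eq_one_iff (mul_mem hfC hu)).1 (by
      rw [Φ.act_mul hfC hu, h, Φ.act_sq hu ht2])
    have h2 : f * t * (f * t) = 1 := by
      rw [hft, show g * (Φ.e * z) * g⁻¹ * (g * (Φ.e * z) * g⁻¹) =
        g * (Φ.e * (z * Φ.e) * z) * g⁻¹ by group, mem_centralizer_singleton_iff.1
          (Φ.cfg.le Φ.e_mem) |>.symm, ← mul_assoc Φ.e, Φ.e_sq, one_mul, Φ.cfg.z_mul]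
      group
    have := hh _ hftE (by rw [← mul_assoc, ← hftc]) h2 hftz ⟨k₂, hk₂⟩
    rw [hft, conj_eq_one_iff] at this
    exact Φ.e_ne_z (by rw [eq_inv_of_mul_eq_one_left this, Φ.toQuad.z_inv])
  · obtain ⟨⟨x, -, hx⟩, -⟩ := Φ.dt_translates hfC hf2 h
    obtain ⟨k, hk⟩ := hfuse f k₁ hk₁ ⟨x, by rw [hx, mem_centralizer_singleton_iff.1 hfC]⟩
    exact hfz k hk
  · set q := Φ.lift (unit a + unit (Φ.act t a)) with hq
    have hqE : q ∈ E := Φ.lift_mem _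
    have hqt := Φ.dt_inverts hu ht2 hdt q hqE (Φ.v_lift _)
    rcases Φ.conj_fixed hfC hqE (by rw [hq, Φ.v_lift]; exact ha) with h | h
    · have h' : f * t * q * (f * t)⁻¹ = q * z := by
        calc f * t * q * (f * t)⁻¹ = f * (t * q * t⁻¹) * f⁻¹ := by group
          _ = f * q * f⁻¹ * (f * z * f⁻¹) := by rw [hqt]; group
          _ = q * z := by rw [h, mem_centralizer_singleton_iff.1 hfC, mul_inv_cancel_right]
      obtain ⟨k, hk⟩ := hfuse _ k₂ hk₂ (hinv _ q hqE (mul_mem hfC hu) h')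
      exact hftz k hk
    · obtain ⟨k, hk⟩ := hfuse f k₁ hk₁ (hinv _ q hqE hfC h)
      exact hfz k hk

end Cfsg.Agent.Lib.Aut34Cent67.Mark
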