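import Cfsg.Agent.Lib.Aut34Cent67.Transfer
import Cfsg.Agent.Lib.Aut34Cent67.Auto
import Cfsg.Agent.Lib.L34Sylow67.Embed

/-!
# The group is the automorphism group

helper67.  The normal subgroup acts on the plane and has at least 315 involutions, so it is the
projective group; the whole group embeds in its automorphisms and has their order.
-/

set_option autoImplicit false
set_option linter.unusedSectionVars false
set_option linter.style.haveILetI false

open Subgroup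

namespace Cfsg.Agent.Lib.Aut34Cent67

open L34Sylow67 (Frame)
open Goldschmidt53 (PropSimple)

universe u w

/-- Without odd normal subgroups there are none in a normal subgroup. -/
theorem oddCore_sub_eq_bot {G : Type u} [Group G] [Finite G] (N : Subgroup G) [N.Normal]
    (h : Cfsg.oddCore G = ⊥) : Cfsg.oddCore ↥N = ⊥ := by
  set O := Cfsg.oddCore ↥N with hO
  haveI : O.Normal := Cfsg.pPrimeCore_normal 2 _
  haveI hn : (O.map N.subtype).Normal := by
    refine ⟨?_⟩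
    rintro _ ⟨x, hx, rfl⟩ g
    set φ : MulAut ↥N := MulAut.conjNormal g with hφ
    haveI : (O.map φ.toMonoidHom).Normal := Subgroup.Normal.map inferInstance _ φ.surjective
    have hle : O.map φ.toMonoidHom ≤ O := by
      refine ZStar.Elements.le_oddCore ?_
      rw [card_map_of_injective (f := φ.toMonoidHom) φ.injective]
      exact ZStar.Elements.oddCore_odd
    exact ⟨φ x, hle ⟨x, hx, rfl⟩, MulAut.conjNormal_apply g x⟩
  have h1 : O.map N.subtype ≤ Cfsg.oddCore G := ZStar.Elements.le_oddCore (by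
    rw [card_map_of_injective N.subtype_injective]; exact ZStar.Elements.oddCore_odd)
  rw [h, le_bot_iff] at h1
  exact (Subgroup.map_eq_bot_iff_of_injective _ N.subtype_injective).1 h1

/-- The points give 315 involutions, all conjugate. -/
theorem class_bound {G : Type u} [Group G] [Finite G] {F : Type w} [Field F] [Fintype F]
    {S : Subgroup G} (Θ : Frame F S) (c : Θ.Geometry) {Sy : Sylow 2 G}
    (hS : (Sy : Subgroup G) = S) {z : G} (hz : z ∈ Θ.A ⊓ Θ.B) (hz1 : z ≠ 1) :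
    315 * Nat.card ↥(centralizer ({z} : Set G)) ≤ Nat.card G := by
  classical
  haveI := Fintype.ofFinite G
  obtain ⟨x, hx, rfl⟩ := Θ.exists_axis hz hz1
  let sharp : Subgroup G → Finset G := fun X => (Finset.univ.filter (· ∈ X)).erase 1
  have hsharp : ∀ {X : Subgroup G} {t : G}, t ∈ sharp X ↔ t ≠ 1 ∧ t ∈ X := by
    intro X t; simp [sharp]
  have hdis : Set.PairwiseDisjoint (Θ.points : Set (Subgroup G)) sharp := by
    intro X hX Y hY hne
    rw [Function.onFun, Finset.disjoint_left]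
    intro t htX htY
    obtain ⟨a, rfl⟩ := Θ.mem_points.1 hX
    obtain ⟨b, rfl⟩ := Θ.mem_points.1 hY
    exact hne (Θ.point_eq c hS (hsharp.1 htX).2 (hsharp.1 htY).2 (hsharp.1 htX).1).symm
  set s := Θ.points.biUnion sharp with hs
  have hcard : s.card = 315 := by
    rw [hs, Finset.card_biUnion hdis, Finset.sum_congr rfl (g := fun _ => 15) (fun X hX => ?_),
      Finset.sum_const, Θ.card_points c hS, smul_eq_mul]
    obtain ⟨a, rfl⟩ := Θ.mem_points.1 hX
    rw [Finset.card_erase_of_mem (by simp), ← Fintype.card_subtype, ← Nat.card_eq_fintype_card]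
    exact congrArg (fun n => n - 1) (Θ.card_conj a)
  have hconj : ∀ t ∈ s, ∃ g : G, g * Θ.a (x, 0) * g⁻¹ = t := by
    intro t ht
    obtain ⟨X, hX, htX⟩ := Finset.mem_biUnion.1 ht
    obtain ⟨a, rfl⟩ := Θ.mem_points.1 hX
    obtain ⟨ht1, _, ⟨v, rfl⟩, rfl⟩ := hsharp.1 htX
    obtain ⟨n, -, hn⟩ := c.transA (x, 0) v (fun e => hx (congrArg Prod.fst e)) fun e => ht1 (by
      rw [e, Θ.a_zero, map_one])
    exact ⟨a * n, by
      show a * n * Θ.a (x, 0) * (a * n)⁻¹ = a * Θ.a v * a⁻¹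
      rw [← hn]; group⟩
  choose sec hsec using hconj
  let f : {t // t ∈ s} × ↥(centralizer ({Θ.a (x, 0)} : Set G)) → G := fun q =>
    sec q.1 q.1.2 * q.2
  have hf : Function.Injective f := by
    rintro ⟨t, k⟩ ⟨t', k'⟩ e
    have key : ∀ (t : {t // t ∈ s}) (k : ↥(centralizer ({Θ.a (x, 0)} : Set G))),
        sec t t.2 * k * Θ.a (x, 0) * (sec t t.2 * k)⁻¹ = t := fun t k => by
      conv_rhs => rw [← hsec t t.2]
      rw [mul_assoc (sec t t.2) (k : G) (Θ.a (x, 0)), mem_centralizer_singleton_iff.1 k.2]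
      group
    have e' : sec t t.2 * k = sec t' t'.2 * k' := e
    obtain rfl : t = t' := Subtype.ext (by rw [← key t k, e', key t' k'])
    exact Prod.ext rfl (Subtype.ext (mul_left_cancel e'))
  have := Nat.card_le_card_of_injective f hf
  rwa [Nat.card_prod, Nat.card_eq_fintype_card (α := {t // t ∈ s}), Fintype.card_coe, hcard] at this

/-- An element of `E` commuting with the elements of weight zero is in the four group. -/
theorem form_radical_zero : ∀ a : V, (∀ w : V, wt w = 0 → form a w = 0) → a = 0 ∨ a = one' := by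
  decide +kernel

namespace Mark

variable {G : Type u} [Group G] [Finite G] {z : G} {E : Subgroup G} (Φ : Mark z E)
  {F : Type w} [Field F] [Fintype F] (Ψ : Frame F Φ.R)
  (hΨ : ∀ g : G, g ∈ Φ.W ↔ ∃ x : F, Ψ.a (x, 0) = g)
  (hns : ¬ Group.IsSolvable G)

include hns in
/-- An element of the centralizer of a subgroup containing `R` in which `z` is not central. -/
theorem centralizer_eq_bot {N : Subgroup G} [N.Normal] (hRN : Φ.R ≤ N)
    (hz : ¬ ∀ n ∈ N, n * z = z * n) : centralizer (N : Set G) = ⊥ := by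
  set D := centralizer (N : Set G) with hD
  have hDn : D.Normal := inferInstance
  have hDC : ∀ d ∈ D, d ∈ centralizer ({z} : Set G) := fun d hd =>
    mem_centralizer_singleton_iff.2
      (mem_centralizer_iff.1 hd z (hRN (Φ.W_le_R Φ.z_mem_W))).symm
  have hDE : ∀ x ∈ E, x ∈ D → x = 1 := by
    intro x hx hxD
    by_contra hx1
    have hW : x ∈ Φ.W := ⟨hx, form_radical_zero _ fun w hw => by
      have hK : Φ.lift w ∈ Φ.K := (Φ.E_inf_K (Φ.lift_mem w)).2 (by rw [Φ.v_lift]; exact hw)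
      have hR : Φ.lift w ∈ Φ.R := ⟨hK, Or.inl (Φ.act_of_mem (Φ.lift_mem w))⟩
      have h := (Φ.comm_iff hx (Φ.lift_mem w)).1 (mem_centralizer_iff.1 hxD _ (hRN hR)).symm
      rwa [Φ.v_lift] at h⟩
    obtain ⟨n, -, hn⟩ := Φ.exists_move hns hW hx1
    have hzD : z ∈ D := by
      have := hDn.conj_mem x hxD n⁻¹
      rwa [show n⁻¹ * x * n⁻¹⁻¹ = z by rw [← hn]; group] at this
    exact hz fun m hm => mem_centralizer_iff.1 hzD m hm
  rw [eq_bot_iff]
  intro d hd
  refine mem_bot.2 (hDE d (Φ.cfg.self d (hDC d hd) fun x hx => ?_) hd)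
  have h1 : d * (x * d⁻¹ * x⁻¹) ∈ D := mul_mem hd (hDn.conj_mem _ (inv_mem hd) x)
  have h2 : d * x * d⁻¹ * x⁻¹ ∈ E := mul_mem (Φ.conj_mem (hDC d hd) hx) (inv_mem hx)
  exact mul_inv_eq_iff_eq_mul.1 (mul_inv_eq_one.1 (hDE _ h2 (by simpa only [mul_assoc] using h1)))

include hΨ hns

/-- The plane in the normal subgroup. -/
theorem exists_plane (hP : PropSimple.{u}) {N : Subgroup G} [N.Normal] (hRN : Φ.R ≤ N)
    (hsup : N ⊔ centralizer ({z} : Set G) = ⊤) (hO : Cfsg.oddCore ↥N = ⊥) {Sy : Sylow 2 ↥N}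
    (hS : (Sy : Subgroup ↥N) = Φ.R.subgroupOf N) :
    ∃ Θ : Frame F (Φ.R.subgroupOf N),
      Θ.Geometry ∧ (⟨z, hRN (Φ.W_le_R Φ.z_mem_W)⟩ : ↥N) ∈ Θ.A ⊓ Θ.B := by
  set S := Φ.R.subgroupOf N with hSdef
  obtain ⟨Θ, hA, hB, hlA, hlB⟩ := (Ψ.restrict N hRN).exists_linear Sy hS
  have hmA : ∀ x : ↥N, x ∈ Θ.A ↔ (x : G) ∈ Ψ.A := fun x => by
    rw [hA]
    exact ⟨fun ⟨v, hv⟩ => ⟨v, congrArg Subtype.val hv⟩, fun ⟨v, hv⟩ => ⟨v, Subtype.ext hv⟩⟩
  have hmB : ∀ x : ↥N, x ∈ Θ.B ↔ (x : G) ∈ Ψ.B := fun x => by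
    rw [hB]
    exact ⟨fun ⟨v, hv⟩ => ⟨v, congrArg Subtype.val hv⟩, fun ⟨v, hv⟩ => ⟨v, Subtype.ext hv⟩⟩
  have hax : ∀ x : ↥N, (x ∈ Θ.A ∧ x ∈ Θ.B) ↔ (x : G) ∈ Φ.W := fun x => by
    rw [hmA, hmB]
    exact ⟨fun h => Φ.A_inf_B Ψ hΨ h.1 h.2, fun h => ⟨Φ.W_le_A Ψ hΨ h, Φ.W_le_B Ψ hΨ h⟩⟩
  have hax' : ∀ x : ↥N, (x ∈ Θ.symm.A ∧ x ∈ Θ.symm.B) ↔ (x : G) ∈ Φ.W := fun x =>
    and_comm.trans (hax x)
  by_cases hcl : Φ.IsClosedW
  · exfalso
    have nomove : ∀ Θ' : Frame F S, (∀ x : ↥N, (x ∈ Θ'.A ∧ x ∈ Θ'.B) ↔ (x : G) ∈ Φ.W) →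
        ¬ Θ'.Moves := by
      rintro Θ' hax ⟨n, hn, x, hx⟩
      have hwA : Θ'.a (x, 0) ∈ Θ'.A := ⟨_, rfl⟩
      have hw := (hax _).1 ⟨hwA, Θ'.mem_B_iff.2 rfl⟩
      by_cases hw1 : (Θ'.a (x, 0) : G) = 1
      · refine hx ?_
        rw [show Θ'.a (x, 0) = 1 from Subtype.ext hw1, mul_one, mul_inv_cancel]
        exact one_mem _
      obtain ⟨m, -, hm⟩ := Φ.exists_move hns hw hw1
      have hR : ((n * Θ'.a (x, 0) * n⁻¹ : ↥N) : G) ∈ Φ.R := mem_subgroupOf.1
        (Θ'.A_le ((Subgroup.mem_normalizer_iff.1 hn _).1 hwA))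
      have e : ((n * Θ'.a (x, 0) * n⁻¹ : ↥N) : G) = (n : G) * m * z * ((n : G) * m)⁻¹ := by
        push_cast
        rw [← hm]; group
      refine hx ((hax _).2 ?_).2
      rw [e] at hR ⊢
      exact hcl _ (Φ.K_le (Φ.R_le_K hR))
    have hBc := (Θ.closed_or_moves Sy hS).resolve_right (nomove Θ hax)
    have hAc := (Θ.symm.closed_or_moves Sy hS).resolve_right (nomove Θ.symm hax')
    have hn : S.Normal := Θ.normal_S (Θ.normal_of_closed hS hP hO hAc)
      (Θ.symm.normal_of_closed hS hP hO hBc)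
    have hgR : ∀ g : G, ∀ x ∈ Φ.R, g * x * g⁻¹ ∈ Φ.R := by
      intro g x hx
      obtain ⟨m, hm, c, hc, rfl⟩ := mem_sup_of_normal_left.1 (hsup ▸ mem_top g :
        g ∈ N ⊔ centralizer ({z} : Set G))
      have h1 := Φ.conj_R_C hc hx
      have h2 : m * (c * x * c⁻¹) * m⁻¹ ∈ Φ.R :=
        mem_subgroupOf.1 (hn.conj_mem ⟨_, hRN h1⟩ (mem_subgroupOf.2 h1) ⟨m, hm⟩)
      rwa [show m * c * x * (m * c)⁻¹ = m * (c * x * c⁻¹) * m⁻¹ by group]
    haveI hWn : Φ.W.Normal := ⟨fun w hw g => Φ.conj_W_of_R Ψ hΨ (hgR g) hw⟩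
    haveI : Group.IsSolvable (Equiv.Perm ↥Φ.W) :=
      FpfLinear.Perfect.solvable_perm_le_four (by rw [Φ.card_W])
    haveI := Φ.solvable_C
    refine hns (Group.isSolvable_of_ker_le_range (centralizer ({z} : Set G)).subtype
      ((MulAut.toPerm ↥Φ.W).comp (MulAut.conjNormal (H := Φ.W))) fun g hg => ?_)
    rw [range_subtype]
    have h := congrArg (fun p : Equiv.Perm ↥Φ.W => ((p ⟨z, Φ.z_mem_W⟩ : ↥Φ.W) : G)) hg
    exact mem_centralizer_singleton_iff.2 (mul_inv_eq_iff_eq_mul.1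
      ((MulAut.conjNormal_apply g (⟨z, Φ.z_mem_W⟩ : ↥Φ.W)).symm.trans h))
  have noclosed : ∀ Θ' : Frame F S, (∀ x : ↥N, (x ∈ Θ'.A ∧ x ∈ Θ'.B) ↔ (x : G) ∈ Φ.W) →
      ¬ Cfsg.IsStronglyClosed Θ'.B S := by
    intro Θ' hax hc
    set r := Θ'.a (0, 1) with hr
    have hrR : (r : G) ∈ Φ.R := mem_subgroupOf.1 (Θ'.a_mem _)
    have hr1 : (r : G) ≠ 1 := fun e => zero_ne_one (congrArg Prod.snd
      (Θ'.a_inj ((Θ'.a_zero).trans (Subtype.ext e.symm)) : (0 : F × F) = (0, 1)))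
    obtain ⟨g, hg⟩ := Φ.all_fused Ψ hΨ hns hcl hrR
      (congrArg Subtype.val (Θ'.a_sq (0, 1))) hr1
    obtain ⟨m, hm, k, hk, rfl⟩ := mem_sup_of_normal_left.1 (hsup ▸ mem_top g :
      g ∈ N ⊔ centralizer ({z} : Set G))
    set z' : ↥N := ⟨z, hRN (Φ.W_le_R Φ.z_mem_W)⟩
    have hmz : (⟨m, hm⟩ : ↥N) * z' * ⟨m, hm⟩⁻¹ = r := Subtype.ext (by
      show m * z * m⁻¹ = r
      rw [← hg, show m * k * z * (m * k)⁻¹ = m * (k * z * k⁻¹) * m⁻¹ by group,
        mem_centralizer_singleton_iff.1 hk, mul_inv_cancel_right])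
    have := hc.2 z' ((hax z').2 Φ.z_mem_W).2 ⟨m, hm⟩ (by rw [hmz]; exact Θ'.a_mem _)
    rw [hmz, hr, Θ'.mem_B_iff] at this
    exact one_ne_zero this
  exact ⟨Θ, Θ.geometry hS hP hO hlA hlB
    ((Θ.closed_or_moves Sy hS).resolve_left (noclosed Θ hax))
    ((Θ.symm.closed_or_moves Sy hS).resolve_left (noclosed Θ.symm hax')),
    mem_inf.2 ((hax _).2 Φ.z_mem_W)⟩

/-- The isomorphism. -/
theorem nonempty_equiv (hP : PropSimple.{u}) (hF : Fintype.card F = 4) :
    Nonempty (G ≃* MulAut (GL (Fin 3) F ⧸ Subgroup.center (GL (Fin 3) F))) := by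
  classical
  haveI : Fact (Nat.Prime 2) := ⟨Nat.prime_two⟩
  obtain ⟨N, hN, hRN, htwo, hsup, hcard⟩ := Φ.exists_normal Ψ hΨ hns
  haveI := hN
  set C := centralizer ({z} : Set G) with hC
  -- the Sylow subgroup
  obtain ⟨Sy, hSy⟩ := (Φ.isPGroup_R.of_equiv (subgroupOfEquivOfLe hRN).symm).exists_le_sylow
  have hS : (Sy : Subgroup ↥N) = Φ.R.subgroupOf N := by
    refine (Subgroup.eq_of_le_of_card_ge hSy ?_).symm
    rw [Nat.card_congr (subgroupOfEquivOfLe hRN).toEquiv, Φ.card_R,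
      ← card_map_of_injective (f := N.subtype) N.subtype_injective]
    exact htwo _ (map_subtype_le _) (Sy.2.map _)
  have hO := oddCore_sub_eq_bot N (Φ.core_eq_bot hns)
  obtain ⟨Θ, c, hzAB⟩ := Φ.exists_plane Ψ hΨ hns hP hRN hsup hO hS
  set z' : ↥N := ⟨z, hRN (Φ.W_le_R Φ.z_mem_W)⟩ with hz'
  have hz'1 : z' ≠ 1 := fun e => Φ.cfg.z_ne (congrArg Subtype.val e)
  -- the order of `N`
  have hcz : Nat.card ↥(centralizer ({z'} : Set ↥N)) = 192 := by
    rw [← hcard, ← card_map_of_injective (f := N.subtype) N.subtype_injective]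
    refine congrArg (fun X : Subgroup G => Nat.card ↥X) ?_
    ext g
    simp only [Subgroup.mem_map, mem_inf, coe_subtype, hC, mem_centralizer_singleton_iff]
    constructor
    · rintro ⟨a, ha, rfl⟩
      exact ⟨a.2, congrArg Subtype.val ha⟩
    · rintro ⟨hgN, hg⟩
      exact ⟨⟨g, hgN⟩, Subtype.ext hg, rfl⟩
  have hge : 60480 ≤ Nat.card ↥N := by
    have := class_bound Θ c hS hzAB hz'1
    rw [hcz] at this
    omega
  obtain ⟨f, hf⟩ := Θ.exists_embedding c hS hO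
  have hbij : Function.Bijective f := hf.bijective_of_nat_card_le (by rw [card_PGL34 hF]; exact hge)
  let eN := MulEquiv.ofBijective f hbij
  have hNcard : Nat.card ↥N = 60480 := (Nat.card_congr eN.toEquiv).trans (card_PGL34 hF)
  -- the order of `G`
  have hidx : N.index * 192 = 768 := by
    have h := ((N ⊓ C).subgroupOf C).card_mul_index
    rw [Nat.card_congr (subgroupOfEquivOfLe inf_le_right).toEquiv, hcard,
      show ((N ⊓ C).subgroupOf C).index = N.relIndex C from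
        Subgroup.inf_relIndex_right N C,
      ← Subgroup.relIndex_sup_right (H := C) (K := N), sup_comm, hsup, relIndex_top_right,
      Φ.cfg.card_C] at h
    omega
  have hGcard : Nat.card G = 241920 := by
    rw [← N.card_mul_index, hNcard]
    omega
  -- faithful action
  have hnc : ¬ ∀ n ∈ N, n * z = z * n := fun h => by
    have htop : (centralizer ({z'} : Set ↥N)) = ⊤ := eq_top_iff.2 fun n _ =>
      mem_centralizer_singleton_iff.2 (Subtype.ext (h n n.2))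
    rw [htop, card_top, hNcard] at hcz
    omega
  have hinj : Function.Injective (MulAut.conjNormal : G →* MulAut ↥N) := by
    refine (injective_iff_map_eq_one _).2 fun g hg => ?_
    rw [← mem_bot, ← Φ.centralizer_eq_bot hns hRN hnc]
    refine mem_centralizer_iff.2 fun n hn => (mul_inv_eq_iff_eq_mul.1 ?_).symm
    exact congrArg (fun p : MulAut ↥N => ((p ⟨n, hn⟩ : ↥N) : G)) hg
  let toAut := (MulAut.congr eN).toMonoidHom.comp (MulAut.conjNormal : G →* MulAut ↥N)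
  have htoAut : Function.Injective toAut := (MulAut.congr eN).injective.comp hinj
  exact ⟨MulEquiv.ofBijective toAut (htoAut.bijective_of_nat_card_le
    (hGcard ▸ card_mulAut_PGL_le hF))⟩

end Mark

/-- The statement of S3237, given Goldschmidt's theorem. -/
theorem row3237 (hP : PropSimple.{u}) {G : Type u} [Group G] [Finite G] {z : G}
    (hz : orderOf z = 2) (E : Subgroup ↥(Subgroup.centralizer ({z} : Set G))) [hEn : E.Normal]
    (hE : Cfsg.IsExtraspecial 2 ↥E) (hE32 : Nat.card ↥E = 32)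
    (hEminus : ∀ A : Subgroup ↥E, Cfsg.IsElementaryAbelian 2 A → Nat.card ↥A ≠ 8)
    (hCE : Subgroup.centralizer (E : Set ↥(Subgroup.centralizer ({z} : Set G))) ≤ E)
    (e : (↥(Subgroup.centralizer ({z} : Set G)) ⧸ E) ≃* Equiv.Perm (Fin 4)) {F : Type w} [Field F]
    [Fintype F] (hF : Fintype.card F = 4) :
    IsMulCommutative ↥(Cfsg.oddCore G) ∧
      (¬ Group.IsSolvable G →
        Nonempty (G ≃* MulAut (GL (Fin 3) F ⧸ Subgroup.center (GL (Fin 3) F)))) := by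
  obtain ⟨Φ⟩ := exists_mark_of_hyp hz E hE hE32 hEminus hCE e
  refine ⟨⟨⟨fun a b => Subtype.ext (Φ.core_comm a.2 b.2)⟩⟩, fun hns => ?_⟩
  obtain ⟨Ψ, hΨ⟩ := Φ.exists_frame hns hF
  exact Φ.nonempty_equiv Ψ hΨ hns hP hF

end Cfsg.Agent.Lib.Aut34Cent67
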