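import Cfsg.Agent.Lib.Aut34Cent67.Finite
import Mathlib.GroupTheory.Subgroup.Centralizer
import Mathlib.GroupTheory.Coset.Card
import Mathlib.Tactic.Group
import Mathlib.Tactic.Ring

/-!
# Coordinates on the normal extraspecial subgroup of the centralizer

helper67.  Four involutions pairwise commuting up to `z` give the classes modulo `⟨z⟩`.
-/

set_option autoImplicit false
set_option linter.unusedSectionVars false
set_option linter.style.haveILetI false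

open Subgroup

namespace Cfsg.Agent.Lib.Aut34Cent67

universe u

variable {G : Type u} [Group G]

/-- The hypotheses of the centralizer of an involution. -/
structure Cfg (z : G) (E : Subgroup G) : Prop where
  z_mul : z * z = 1
  z_ne : z ≠ 1
  z_mem : z ∈ E
  le : E ≤ centralizer ({z} : Set G)
  conj : ∀ c ∈ centralizer ({z} : Set G), ∀ x ∈ E, c * x * c⁻¹ ∈ E
  swap : ∀ x ∈ E, ∀ y ∈ E, x * y = y * x ∨ x * y = z * (y * x)
  self : ∀ c ∈ centralizer ({z} : Set G), (∀ x ∈ E, c * x = x * c) → c ∈ E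
  card_E : Nat.card ↥E = 32
  card_C : Nat.card ↥(centralizer ({z} : Set G)) = 768

/-- Four involutions of `E` pairwise commuting up to `z`. -/
structure Quad (z : G) (E : Subgroup G) where
  cfg : Cfg z E
  p : Fin 4 → G
  p_mem : ∀ i, p i ∈ E
  p_sq : ∀ i, p i * p i = 1
  p_swap : ∀ i j, i ≠ j → p i * p j = z * (p j * p i)

namespace Quad

variable {z : G} {E : Subgroup G} (Φ : Quad z E)

open scoped Classical in
/-- `0` for commuting elements. -/
noncomputable def cb (x y : G) : ZMod 2 := if x * y = y * x then 0 else 1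

/-- The powers of `z`. -/
def ζ (_Φ : Quad z E) (a : ZMod 2) : G := if a = 0 then 1 else z

theorem ζ_zero : Φ.ζ 0 = 1 := if_pos rfl

theorem ζ_one : Φ.ζ 1 = z := if_neg (by decide)

theorem ζ_add (a b : ZMod 2) : Φ.ζ (a + b) = Φ.ζ a * Φ.ζ b := by
  rcases zmod2 a with rfl | rfl <;> rcases zmod2 b with rfl | rfl
  · rw [add_zero, ζ_zero, one_mul]
  · rw [zero_add, ζ_zero, one_mul]
  · rw [add_zero, ζ_zero, mul_one]
  · rw [show (1 : ZMod 2) + 1 = 0 by decide, ζ_zero, ζ_one, Φ.cfg.z_mul]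

theorem ζ_inj {a b : ZMod 2} (h : Φ.ζ a = Φ.ζ b) : a = b := by
  rcases zmod2 a with rfl | rfl <;> rcases zmod2 b with rfl | rfl
  · rfl
  · rw [ζ_zero, ζ_one] at h; exact absurd h.symm Φ.cfg.z_ne
  · rw [ζ_zero, ζ_one] at h; exact absurd h Φ.cfg.z_ne
  · rfl

theorem ζ_mem (a : ZMod 2) : Φ.ζ a ∈ E := by
  rcases zmod2 a with rfl | rfl
  · rw [ζ_zero]; exact one_mem _
  · rw [ζ_one]; exact Φ.cfg.z_mem

include Φ in
theorem z_inv : z⁻¹ = z := inv_eq_of_mul_eq_one_right Φ.cfg.z_mul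

theorem ζ_inv (a : ZMod 2) : (Φ.ζ a)⁻¹ = Φ.ζ a :=
  inv_eq_of_mul_eq_one_right (by rw [← ζ_add, add_self2, ζ_zero])

theorem ζ_comm (a : ZMod 2) {c : G} (hc : c ∈ centralizer ({z} : Set G)) :
    Φ.ζ a * c = c * Φ.ζ a := by
  rcases zmod2 a with rfl | rfl
  · rw [ζ_zero, one_mul, mul_one]
  · rw [ζ_one]; exact (mem_centralizer_singleton_iff.1 hc).symm

theorem ζ_commE (a : ZMod 2) {x : G} (hx : x ∈ E) : Φ.ζ a * x = x * Φ.ζ a :=
  Φ.ζ_comm a (Φ.cfg.le hx)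

theorem cb_spec {x y : G} (hx : x ∈ E) (hy : y ∈ E) : x * y = Φ.ζ (cb x y) * (y * x) := by
  classical
  unfold cb
  split_ifs with h
  · rw [ζ_zero, one_mul, h]
  · rw [ζ_one]
    exact (Φ.cfg.swap x hx y hy).resolve_left h

theorem cb_of {x y : G} (hx : x ∈ E) (hy : y ∈ E) {a : ZMod 2} (h : x * y = Φ.ζ a * (y * x)) :
    cb x y = a :=
  Φ.ζ_inj (mul_right_cancel ((Φ.cb_spec hx hy).symm.trans h))

include Φ in
theorem cb_self (x : G) : cb x x = 0 := by classical simp [cb]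

include Φ in
theorem cb_comm {x y : G} (hx : x ∈ E) (hy : y ∈ E) : cb x y = cb y x := by
  refine Φ.cb_of hx hy ?_
  conv_rhs => rw [Φ.cb_spec hy hx, ← mul_assoc, ← ζ_add, add_self2, ζ_zero, one_mul]

include Φ in
theorem cb_mul {x y w : G} (hx : x ∈ E) (hy : y ∈ E) (hw : w ∈ E) :
    cb (x * y) w = cb x w + cb y w := by
  refine Φ.cb_of (mul_mem hx hy) hw ?_
  calc x * y * w = x * (Φ.ζ (cb y w) * (w * y)) := by rw [mul_assoc, ← Φ.cb_spec hy hw]
    _ = Φ.ζ (cb y w) * (x * w * y) := by rw [← mul_assoc x, ← Φ.ζ_commE _ hx]; group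
    _ = Φ.ζ (cb x w + cb y w) * (w * (x * y)) := by
        rw [Φ.cb_spec hx hw, add_comm, ζ_add]; group

include Φ in
theorem cb_one {w : G} : cb 1 w = 0 := by classical simp [cb]

theorem cb_p (i j : Fin 4) (h : i ≠ j) : cb (Φ.p i) (Φ.p j) = 1 :=
  Φ.cb_of (Φ.p_mem i) (Φ.p_mem j) (by rw [ζ_one]; exact Φ.p_swap i j h)

/-- The class of an element. -/
noncomputable def v (x : G) : V := fun j =>
  cb x (Φ.p j) + (cb x (Φ.p 0) + cb x (Φ.p 1) + cb x (Φ.p 2) + cb x (Φ.p 3))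

theorem v_mul {x y : G} (hx : x ∈ E) (hy : y ∈ E) : Φ.v (x * y) = Φ.v x + Φ.v y := by
  funext j
  simp only [v, Pi.add_apply, Φ.cb_mul hx hy (Φ.p_mem _)]
  ring

theorem v_one : Φ.v 1 = 0 := by
  funext j
  simp only [v, Φ.cb_one, add_zero, Pi.zero_apply]

theorem v_inv {x : G} (hx : x ∈ E) : Φ.v x⁻¹ = Φ.v x := by
  refine v_eq_of_add _ _ ?_
  rw [← Φ.v_mul (inv_mem hx) hx, inv_mul_cancel, v_one]

theorem v_p (i : Fin 4) : Φ.v (Φ.p i) = unit i := by
  have h : ∀ j, cb (Φ.p i) (Φ.p j) = if i = j then 0 else 1 := by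
    intro j
    split_ifs with h
    · rw [h, Φ.cb_self]
    · exact Φ.cb_p i j h
  funext j
  simp only [v, h]
  fin_cases i <;> fin_cases j <;> rfl

theorem v_z : Φ.v z = 0 := by
  classical
  funext j
  have h : ∀ k, cb z (Φ.p k) = 0 := fun k =>
    if_pos (mem_centralizer_singleton_iff.1 (Φ.cfg.le (Φ.p_mem k))).symm
  simp only [v, h, add_zero, Pi.zero_apply]

theorem v_ζ (a : ZMod 2) : Φ.v (Φ.ζ a) = 0 := by
  rcases zmod2 a with rfl | rfl
  · rw [ζ_zero, v_one]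
  · rw [ζ_one, v_z]

theorem wt_v (x : G) :
    wt (Φ.v x) = cb x (Φ.p 0) + cb x (Φ.p 1) + cb x (Φ.p 2) + cb x (Φ.p 3) := by
  have key : ∀ a b c d : ZMod 2, (a + (a + b + c + d)) + (b + (a + b + c + d)) +
      (c + (a + b + c + d)) + (d + (a + b + c + d)) = a + b + c + d := by decide
  exact key _ _ _ _

theorem cb_p_eq (x : G) (j : Fin 4) : cb x (Φ.p j) = form (unit j) (Φ.v x) := by
  rw [form_unit, wt_v]
  have key : ∀ s a : ZMod 2, a = s + (a + s) := by decide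
  exact key _ _

theorem z_eq : ∃ x ∈ closure (Set.range Φ.p), x = z := by
  refine ⟨Φ.p 0 * Φ.p 1 * (Φ.p 0 * Φ.p 1), mul_mem ?_ ?_, ?_⟩
  · exact mul_mem (subset_closure (Set.mem_range_self 0)) (subset_closure (Set.mem_range_self 1))
  · exact mul_mem (subset_closure (Set.mem_range_self 0)) (subset_closure (Set.mem_range_self 1))
  · calc Φ.p 0 * Φ.p 1 * (Φ.p 0 * Φ.p 1) = Φ.p 0 * (Φ.p 1 * Φ.p 0) * Φ.p 1 := by group
      _ = Φ.p 0 * (z * (Φ.p 0 * Φ.p 1)) * Φ.p 1 := by rw [Φ.p_swap 1 0 (by decide)]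
      _ = z * (Φ.p 0 * Φ.p 0 * (Φ.p 1 * Φ.p 1)) := by
          rw [← mul_assoc (Φ.p 0) z, mem_centralizer_singleton_iff.1 (Φ.cfg.le (Φ.p_mem 0))]
          group
      _ = z := by rw [Φ.p_sq, Φ.p_sq, mul_one, mul_one]

/-- The product of the chosen involutions in the support of a vector. -/
noncomputable def lift (w : V) : G :=
  Φ.p 0 ^ (w 0).val * Φ.p 1 ^ (w 1).val * Φ.p 2 ^ (w 2).val * Φ.p 3 ^ (w 3).val

theorem lift_closure (w : V) : Φ.lift w ∈ closure (Set.range Φ.p) :=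
  mul_mem (mul_mem (mul_mem (pow_mem (subset_closure (Set.mem_range_self 0)) _)
    (pow_mem (subset_closure (Set.mem_range_self 1)) _)) (pow_mem (subset_closure (Set.mem_range_self 2)) _))
    (pow_mem (subset_closure (Set.mem_range_self 3)) _)

theorem lift_mem (w : V) : Φ.lift w ∈ E :=
  (closure_le E).2 (by rintro _ ⟨i, rfl⟩; exact Φ.p_mem i) (Φ.lift_closure w)

theorem v_pow_val {x : G} (hx : x ∈ E) (a : ZMod 2) :
    Φ.v (x ^ a.val) = (fun _ => a) * Φ.v x := by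
  rcases zmod2 a with rfl | rfl
  · rw [ZMod.val_zero, pow_zero, v_one]
    funext j; simp
  · rw [show (1 : ZMod 2).val = 1 from rfl, pow_one]
    funext j; simp

theorem v_lift (w : V) : Φ.v (Φ.lift w) = w := by
  have h := fun i (a : ZMod 2) => pow_mem (Φ.p_mem i) a.val
  rw [lift, Φ.v_mul (mul_mem (mul_mem (h 0 _) (h 1 _)) (h 2 _)) (h 3 _),
    Φ.v_mul (mul_mem (h 0 _) (h 1 _)) (h 2 _), Φ.v_mul (h 0 _) (h 1 _)]
  simp only [Φ.v_pow_val (Φ.p_mem _), Φ.v_p]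
  exact (v_eq_sum w).symm

theorem closure_eq [Finite G] : closure (Set.range Φ.p) = E := by
  classical
  have hle : closure (Set.range Φ.p) ≤ E :=
    (closure_le E).2 (by rintro _ ⟨i, rfl⟩; exact Φ.p_mem i)
  obtain ⟨x, hx, hxz⟩ := Φ.z_eq
  subst hxz
  refine Subgroup.eq_of_le_of_card_ge hle ?_
  let f : V × ZMod 2 → ↥(closure (Set.range Φ.p)) := fun w =>
    ⟨Φ.lift w.1 * Φ.ζ w.2, mul_mem (Φ.lift_closure _) (by
      rcases zmod2 w.2 with e | e <;> rw [e]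
      · rw [ζ_zero]; exact one_mem _
      · rw [ζ_one]; exact hx)⟩
  have hf : Function.Injective f := by
    rintro ⟨w, a⟩ ⟨w', a'⟩ e
    have e' : Φ.lift w * Φ.ζ a = Φ.lift w' * Φ.ζ a' := congrArg Subtype.val e
    have hv := congrArg Φ.v e'
    rw [Φ.v_mul (Φ.lift_mem _) (Φ.ζ_mem _), Φ.v_mul (Φ.lift_mem _) (Φ.ζ_mem _), v_lift, v_lift,
      v_ζ, v_ζ, add_zero, add_zero] at hv
    subst hv
    exact Prod.ext rfl (Φ.ζ_inj (mul_left_cancel e'))
  refine le_trans (le_of_eq ?_) (Nat.card_le_card_of_injective f hf)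
  rw [Φ.cfg.card_E, Nat.card_prod, Nat.card_fun, Nat.card_zmod, Nat.card_fin]
  rfl

variable [Finite G]

theorem induction {P : G → Prop} (hp : ∀ i, P (Φ.p i)) (h1 : P 1)
    (hm : ∀ x ∈ E, ∀ y ∈ E, P x → P y → P (x * y)) (hi : ∀ x ∈ E, P x → P x⁻¹) {x : G}
    (hx : x ∈ E) : P x := by
  have hcl := Φ.closure_eq
  rw [← hcl] at hx
  induction hx using Subgroup.closure_induction with
  | mem a ha => obtain ⟨i, rfl⟩ := ha; exact hp i
  | one => exact h1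
  | mul a b ha hb h h' => exact hm a (hcl ▸ ha) b (hcl ▸ hb) h h'
  | inv a ha h => exact hi a (hcl ▸ ha) h

theorem cb_eq {x y : G} (hx : x ∈ E) (hy : y ∈ E) : cb x y = form (Φ.v x) (Φ.v y) := by
  refine Φ.induction (P := fun a => cb a y = form (Φ.v a) (Φ.v y)) (fun i => ?_) ?_ ?_ ?_ hx
  · rw [Φ.v_p, Φ.cb_comm (Φ.p_mem i) hy, cb_p_eq]
  · rw [Φ.cb_one, v_one]; simp [form, wt]
  · intro a ha b hb e e'
    rw [Φ.cb_mul ha hb hy, Φ.v_mul ha hb, form_add_left, e, e']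
  · intro a ha e
    rw [Φ.v_inv ha, ← e]
    refine v_add_cancel ?_
    rw [← Φ.cb_mul (inv_mem ha) ha hy, inv_mul_cancel, Φ.cb_one]
where
  v_add_cancel {a b : ZMod 2} (h : a + b = 0) : a = b := by
    revert a b; decide

theorem comm_iff {x y : G} (hx : x ∈ E) (hy : y ∈ E) :
    x * y = y * x ↔ form (Φ.v x) (Φ.v y) = 0 := by
  classical
  rw [← Φ.cb_eq hx hy, cb]
  split_ifs with h
  · simp [h]
  · simp [h]

theorem mul_swap {x y : G} (hx : x ∈ E) (hy : y ∈ E) :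
    x * y = Φ.ζ (form (Φ.v x) (Φ.v y)) * (y * x) := by
  rw [← Φ.cb_eq hx hy]; exact Φ.cb_spec hx hy

theorem sq_eq {x : G} (hx : x ∈ E) : x * x = Φ.ζ (quad (Φ.v x)) := by
  refine Φ.induction (P := fun a => a * a = Φ.ζ (quad (Φ.v a))) (fun i => ?_) ?_ ?_ ?_ hx
  · rw [Φ.v_p, quad_unit, ζ_zero, Φ.p_sq]
  · rw [v_one, quad_zero, ζ_zero, one_mul]
  · intro a ha b hb e e'
    rw [Φ.v_mul ha hb, quad_add]
    calc a * b * (a * b) = a * (b * a) * b := by group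
      _ = a * (Φ.ζ (form (Φ.v b) (Φ.v a)) * (a * b)) * b := by rw [← Φ.mul_swap hb ha]
      _ = Φ.ζ (form (Φ.v b) (Φ.v a)) * (a * a * (b * b)) := by
          rw [← mul_assoc a (Φ.ζ _), ← Φ.ζ_commE _ ha]; group
      _ = _ := by rw [e, e', ← ζ_add, ← ζ_add, form_comm]; congr 1; ring
  · intro a ha e
    rw [Φ.v_inv ha, ← mul_inv_rev, e, ζ_inv]

theorem sq_one_iff {x : G} (hx : x ∈ E) : x * x = 1 ↔ quad (Φ.v x) = 0 := by
  rw [Φ.sq_eq hx]
  exact ⟨fun h => Φ.ζ_inj (h.trans Φ.ζ_zero.symm), fun h => by rw [h, ζ_zero]⟩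

/-- Only `1` and `z` have class zero. -/
theorem eq_of_v_zero {x : G} (hx : x ∈ E) (h : Φ.v x = 0) : x = 1 ∨ x = z := by
  classical
  let f : V × ZMod 2 → ↥E := fun w => ⟨Φ.lift w.1 * Φ.ζ w.2, mul_mem (Φ.lift_mem _) (Φ.ζ_mem _)⟩
  have hf : Function.Injective f := by
    rintro ⟨w, a⟩ ⟨w', a'⟩ e
    have e' : Φ.lift w * Φ.ζ a = Φ.lift w' * Φ.ζ a' := congrArg Subtype.val e
    have hv := congrArg Φ.v e'
    rw [Φ.v_mul (Φ.lift_mem _) (Φ.ζ_mem _), Φ.v_mul (Φ.lift_mem _) (Φ.ζ_mem _), v_lift, v_lift,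
      v_ζ, v_ζ, add_zero, add_zero] at hv
    subst hv
    exact Prod.ext rfl (Φ.ζ_inj (mul_left_cancel e'))
  have hb := hf.bijective_of_nat_card_le (by
    rw [Φ.cfg.card_E, Nat.card_prod, Nat.card_fun, Nat.card_zmod, Nat.card_fin]; rfl)
  obtain ⟨⟨w, a⟩, hw⟩ := hb.2 ⟨x, hx⟩
  have hw' : Φ.lift w * Φ.ζ a = x := congrArg Subtype.val hw
  have hw0 : w = 0 := by
    rw [← h, ← hw', Φ.v_mul (Φ.lift_mem _) (Φ.ζ_mem _), v_lift, v_ζ, add_zero]
  subst hw0
  have h0 : Φ.lift 0 = 1 := by simp [lift]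
  rw [h0, one_mul] at hw'
  rcases zmod2 a with rfl | rfl
  · exact Or.inl (by rw [← hw', ζ_zero])
  · exact Or.inr (by rw [← hw', ζ_one])

/-- Elements of the same class differ by a power of `z`. -/
theorem eq_of_v_eq {x y : G} (hx : x ∈ E) (hy : y ∈ E) (h : Φ.v x = Φ.v y) :
    x = y ∨ x = y * z := by
  rcases Φ.eq_of_v_zero (mul_mem (inv_mem hy) hx)
    (by rw [Φ.v_mul (inv_mem hy) hx, Φ.v_inv hy, h, v_add_self]) with e | e
  · exact Or.inl (inv_mul_eq_one.1 e).symm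
  · exact Or.inr (by rw [← e, mul_inv_cancel_left])

end Quad

end Cfsg.Agent.Lib.Aut34Cent67
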