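import Cfsg.Agent.Lib.Extraspecial.Classify
import Cfsg.Agent.Lib.Extraspecial.PlusCount

/-!
# An extraspecial group of order 32 without elementary abelian subgroups of order 8

helper67.  It contains four involutions that pairwise commute up to the central involution.
-/

set_option autoImplicit false
set_option linter.unusedSectionVars false
set_option linter.style.haveILetI false
set_option linter.unusedVariables false

open scoped commutatorElement

namespace Cfsg.Agent.Lib.Aut34Cent67

open Cfsg.Agent.Lib.Extraspecial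

universe u

variable {E : Type u} [Group E] [Finite E] {z : E}

theorem comm_mul_right (h : ESData 2 z) (a b c : E) : ⁅a, b * c⁆ = ⁅a, b⁆ * ⁅a, c⁆ := by
  have hinv : ∀ x y : E, ⁅x, y⁆ = ⁅y, x⁆ := fun x y => by
    rw [← commutatorElement_inv y x]
    rcases two_cases h (h.comm_mem y x) with e | e <;> rw [e]
    · exact inv_one
    · exact inv_eq_of_mul_eq_one_right (by rw [← sq]; exact h.z_pow)
  rw [hinv a, comm_mul_left h, hinv b, hinv c]

theorem swap_of_comm (h : ESData 2 z) {a b : E} (e : ⁅a, b⁆ = z) : a * b = z * (b * a) := by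
  rw [← e, commutatorElement_def]; group

/-- The centralizer of a pair of non-commuting involutions is quaternion. -/
theorem no_invol (h : ESData 2 z) (hcard : Nat.card E = 32)
    (hno : ∀ A : Subgroup E, Cfsg.IsElementaryAbelian 2 A → Nat.card ↥A ≠ 8) {x y : E}
    (hxy : ⁅x, y⁆ = z) (hx : x ^ 2 = 1) {a : E}
    (ha : a ∈ Subgroup.centralizer ({x, y} : Set E)) (ha2 : a ^ 2 = 1) :
    a ∈ Subgroup.zpowers z := by
  haveI : Fact (Nat.Prime 2) := ⟨Nat.prime_two⟩
  by_contra haz
  obtain ⟨hax, hay⟩ := (mem_pairCentralizer h).1 ha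
  set A := Subgroup.closure ({z, a, x} : Set E) with hA
  have hgen : ∀ p ∈ ({z, a, x} : Set E), ∀ q ∈ ({z, a, x} : Set E), p * q = q * p := by
    intro p hp q hq
    simp only [Set.mem_insert_iff, Set.mem_singleton_iff] at hp hq
    rcases hp with rfl | rfl | rfl <;> rcases hq with rfl | rfl | rfl <;>
      first
        | rfl
        | exact commute_z h _
        | exact (commute_z h _).symm
        | exact hax
        | exact hax.symm
  have hcomm : ∀ p ∈ A, ∀ q ∈ A, p * q = q * p := by
    intro p hp q hq
    induction hp, hq using Subgroup.closure_induction₂ with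
    | mem p q hp hq => exact hgen p hp q hq
    | one_left q _ => simp
    | one_right p _ => simp
    | mul_left p q r _ _ _ h1 h2 => exact Commute.mul_left h1 h2
    | mul_right p q r _ _ _ h1 h2 => exact Commute.mul_right h1 h2
    | inv_left p q _ _ h1 => exact Commute.inv_left h1
    | inv_right p q _ _ h1 => exact Commute.inv_right h1
  have hsq : ∀ p ∈ A, p ^ 2 = 1 := by
    intro p hp
    induction hp using Subgroup.closure_induction with
    | mem p hp =>
      simp only [Set.mem_insert_iff, Set.mem_singleton_iff] at hp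
      rcases hp with rfl | rfl | rfl
      exacts [h.z_pow, ha2, hx]
    | one => exact one_pow 2
    | mul p q hp hq h1 h2 => rw [Commute.mul_pow (hcomm p hp q hq), h1, h2, one_mul]
    | inv p _ h1 => rw [inv_pow, h1, inv_one]
  have hmz : z ∈ A := Subgroup.subset_closure (by simp)
  have hma : a ∈ A := Subgroup.subset_closure (by simp)
  have hmx : x ∈ A := Subgroup.subset_closure (by simp)
  have h8 : Nat.card A ≤ 8 := by
    have := sq_card_le_of_comm h A hmz hcomm
    rw [hcard] at this
    by_contra hlt
    nlinarith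
  -- `1, z, a, z a, x` are five distinct elements of `A`
  have hy1 : ∀ p ∈ ({1, z, a, z * a} : Set E), y * p = p * y := by
    intro p hp
    simp only [Set.mem_insert_iff, Set.mem_singleton_iff] at hp
    rcases hp with rfl | rfl | rfl | rfl
    · simp
    · exact commute_z h y
    · exact hay
    · exact Commute.mul_right (commute_z h y) hay
  have hxy' : y * x ≠ x * y := by
    intro e
    exact h.z_ne (hxy.symm.trans (commutatorElement_eq_one_iff_mul_comm.2 e.symm))
  have hz1 := h.z_ne
  have ha1 : a ≠ 1 := fun e => haz (e ▸ one_mem _)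
  have haz' : a ≠ z := fun e => haz (e ▸ Subgroup.mem_zpowers z)
  have hza1 : z * a ≠ 1 := fun e => haz (by
    rw [eq_inv_of_mul_eq_one_right e]; exact inv_mem (Subgroup.mem_zpowers z))
  classical
  haveI := Fintype.ofFinite E
  have hsub : ({1, z, a, z * a, x} : Finset E) ⊆ Finset.univ.filter (fun g => g ∈ A) := by
    intro g hg
    simp only [Finset.mem_insert, Finset.mem_singleton] at hg
    rcases hg with rfl | rfl | rfl | rfl | rfl
    · simp
    · simpa using hmz
    · simpa using hma
    · simpa using mul_mem hmz hma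
    · simpa using hmx
  have h5 : 5 ≤ Nat.card A := by
    refine le_of_eq_of_le ?_ ((Finset.card_le_card hsub).trans (le_of_eq ?_))
    · have hxne : ∀ p ∈ ({1, z, a, z * a} : Set E), x ≠ p := fun p hp e => hxy' (e ▸ hy1 p hp)
      have d1 := hxne 1 (by simp)
      have d2 := hxne z (by simp)
      have d3 := hxne a (by simp)
      have d4 := hxne (z * a) (by simp)
      simp [hz1, hz1.symm, ha1, ha1.symm, haz'.symm, hza1.symm, d1.symm, d2.symm,
        d3.symm, d4.symm]
    · rw [Nat.card_eq_fintype_card, Fintype.card_subtype]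
  have hd : Nat.card A ∣ 32 := hcard ▸ Subgroup.card_subgroup_dvd_card A
  have he : Nat.card A = 8 := by
    generalize Nat.card A = n at h5 h8 hd ⊢
    interval_cases n <;> omega
  exact hno A ⟨⟨⟨fun p q => Subtype.ext (hcomm p p.2 q q.2)⟩⟩, hsq⟩ he

/-- Four involutions pairwise commuting up to `z`. -/
theorem exists_quad (h : ESData 2 z) (hcard : Nat.card E = 32)
    (hno : ∀ A : Subgroup E, Cfsg.IsElementaryAbelian 2 A → Nat.card ↥A ≠ 8) :
    ∃ p : Fin 4 → E, (∀ i, p i * p i = 1) ∧
      ∀ i j, i ≠ j → p i * p j = z * (p j * p i) := by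
  haveI : Fact (Nat.Prime 2) := ⟨Nat.prime_two⟩
  have hz2 : z * z = 1 := by rw [← sq]; exact h.z_pow
  obtain ⟨x₀, hx₀⟩ : ∃ x₀, x₀ ∉ Subgroup.zpowers z := by
    by_contra hcon
    push Not at hcon
    have := orderOf_eq_card_of_forall_mem_zpowers hcon
    rw [hcard, orderOf_eq_prime h.z_pow h.z_ne] at this
    norm_num at this
  rcases exists_pair_cases h hx₀ with ⟨x, y, hxy, hx, hy⟩ | ⟨h8, -⟩
  swap
  · omega
  set K := Subgroup.centralizer ({x, y} : Set E) with hK
  set zK : K := ⟨z, z_mem h⟩ with hzK
  have hES := esData_centralizer h hxy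
  have hKcard : Nat.card K = 8 := by
    have e := card_eq h hxy
    rw [hcard, ← hK] at e
    norm_num at e
    omega
  have hnoK : ∀ g : K, g ^ 2 = 1 → g ∈ Subgroup.zpowers zK := by
    intro g hg
    obtain ⟨k, hk⟩ := no_invol h hcard hno hxy hx g.2 (congrArg Subtype.val hg)
    exact ⟨k, Subtype.ext (by simpa [hzK] using hk)⟩
  obtain ⟨hsq, -⟩ := quaternion_case hES hnoK
  obtain ⟨g₀, hg₀⟩ : ∃ g : K, g ∉ Subgroup.zpowers zK := by
    by_contra hcon
    push Not at hcon
    have := orderOf_eq_card_of_forall_mem_zpowers hcon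
    rw [hKcard, orderOf_eq_prime hES.z_pow hES.z_ne] at this
    norm_num at this
  obtain ⟨g₁, hg⟩ := exists_pair hES hg₀
  have hg₁ : g₁ ∉ Subgroup.zpowers zK := fun hc => hES.z_ne (hg.symm.trans
    (commutatorElement_eq_one_iff_mul_comm.2
      (Subgroup.mem_center_iff.1 ((hES.mem_center g₁).2 hc) g₀)))
  set u : E := (g₀ : E) with hu'
  set v : E := (g₁ : E) with hv'
  have hu2 : u ^ 2 = z := congrArg Subtype.val (hsq g₀ hg₀)
  have hv2 : v ^ 2 = z := congrArg Subtype.val (hsq g₁ hg₁)
  have huv : ⁅u, v⁆ = z := congrArg Subtype.val hg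
  obtain ⟨hxu, hyu⟩ := (mem_pairCentralizer h).1 g₀.2
  obtain ⟨hxv, hyv⟩ := (mem_pairCentralizer h).1 g₁.2
  have cxu : ⁅x, u⁆ = 1 := commutatorElement_eq_one_iff_mul_comm.2 hxu
  have cyu : ⁅y, u⁆ = 1 := commutatorElement_eq_one_iff_mul_comm.2 hyu
  have cxv : ⁅x, v⁆ = 1 := commutatorElement_eq_one_iff_mul_comm.2 hxv
  have cyv : ⁅y, v⁆ = 1 := commutatorElement_eq_one_iff_mul_comm.2 hyv
  have cux : ⁅u, x⁆ = 1 := commutatorElement_eq_one_iff_mul_comm.2 hxu.symm
  have cuy : ⁅u, y⁆ = 1 := commutatorElement_eq_one_iff_mul_comm.2 hyu.symm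
  have cyx : ⁅y, x⁆ = z := by
    rw [← commutatorElement_inv, hxy, inv_eq_of_mul_eq_one_right hz2]
  have q2 : (x * y) ^ 2 = z := by
    have h1 := swap_of_comm h cyx
    calc (x * y) ^ 2 = x * (y * x) * y := by rw [sq]; group
      _ = x * (z * (x * y)) * y := by rw [h1]
      _ = z * (x * x * (y * y)) := by rw [← mul_assoc x z, commute_z h x]; group
      _ = z := by rw [← sq, ← sq, hx, hy, mul_one, mul_one]
  have hc : ∀ w : E, x * w = w * x → y * w = w * y → w ^ 2 = z → (x * y * w) * (x * y * w) = 1 := by
    intro w h1 h2 h3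
    have hw : Commute (x * y) w := Commute.mul_left h1 h2
    rw [← sq, hw.mul_pow, q2, h3, hz2]
  refine ⟨![x, y, x * y * u, x * y * v], fun i => ?_, ?_⟩
  · fin_cases i
    · simpa [sq] using hx
    · simpa [sq] using hy
    · exact hc u hxu hyu hu2
    · exact hc v hxv hyv hv2
  have e01 : ⁅x, y⁆ = z := hxy
  have e02 : ⁅x, x * y * u⁆ = z := by
    rw [comm_mul_right h, comm_mul_right h, commutatorElement_self, hxy, cxu]; simp
  have e03 : ⁅x, x * y * v⁆ = z := by
    rw [comm_mul_right h, comm_mul_right h, commutatorElement_self, hxy, cxv]; simp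
  have e12 : ⁅y, x * y * u⁆ = z := by
    rw [comm_mul_right h, comm_mul_right h, commutatorElement_self, cyx, cyu]; simp
  have e13 : ⁅y, x * y * v⁆ = z := by
    rw [comm_mul_right h, comm_mul_right h, commutatorElement_self, cyx, cyv]; simp
  have e23 : ⁅x * y * u, x * y * v⁆ = z := by
    simp only [comm_mul_left h, comm_mul_right h, commutatorElement_self, hxy, cyx, cxv, cyv, cux,
      cuy, huv, one_mul, mul_one, hz2]
  have hsym : ∀ a b : E, a * b = z * (b * a) → b * a = z * (a * b) := by
    intro a b e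
    rw [e, ← mul_assoc, hz2, one_mul]
  intro i j hij
  fin_cases i <;> fin_cases j <;>
    first
      | exact absurd rfl hij
      | exact swap_of_comm h e01
      | exact swap_of_comm h e02
      | exact swap_of_comm h e03
      | exact swap_of_comm h e12
      | exact swap_of_comm h e13
      | exact swap_of_comm h e23
      | exact hsym _ _ (swap_of_comm h e01)
      | exact hsym _ _ (swap_of_comm h e02)
      | exact hsym _ _ (swap_of_comm h e03)
      | exact hsym _ _ (swap_of_comm h e12)
      | exact hsym _ _ (swap_of_comm h e13)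
      | exact hsym _ _ (swap_of_comm h e23)

end Cfsg.Agent.Lib.Aut34Cent67
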