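import Cfsg.Agent.Lib.Aut34Cent67.Quad
import Cfsg.Agent.Lib.Aut34Cent67.Act
import Cfsg.Agent.Lib.L34Sylow67.Local
import Cfsg.Agent.Lib.ZStar.Elements
import Cfsg.Agent.Lib.ZStar.UniqueCase
import Cfsg.Agent.Lib.FpfLinear.Perfect
import Cfsg.Prelude.Def_CaseTheorems

/-!
# The odd core and a Sylow 2-subgroup

helper67.  A Sylow 2-subgroup of the centralizer is one of the group; `z` inverts the odd core,
which is trivial unless the group is solvable.
-/

set_option autoImplicit false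
set_option linter.unusedSectionVars false
set_option linter.style.haveILetI false

open Subgroup

namespace Cfsg.Agent.Lib.Aut34Cent67

universe u

variable {G : Type u} [Group G] [Finite G] {z : G}

/-- The hypotheses give coordinates. -/
theorem exists_mark_of_hyp (hz : orderOf z = 2) (E : Subgroup ↥(centralizer ({z} : Set G)))
    [hEn : E.Normal] (hE : Cfsg.IsExtraspecial 2 ↥E) (hE32 : Nat.card ↥E = 32)
    (hEminus : ∀ A : Subgroup ↥E, Cfsg.IsElementaryAbelian 2 A → Nat.card ↥A ≠ 8)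
    (hCE : centralizer (E : Set ↥(centralizer ({z} : Set G))) ≤ E)
    (e : (↥(centralizer ({z} : Set G)) ⧸ E) ≃* Equiv.Perm (Fin 4)) :
    Nonempty (Mark z (E.map (centralizer ({z} : Set G)).subtype)) := by
  classical
  haveI : Fact (Nat.Prime 2) := ⟨Nat.prime_two⟩
  obtain ⟨z', hES⟩ := Extraspecial.exists_esData hE
  have hzC : z ∈ (centralizer ({z} : Set G)) := mem_centralizer_singleton_iff.2 rfl
  have hz1 : z ≠ 1 := fun h => by rw [h, orderOf_one] at hz; norm_num at hz
  have hzE : (⟨z, hzC⟩ : ↥(centralizer ({z} : Set G))) ∈ E := hCE (Subgroup.mem_centralizer_iff.2 fun (x : ↥(centralizer ({z} : Set G))) _ =>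
    Subtype.ext (mem_centralizer_singleton_iff.1 x.2))
  have hzz : ((z' : ↥(centralizer ({z} : Set G))) : G) = z := by
    have hc : (⟨⟨z, hzC⟩, hzE⟩ : ↥E) ∈ Subgroup.zpowers z' :=
      (hES.mem_center _).1 (Subgroup.mem_center_iff.2 fun x =>
        Subtype.ext (Subtype.ext (mem_centralizer_singleton_iff.1 (x : ↥(centralizer ({z} : Set G))).2)))
    rcases Extraspecial.two_cases hES hc with h | h
    · exact absurd (congrArg (fun a : ↥E => ((a : ↥(centralizer ({z} : Set G))) : G)) h) hz1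
    · exact (congrArg (fun a : ↥E => ((a : ↥(centralizer ({z} : Set G))) : G)) h).symm
  obtain ⟨p, hp2, hps⟩ := exists_quad hES hE32 hEminus
  have hcardC : Nat.card ↥(centralizer ({z} : Set G)) = 768 := by
    rw [E.card_eq_card_quotient_mul_card_subgroup, hE32, Nat.card_congr e.toEquiv,
      Nat.card_eq_fintype_card, Fintype.card_perm, Fintype.card_fin,
      show Nat.factorial 4 = 24 from rfl]
  have cfg : Cfg z (E.map (centralizer ({z} : Set G)).subtype) :=
    { z_mul := by rw [← sq, ← hz, pow_orderOf_eq_one]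
      z_ne := hz1
      z_mem := ⟨_, hzE, rfl⟩
      le := Subgroup.map_subtype_le E
      conj := by
        rintro c hc _ ⟨x, hx, rfl⟩
        exact ⟨⟨c, hc⟩ * x * ⟨c, hc⟩⁻¹, hEn.conj_mem x hx _, rfl⟩
      swap := by
        rintro _ ⟨x, hx, rfl⟩ _ ⟨y, hy, rfl⟩
        rcases Extraspecial.two_cases hES (hES.comm_mem ⟨x, hx⟩ ⟨y, hy⟩) with h | h
        · exact Or.inl (congrArg (fun a : ↥E => ((a : ↥(centralizer ({z} : Set G))) : G))
            (commutatorElement_eq_one_iff_mul_comm.1 h))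
        · refine Or.inr ?_
          have := congrArg (fun a : ↥E => ((a : ↥(centralizer ({z} : Set G))) : G)) (swap_of_comm hES h)
          simp only [Subgroup.coe_mul, hzz] at this
          exact this
      self := fun c hc h => ⟨⟨c, hc⟩, hCE (Subgroup.mem_centralizer_iff.2 fun x hx =>
        Subtype.ext (h x ⟨x, hx, rfl⟩).symm), rfl⟩
      card_E := (Subgroup.card_map_of_injective (centralizer ({z} : Set G)).subtype_injective).trans hE32
      card_C := hcardC }
  refine Quad.exists_mark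
    { cfg := cfg
      p := fun i => ((p i : ↥(centralizer ({z} : Set G))) : G)
      p_mem := fun i => ⟨_, (p i).2, rfl⟩
      p_sq := fun i => congrArg (fun a : ↥E => ((a : ↥(centralizer ({z} : Set G))) : G)) (hp2 i)
      p_swap := fun i j hij => by
        have := congrArg (fun a : ↥E => ((a : ↥(centralizer ({z} : Set G))) : G)) (hps i j hij)
        simp only [Subgroup.coe_mul, hzz] at this
        exact this }

namespace Mark

variable {E : Subgroup G} (Φ : Mark z E)

include Φ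

theorem z_mem_C : z ∈ centralizer ({z} : Set G) := Φ.cfg.le Φ.cfg.z_mem

theorem orderOf_z : orderOf z = 2 :=
  orderOf_eq_prime (by rw [sq]; exact Φ.cfg.z_mul) Φ.cfg.z_ne

theorem center_E {x : G} (hx : x ∈ E) (h : ∀ i, x * Φ.p i = Φ.p i * x) : x = 1 ∨ x = z :=
  Φ.eq_of_v_zero hx (form_radical _ fun i => by
    rw [← Φ.v_p, ← Φ.comm_iff hx (Φ.p_mem i)]; exact h i)

theorem isPGroup_E : IsPGroup 2 ↥E :=
  IsPGroup.of_card (n := 5) (by rw [Φ.cfg.card_E]; norm_num)

/-- A Sylow 2-subgroup of `G` inside the centralizer, containing `E`. -/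
theorem exists_sylow : ∃ T : Sylow 2 G, (T : Subgroup G) ≤ centralizer ({z} : Set G) ∧
    E ≤ (T : Subgroup G) ∧ Nat.card ↥(T : Subgroup G) = 256 := by
  haveI : Fact (Nat.Prime 2) := ⟨Nat.prime_two⟩
  set C := centralizer ({z} : Set G) with hC
  have hE2 : IsPGroup 2 ↥(E.subgroupOf C) :=
    Φ.isPGroup_E.of_equiv (subgroupOfEquivOfLe Φ.cfg.le).symm
  obtain ⟨P, hP⟩ := hE2.exists_le_sylow
  set T₀ : Subgroup G := (P : Subgroup ↥C).map C.subtype with hT₀
  have hT₀C : T₀ ≤ C := map_subtype_le _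
  have hET₀ : E ≤ T₀ := fun x hx => ⟨⟨x, Φ.cfg.le hx⟩, hP hx, rfl⟩
  have hcard : Nat.card ↥T₀ = 256 := by
    rw [hT₀, Subgroup.card_map_of_injective C.subtype_injective, P.card_eq_multiplicity,
      Φ.cfg.card_C, show (768 : ℕ) = 2 ^ 8 * 3 from rfl,
      Nat.factorization_mul (by norm_num) (by norm_num), Nat.Prime.factorization_pow Nat.prime_two]
    simp [Nat.factorization_eq_zero_of_not_dvd]
  have hcen : ∀ w ∈ T₀, (∀ t ∈ T₀, w * t = t * w) → w = 1 ∨ w = z := fun w hw h =>
    Φ.center_E (Φ.cfg.self w (hT₀C hw) fun x hx => h x (hET₀ hx))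
      fun i => h _ (hET₀ (Φ.p_mem i))
  have hN : normalizer (T₀ : Set G) ≤ C := by
    intro g hg
    have hm : ∀ t ∈ T₀, g⁻¹ * t * g ∈ T₀ := fun t ht => by
      have := (Subgroup.mem_normalizer_iff.1 (inv_mem hg) t).1 ht
      rwa [inv_inv] at this
    rcases hcen (g * z * g⁻¹) ((Subgroup.mem_normalizer_iff.1 hg z).1 (hET₀ Φ.cfg.z_mem))
        (fun t ht => by
          have h := mem_centralizer_singleton_iff.1 (hT₀C (hm t ht))
          calc g * z * g⁻¹ * t = g * (z * (g⁻¹ * t * g)) * g⁻¹ := by group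
            _ = g * ((g⁻¹ * t * g) * z) * g⁻¹ := by rw [h]
            _ = t * (g * z * g⁻¹) := by group) with h | h
    · exact absurd (conj_eq_one_iff.1 h) Φ.cfg.z_ne
    · exact mem_centralizer_singleton_iff.2 (mul_inv_eq_iff_eq_mul.1 h)
  obtain ⟨T, hT⟩ := (IsPGroup.of_card (p := 2) (n := 8) (G := ↥T₀)
    (by rw [hcard]; norm_num)).exists_le_sylow
  have heq : (T : Subgroup G) = T₀ := by
    refine le_antisymm ?_ hT
    by_contra hne
    haveI : Group.IsNilpotent ↥(T : Subgroup G) := T.2.isNilpotent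
    have hlt : T₀.subgroupOf T < ⊤ := lt_top_iff_ne_top.2 fun h => hne (subgroupOf_eq_top.1 h)
    obtain ⟨x, hx, hx'⟩ := SetLike.exists_of_lt (Group.normalizerCondition_of_isNilpotent _ hlt)
    have hxN : (x : G) ∈ normalizer (T₀ : Set G) := by
      refine Subgroup.mem_normalizer_iff.2 fun t => ⟨fun ht => ?_, fun ht => ?_⟩
      · have := (Subgroup.mem_normalizer_iff.1 hx ⟨t, hT ht⟩).1 ht
        exact this
      · have htT : (x : G)⁻¹ * ((x : G) * t * (x : G)⁻¹) * x ∈ (T : Subgroup G) :=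
          mul_mem (mul_mem (inv_mem x.2) (hT ht)) x.2
        rw [show (x : G)⁻¹ * ((x : G) * t * (x : G)⁻¹) * x = t by group] at htT
        exact (Subgroup.mem_normalizer_iff.1 hx ⟨t, htT⟩).2 ht
    -- a 2-element of `C` normalising the Sylow subgroup of `C` lies in it
    refine hx' ?_
    have hxC : (x : G) ∈ C := hN hxN
    obtain ⟨k, hk⟩ := T.2 x
    have hk' : (⟨(x : G), hxC⟩ : ↥C) ^ 2 ^ k = 1 := Subtype.ext (congrArg Subtype.val hk :)
    have hmem := L34Sylow67.mem_of_normalizer P (x := ⟨(x : G), hxC⟩) (by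
      refine Subgroup.mem_normalizer_iff.2 fun t => ?_
      have := Subgroup.mem_normalizer_iff.1 hxN (t : G)
      simp only [hT₀, Subgroup.mem_map, coe_subtype] at this
      constructor
      · intro ht
        obtain ⟨a, ha, e⟩ := this.1 ⟨t, ht, rfl⟩
        rwa [show a = ⟨(x : G), hxC⟩ * t * ⟨(x : G), hxC⟩⁻¹ from Subtype.ext e] at ha
      · intro ht
        obtain ⟨a, ha, e⟩ := this.2 ⟨_, ht, rfl⟩
        rwa [show a = t from Subtype.ext e] at ha) hk'
    exact ⟨_, hmem, rfl⟩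
  exact ⟨T, heq ▸ hT₀C, heq ▸ hET₀, by rw [heq]; exact hcard⟩

/-- The centralizer is solvable. -/
theorem solvable_C : Group.IsSolvable ↥(centralizer ({z} : Set G)) := by
  haveI : Fact (Nat.Prime 2) := ⟨Nat.prime_two⟩
  haveI : Group.IsNilpotent ↥(E.subgroupOf (centralizer ({z} : Set G))) :=
    (Φ.isPGroup_E.of_equiv (subgroupOfEquivOfLe Φ.cfg.le).symm).isNilpotent
  haveI : Group.IsSolvable (Equiv.Perm (Fin 4)) := FpfLinear.Perfect.solvable_perm_le_four (by simp)
  refine Group.isSolvable_of_ker_le_range (E.subgroupOf (centralizer ({z} : Set G))).subtype Φ.actC ?_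
  intro c hc
  rw [MonoidHom.mem_ker, ← Φ.act_eq c.2] at hc
  rw [range_subtype]
  exact mem_subgroupOf.2 ((Φ.act_eq_one_iff c.2).1 hc)

/-- Only the identity of the odd core commutes with `z`. -/
theorem core_inf {g : G} (hg : g ∈ Cfsg.oddCore G) (hgC : g ∈ centralizer ({z} : Set G)) :
    g = 1 := by
  haveI : Fact (Nat.Prime 2) := ⟨Nat.prime_two⟩
  haveI hn : (Cfsg.oddCore G).Normal := Cfsg.pPrimeCore_normal 2 G
  have hodd : ∀ a ∈ Cfsg.oddCore G, a ∈ E → a = 1 := by
    intro a ha haE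
    obtain ⟨k, hk⟩ := IsPGroup.iff_orderOf.1 Φ.isPGroup_E ⟨a, haE⟩
    rw [Subgroup.orderOf_mk] at hk
    exact orderOf_eq_one_iff.1 (Nat.eq_one_of_dvd_coprimes
      (Nat.Coprime.pow_left k (Nat.coprime_two_left.2 ZStar.Elements.oddCore_odd)) (dvd_of_eq hk)
      (Subgroup.orderOf_dvd_natCard _ ha))
  refine hodd g hg (Φ.cfg.self g hgC fun x hx => ?_)
  have h1 : g * (x * g⁻¹ * x⁻¹) ∈ Cfsg.oddCore G := mul_mem hg (hn.conj_mem _ (inv_mem hg) x)
  have h2 : g * x * g⁻¹ * x⁻¹ ∈ E := mul_mem (Φ.cfg.conj g hgC x hx) (inv_mem hx)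
  have h3 := hodd _ (by simpa only [mul_assoc] using h1) h2
  exact mul_inv_eq_iff_eq_mul.1 (mul_inv_eq_one.1 h3)

theorem core_inverted {g : G} (hg : g ∈ Cfsg.oddCore G) : z * g * z⁻¹ = g⁻¹ := by
  haveI hn : (Cfsg.oddCore G).Normal := Cfsg.pPrimeCore_normal 2 G
  let φ : ↥(Cfsg.oddCore G) →* ↥(Cfsg.oddCore G) :=
    MonoidHom.mk' (fun x => ⟨z * x * z⁻¹, hn.conj_mem x x.2 z⟩)
      fun a b => Subtype.ext (conj_mul).symm
  have hφ : MonoidHom.FixedPointFree φ := fun x hx =>
    Subtype.ext (Φ.core_inf x.2 (mem_centralizer_singleton_iff.2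
      (mul_inv_eq_iff_eq_mul.1 (congrArg Subtype.val hx :)).symm))
  have hinv : Function.Involutive φ := fun x => Subtype.ext (by
    show z * (z * (x : G) * z⁻¹) * z⁻¹ = x
    rw [Φ.toQuad.z_inv, show z * (z * (x : G) * z) * z = z * z * x * (z * z) by group,
      Φ.cfg.z_mul, one_mul, mul_one])
  exact congrArg Subtype.val (congrFun (hφ.coe_eq_inv_of_involutive hinv) ⟨g, hg⟩) 

theorem core_comm {g h : G} (hg : g ∈ Cfsg.oddCore G) (hh : h ∈ Cfsg.oddCore G) :
    g * h = h * g := by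
  have e := Φ.core_inverted (mul_mem hg hh)
  rw [show z * (g * h) * z⁻¹ = z * g * z⁻¹ * (z * h * z⁻¹) by group, Φ.core_inverted hg,
    Φ.core_inverted hh, mul_inv_rev] at e
  have := congrArg (·⁻¹) e
  simpa using this.symm

variable (hns : ¬ Group.IsSolvable G)
include hns

/-- Without solvability `z` has another conjugate commuting with it. -/
theorem exists_conj_ne : ∃ g : G, g * z * g⁻¹ ∈ centralizer ({z} : Set G) ∧ g * z * g⁻¹ ≠ z := by
  haveI : Fact (Nat.Prime 2) := ⟨Nat.prime_two⟩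
  haveI hn : (Cfsg.oddCore G).Normal := Cfsg.pPrimeCore_normal 2 G
  by_contra hcon
  push Not at hcon
  obtain ⟨T, hTC, hET, -⟩ := Φ.exists_sylow
  obtain ⟨N, hN, hodd, hmem⟩ := ZStar.UniqueCase.zstar T z Φ.orderOf_z (hET Φ.cfg.z_mem)
    fun g hg => hcon g (hTC hg)
  haveI := hN
  set O := Cfsg.oddCore G with hO
  have hNO : N ≤ O := ZStar.Elements.le_oddCore hodd
  set f := (QuotientGroup.mk' O).comp (centralizer ({z} : Set G)).subtype with hf
  have hsurj : Function.Surjective f := by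
    intro q
    obtain ⟨g, rfl⟩ := QuotientGroup.mk'_surjective O q
    set o := z * g * z⁻¹ * g⁻¹ with ho
    have hoO : o ∈ O := hNO (hmem g)
    set r := o ^ ((Nat.card ↥O + 1) / 2) with hr
    have hrO : r ∈ O := pow_mem hoO _
    have hrr : r * r = o := by
      rw [hr, ← pow_add]
      obtain ⟨k, hk⟩ := (ZStar.Elements.oddCore_odd (G := G))
      have e : (Nat.card ↥O + 1) / 2 + (Nat.card ↥O + 1) / 2 = Nat.card ↥O + 1 := by
        rw [hO, hk]; omega
      rw [e, pow_succ, show o ^ Nat.card ↥O = 1 from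
        congrArg Subtype.val (pow_card_eq_one' (x := (⟨o, hoO⟩ : ↥O))), one_mul]
    refine ⟨⟨r * g, mem_centralizer_singleton_iff.2 ?_⟩, ?_⟩
    · refine ((mul_inv_eq_iff_eq_mul (b := z)).1 ?_).symm
      rw [show z * (r * g) * z⁻¹ = z * r * z⁻¹ * (o * g) by rw [ho]; group,
        Φ.core_inverted hrO, ← hrr]
      group
    · show QuotientGroup.mk' O (r * g) = QuotientGroup.mk' O g
      rw [map_mul, show QuotientGroup.mk' O r = 1 from (QuotientGroup.eq_one_iff r).2 hrO, one_mul]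
  haveI := Φ.solvable_C
  haveI : Group.IsSolvable (G ⧸ O) := Group.isSolvable_of_surjective hsurj
  haveI : Group.IsSolvable ↥O :=
    Group.isSolvable_of_comm fun a b => Subtype.ext (Φ.core_comm a.2 b.2)
  exact hns (Group.isSolvable_of_ker_le_range O.subtype (QuotientGroup.mk' O) (by simp))

/-- Without solvability the odd core is trivial. -/
theorem core_eq_bot : Cfsg.oddCore G = ⊥ := by
  haveI hn : (Cfsg.oddCore G).Normal := Cfsg.pPrimeCore_normal 2 G
  obtain ⟨g, hu, hne⟩ := Φ.exists_conj_ne hns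
  set u := g * z * g⁻¹ with hu'
  rw [eq_bot_iff]
  intro o ho
  rw [Subgroup.mem_bot]
  by_contra ho1
  set O := Cfsg.oddCore G with hO
  set K := centralizer (O : Set G) with hK
  have hzK : z ∉ K := fun h => ho1 (Φ.core_inf ho (mem_centralizer_singleton_iff.2
    (mem_centralizer_iff.1 h o ho)))
  have huinv : ∀ a ∈ O, u * a * u⁻¹ = a⁻¹ := by
    intro a ha
    have h := Φ.core_inverted (hn.conj_mem a ha g⁻¹)
    rw [inv_inv] at h
    calc u * a * u⁻¹ = g * (z * (g⁻¹ * a * g) * z⁻¹) * g⁻¹ := by rw [hu']; group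
      _ = g * (g⁻¹ * a * g)⁻¹ * g⁻¹ := by rw [h]
      _ = a⁻¹ := by group
  have huz : u * z ∈ K := mem_centralizer_iff.2 fun a ha => by
    refine ((mul_inv_eq_iff_eq_mul (b := u * z)).1 ?_).symm
    rw [show u * z * a * (u * z)⁻¹ = u * (z * a * z⁻¹) * u⁻¹ by group, Φ.core_inverted ha,
      huinv _ (inv_mem ha), inv_inv]
  have hD : ∀ x ∈ E, x ∈ K → x = 1 := by
    intro x hx hxK
    have hcon : ∀ i, x * Φ.p i = Φ.p i * x := by
      intro i
      rcases Φ.cfg.swap x hx _ (Φ.p_mem i) with h | h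
      · exact h
      · exfalso
        refine hzK ?_
        have e : z = x * (Φ.p i * x⁻¹ * (Φ.p i)⁻¹) := by
          rw [show x * (Φ.p i * x⁻¹ * (Φ.p i)⁻¹) = x * Φ.p i * (Φ.p i * x)⁻¹ by group, h,
            mul_inv_cancel_right]
        rw [e]
        exact mul_mem hxK ((normal_centralizer O).conj_mem _ (inv_mem hxK) _)
    exact (Φ.center_E hx hcon).resolve_right fun e => hzK (e ▸ hxK)
  have hKC : ∀ k ∈ K, k ∈ centralizer ({z} : Set G) → k = 1 := by
    intro k hk hkC
    refine hD k (Φ.cfg.self k hkC fun x hx => ?_) hk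
    have h1 : k * (x * k⁻¹ * x⁻¹) ∈ K := mul_mem hk ((normal_centralizer O).conj_mem _ (inv_mem hk) x)
    have h2 : k * x * k⁻¹ * x⁻¹ ∈ E := mul_mem (Φ.cfg.conj k hkC x hx) (inv_mem hx)
    have h3 := hD _ h2 (by simpa only [mul_assoc] using h1)
    exact mul_inv_eq_iff_eq_mul.1 (mul_inv_eq_one.1 h3)
  exact hne (by rw [eq_inv_of_mul_eq_one_left (hKC _ huz (mul_mem hu Φ.z_mem_C)), Φ.toQuad.z_inv])
where
  normal_centralizer (O : Subgroup G) [O.Normal] : (centralizer (O : Set G)).Normal := inferInstance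

end Mark

end Cfsg.Agent.Lib.Aut34Cent67
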