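import Cfsg.Agent.Lib.Aut34Cent67.Axis
import Cfsg.Agent.Lib.Coprime.Generation
import Mathlib.GroupTheory.GroupAction.Quotient
import Mathlib.GroupTheory.SpecificGroups.Cyclic

/-!
# A Sylow 3-subgroup of the normalizer of the four group

helper67.  It is elementary abelian of order 9, and two of its elements have centralizers of order
four in the subgroup of order 64, which is their product with the four group.
-/

set_option autoImplicit false
set_option linter.unusedSectionVars false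
set_option linter.style.haveILetI false

open Subgroup

namespace Cfsg.Agent.Lib.Aut34Cent67

universe u

/-- A group conjugating a set freely has order dividing its size. -/
theorem free_dvd {G : Type u} [Group G] [Finite G] (H : Subgroup G) (s : Set G)
    (hs : ∀ h ∈ H, ∀ x ∈ s, h * x * h⁻¹ ∈ s)
    (hfree : ∀ h ∈ H, ∀ x ∈ s, h * x = x * h → h = 1) : Nat.card ↥H ∣ Nat.card ↥s := by
  letI : MulAction ↥H ↥s :=
    { smul := fun h x => ⟨h * x * (h : G)⁻¹, hs h h.2 x x.2⟩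
      one_smul := fun x => Subtype.ext (show (1 : G) * x * (1 : G)⁻¹ = x by group)
      mul_smul := fun h k x => Subtype.ext (show ((h : G) * k) * x * ((h : G) * k)⁻¹ =
        h * (k * x * (k : G)⁻¹) * (h : G)⁻¹ by group) }
  have hstab : ∀ x : ↥s, MulAction.stabilizer ↥H x = ⊥ := fun x => by
    rw [eq_bot_iff]
    intro h hh
    have e : (h : G) * x * (h : G)⁻¹ = x := congrArg Subtype.val (MulAction.mem_stabilizer_iff.1 hh)
    exact Subtype.ext (hfree h h.2 x x.2 (mul_inv_eq_iff_eq_mul.1 e))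
  rw [Nat.card_congr (MulAction.selfEquivOrbitsQuotientProd hstab), Nat.card_prod]
  exact dvd_mul_left _ _

namespace Mark

variable {G : Type u} [Group G] [Finite G] {z : G} {E : Subgroup G} (Φ : Mark z E)

/-- Commutators of the subgroup of order 64 in `E`. -/
theorem comm_mem_E {a b : G} (ha : a ∈ Φ.R) (hb : b ∈ Φ.R) : a * b * a⁻¹ * b⁻¹ ∈ E := by
  have haC := Φ.K_le ha.1
  have hbC := Φ.K_le hb.1
  refine (Φ.act_eq_one_iff (mul_mem (mul_mem (mul_mem haC hbC) (inv_mem haC)) (inv_mem hbC))).1 ?_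
  rw [Φ.act_mul (mul_mem (mul_mem haC hbC) (inv_mem haC)) (inv_mem hbC),
    Φ.act_mul (mul_mem haC hbC) (inv_mem haC), Φ.act_mul haC hbC, Φ.act_inv haC, Φ.act_inv hbC]
  have h : Φ.act a * Φ.act b = Φ.act b * Φ.act a := by
    rcases ha.2 with h | h
    · rw [h, one_mul, mul_one]
    · rcases hb.2 with h' | h'
      · rw [h', one_mul, mul_one]
      · exact dt_comm _ _ h h'
  rw [h, mul_inv_cancel_right, mul_inv_cancel]

/-- `z` is a commutator of two elements of `E ∩ K`. -/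
theorem exists_comm_z : ∃ a b : G, (a ∈ E ∧ a ∈ Φ.R) ∧ (b ∈ E ∧ b ∈ Φ.R) ∧
    a * b * a⁻¹ * b⁻¹ = z := by
  obtain ⟨a, b, ha, hb, hab⟩ := exists_wt_pair
  have hR : ∀ w : V, wt w = 0 → Φ.lift w ∈ Φ.R := fun w hw =>
    ⟨(Φ.E_inf_K (Φ.lift_mem w)).2 (by rw [Φ.v_lift, hw]), Or.inl (Φ.act_of_mem (Φ.lift_mem w))⟩
  refine ⟨Φ.lift a, Φ.lift b, ⟨Φ.lift_mem _, hR a ha⟩, ⟨Φ.lift_mem _, hR b hb⟩, ?_⟩
  rw [Φ.mul_swap (Φ.lift_mem a) (Φ.lift_mem b), Φ.v_lift, Φ.v_lift, hab, Φ.ζ_one]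
  group

theorem exists_pi : ∃ π₀ ∈ Φ.K, orderOf π₀ = 3 := by
  haveI : Fact (Nat.Prime 3) := ⟨Nat.prime_three⟩
  obtain ⟨x, hx⟩ := exists_prime_orderOf_dvd_card' (G := ↥Φ.K) 3 (by rw [Φ.card_K]; norm_num)
  exact ⟨x, x.2, by rw [Subgroup.orderOf_coe, hx]⟩

theorem cube {π₀ : G} (ho : orderOf π₀ = 3) : π₀ * π₀ * π₀ = 1 := by
  rw [← pow_orderOf_eq_one π₀, ho, pow_succ, pow_two]

theorem fixed_pi {π₀ x : G} (hπ : π₀ ∈ Φ.K) (ho : orderOf π₀ = 3) (hx : x ∈ Φ.R)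
    (hc : π₀ * x = x * π₀) : x ∈ Φ.W := by
  have hπC := Φ.K_le hπ
  have hxC := Φ.K_le hx.1
  have h3 : Φ.act π₀ * Φ.act π₀ * Φ.act π₀ = 1 := by
    rw [← Φ.act_mul hπC hπC, ← Φ.act_mul (mul_mem hπC hπC) hπC, cube ho, act_one]
  have hne : Φ.act π₀ ≠ 1 := fun h => by
    obtain ⟨k, hk⟩ := IsPGroup.iff_orderOf.1 Φ.isPGroup_E ⟨π₀, (Φ.act_eq_one_iff hπC).1 h⟩
    rw [Subgroup.orderOf_mk, ho] at hk
    rcases k with _ | k
    · norm_num at hk
    · omega
  have hxE : x ∈ E := by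
    refine (Φ.act_eq_one_iff hxC).1 ?_
    rcases hx.2 with h | h
    · exact h
    · exact absurd (by rw [← Φ.act_mul hπC hxC, ← Φ.act_mul hxC hπC, hc]) (dt_three _ _ h3 hne h)
  exact ⟨hxE, fixed_three _ _ h3 hne
    (by rw [← Φ.v_conj' hπC hxE, hc, mul_inv_cancel_right]) ((Φ.E_inf_K hxE).1 hx.1)⟩

/-- Conjugation by `π₀` fixes no coset of the four group outside it. -/
theorem fixed_coset {π₀ x : G} (hπ : π₀ ∈ Φ.K) (ho : orderOf π₀ = 3) (hx : x ∈ Φ.R)
    (hc : x⁻¹ * (π₀ * x * π₀⁻¹) ∈ Φ.W) : x ∈ Φ.W := by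
  set w := x⁻¹ * (π₀ * x * π₀⁻¹) with hw
  have h1 : π₀ * x * π₀⁻¹ = x * w := by rw [hw, mul_inv_cancel_left]
  have h2 : π₀ * w * π₀⁻¹ = w := by rw [Φ.K_comm hπ hc, mul_inv_cancel_right]
  have h3 : x = x * (w * w * w) := by
    calc x = π₀ * π₀ * π₀ * x * (π₀ * π₀ * π₀)⁻¹ := by rw [cube ho]; group
      _ = π₀ * (π₀ * (π₀ * x * π₀⁻¹) * π₀⁻¹) * π₀⁻¹ := by group
      _ = π₀ * (π₀ * (x * w) * π₀⁻¹) * π₀⁻¹ := by rw [h1]
      _ = π₀ * (π₀ * x * π₀⁻¹ * (π₀ * w * π₀⁻¹)) * π₀⁻¹ := by group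
      _ = π₀ * (x * (w * w)) * π₀⁻¹ := by rw [h1, h2]; simp only [mul_assoc]
      _ = π₀ * x * π₀⁻¹ * ((π₀ * w * π₀⁻¹) * (π₀ * w * π₀⁻¹)) := by group
      _ = x * (w * w * w) := by rw [h1, h2]; group
  rw [Φ.sq_W hc, one_mul] at h3
  rw [mul_left_cancel (show x * w = x * 1 by rw [mul_one]; exact h3.symm), mul_one] at h1
  exact Φ.fixed_pi hπ ho hx (mul_inv_eq_iff_eq_mul.1 h1)

/-- The elementary abelian Sylow 3-subgroup. -/
structure Torus (π₀ : G) where
  P : Subgroup G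
  le : P ≤ normalizer (Φ.W : Set G)
  card : Nat.card ↥P = 9
  pi_mem : π₀ ∈ P
  pi_K : π₀ ∈ Φ.K
  pi_order : orderOf π₀ = 3
  comm : ∀ a ∈ P, ∀ b ∈ P, a * b = b * a
  exp : ∀ a ∈ P, a * a * a = 1

variable (hns : ¬ Group.IsSolvable G)
include hns

theorem exists_torus : ∃ π₀ : G, Nonempty (Torus Φ π₀) := by
  haveI : Fact (Nat.Prime 3) := ⟨Nat.prime_three⟩
  classical
  obtain ⟨π₀, hπ, ho⟩ := Φ.exists_pi
  set N := normalizer (Φ.W : Set G) with hN
  have hπN : π₀ ∈ N := Φ.C_le_normalizer (Φ.K_le hπ)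
  obtain ⟨Q, hQ⟩ := (IsPGroup.of_card (p := 3) (n := 1) (G := ↥(zpowers π₀))
    (by rw [Nat.card_zpowers, ho, pow_one]) |>.of_equiv
    (subgroupOfEquivOfLe (zpowers_le.2 hπN)).symm).exists_le_sylow
  set P : Subgroup G := (Q : Subgroup ↥N).map N.subtype with hP
  have hPN : P ≤ N := map_subtype_le _
  have hπP : π₀ ∈ P := ⟨⟨π₀, hπN⟩, hQ (mem_zpowers π₀), rfl⟩
  have hcard : Nat.card ↥P = 9 := by
    rw [hP, card_map_of_injective N.subtype_injective, Q.card_eq_multiplicity,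
      Φ.card_normalizer hns, show (2304 : ℕ) = 3 ^ 2 * 2 ^ 8 from rfl,
      Nat.factorization_mul (by norm_num) (by norm_num), Nat.Prime.factorization_pow Nat.prime_three,
      Nat.Prime.factorization_pow Nat.prime_two]
    simp
  have hcomm : ∀ a ∈ P, ∀ b ∈ P, a * b = b * a := fun a ha b hb =>
    congrArg Subtype.val ((IsPGroup.isMulCommutative_of_card_eq_prime_sq (p := 3)
      (by rw [hcard]; norm_num)).is_comm.comm (⟨a, ha⟩ : ↥P) ⟨b, hb⟩)
  refine ⟨π₀, ⟨⟨P, hPN, hcard, hπP, hπ, ho, hcomm, fun a ha => ?_⟩⟩⟩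
  by_contra hne
  have hdvd : orderOf a ∣ 9 := hcard ▸ Subgroup.orderOf_dvd_natCard P ha
  obtain ⟨j, hj, hja⟩ := (Nat.dvd_prime_pow Nat.prime_three).1 (show orderOf a ∣ 3 ^ 2 from hdvd)
  have ha9 : orderOf a = 9 := by
    interval_cases j
    · exact absurd (by rw [orderOf_eq_one_iff.1 hja]; group) hne
    · exact absurd (by rw [← pow_orderOf_eq_one a, hja]; norm_num; rw [pow_succ, pow_two]) hne
    · exact hja
  -- then `⟨a⟩ = P` acts freely outside the four group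
  have hgen : zpowers a = P := Subgroup.eq_of_le_of_card_ge (zpowers_le.2 ha)
    (by rw [Nat.card_zpowers, ha9, hcard])
  have hsmall : ∀ y ∈ P, y * y * y = 1 → y ≠ 1 → y = a ^ 3 ∨ y = a ^ 6 := by
    intro y hy h3 h1
    rw [← hgen, ← mem_powers_iff_mem_zpowers, IsOfFinOrder.mem_powers_iff_mem_range_orderOf
      (isOfFinOrder_of_finite a), ha9] at hy
    obtain ⟨i, hi, rfl⟩ := Finset.mem_image.1 hy
    rw [← pow_add, ← pow_add, ← orderOf_dvd_iff_pow_eq_one, ha9] at h3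
    rw [Finset.mem_range] at hi
    interval_cases i <;>
      first | omega | exact Or.inl rfl | exact Or.inr rfl | exact absurd (pow_zero a) h1
  have hπ3 := cube ho
  have hπ1 : π₀ ≠ 1 := fun e => by rw [e, orderOf_one] at ho; norm_num at ho
  set s : Set G := {x | x ∈ Φ.R ∧ x ∉ Φ.W} with hs
  have hfree : ∀ h ∈ P, ∀ x ∈ s, h * x = x * h → h = 1 := by
    intro h hh x hx hc
    by_contra h1
    -- a power of `h` is `π₀` or its inverse
    obtain ⟨y, hy, hy3, hy1, hyc⟩ : ∃ y ∈ P, y * y * y = 1 ∧ y ≠ 1 ∧ y * x = x * y := by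
      by_cases h3 : h * h * h = 1
      · exact ⟨h, hh, h3, h1, hc⟩
      · refine ⟨h * h * h, mul_mem (mul_mem hh hh) hh, ?_, h3,
          ((Commute.mul_left hc hc).mul_left hc :)⟩
        have h9 : h ^ 9 = 1 := by
          rw [← hcard]; exact congrArg Subtype.val (pow_card_eq_one' (x := (⟨h, hh⟩ : ↥P)))
        rw [← h9]
        simp only [pow_succ, pow_zero, one_mul, mul_assoc]
    have hxc : π₀ * x = x * π₀ := by
      have a6 : a ^ 6 = a ^ 3 * a ^ 3 := by rw [← pow_add]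
      have a3 : a ^ 3 = a ^ 6 * a ^ 6 := by
        rw [← pow_add, show 6 + 6 = 9 + 3 from rfl, pow_add, ← ha9, pow_orderOf_eq_one, one_mul]
      rcases hsmall _ hπP hπ3 hπ1 with e | e <;> rcases hsmall _ hy hy3 hy1 with e' | e'
      · rw [e, ← e']; exact hyc
      · rw [e, a3, ← e']; exact Commute.mul_left hyc hyc
      · rw [e, a6, ← e']; exact Commute.mul_left hyc hyc
      · rw [e, ← e']; exact hyc
    exact hx.2 (Φ.fixed_pi hπ ho hx.1 hxc)
  have hinv : ∀ h ∈ P, ∀ x ∈ s, h * x * h⁻¹ ∈ s := fun h hh x hx =>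
    ⟨Φ.conj_R (hPN hh) hx.1, fun hw => hx.2 (by
      have := (Subgroup.mem_normalizer_iff.1 (inv_mem (hPN hh)) _).1 hw
      simpa [mul_assoc] using this)⟩
  have hscard : Nat.card ↥s = 60 := by
    have e1 : s = (Φ.R : Set G) \ (Φ.W : Set G) := rfl
    rw [Nat.card_coe_set_eq, e1, Set.ncard_sdiff Φ.W_le_R, ← Nat.card_coe_set_eq,
      ← Nat.card_coe_set_eq]
    simp only [SetLike.coe_sort_coe, Φ.card_R, Φ.card_W]
  have := free_dvd P s hinv hfree
  rw [hcard, hscard] at this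
  omega

omit hns

namespace Torus

variable {Φ} {π₀ : G} (T : Torus Φ π₀)

theorem isMulCommutative : IsMulCommutative ↥T.P :=
  ⟨⟨fun a b => Subtype.ext (T.comm a a.2 b b.2)⟩⟩

theorem not_isCyclic : ¬ IsCyclic ↥T.P := by
  intro h
  obtain ⟨g, hg⟩ := IsCyclic.exists_generator (α := ↥T.P)
  have := orderOf_eq_card_of_forall_mem_zpowers hg
  rw [T.card, ← Subgroup.orderOf_coe] at this
  have h3 : orderOf (g : G) ∣ 3 := orderOf_dvd_of_pow_eq_one (by
    rw [pow_succ, pow_two]; exact T.exp _ g.2)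
  rw [this] at h3
  norm_num at h3

theorem conj_R {p : G} (hp : p ∈ T.P) {x : G} (hx : x ∈ Φ.R) : p * x * p⁻¹ ∈ Φ.R :=
  Φ.conj_R (T.le hp) hx

theorem conj_W {p : G} (hp : p ∈ T.P) {x : G} (hx : x ∈ Φ.W) : p * x * p⁻¹ ∈ Φ.W :=
  (Subgroup.mem_normalizer_iff.1 (T.le hp) x).1 hx

/-- An element outside `K` fixes no involution of the four group. -/
theorem move_W {p : G} (hp : p ∈ T.P) (hpK : p ∉ Φ.K) {w : G} (hw : w ∈ Φ.W)
    (hc : p * w = w * p) : w = 1 := by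
  by_contra hw1
  have h3 := T.exp p hp
  obtain ⟨w', hw', hne1, hne⟩ : ∃ w' ∈ Φ.W, w' ≠ 1 ∧ w' ≠ w := by
    by_cases e : w = z
    · exact ⟨Φ.e, Φ.e_mem_W, Φ.e_ne_one, fun h => Φ.e_ne_z (h.trans e)⟩
    · exact ⟨z, Φ.z_mem_W, Φ.cfg.z_ne, Ne.symm e⟩
  have hmemW : ∀ x ∈ Φ.W, x = 1 ∨ x = w ∨ x = w' ∨ x = w * w' := by
    classical
    haveI := Fintype.ofFinite G
    have hd : w * w' ≠ 1 := fun e => hne (by
      rw [eq_inv_of_mul_eq_one_right e, inv_eq_of_mul_eq_one_right (Φ.sq_W hw)])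
    have hset : ({1, w, w', w * w'} : Finset G) = Finset.univ.filter (fun g => g ∈ Φ.W) := by
      refine Finset.eq_of_subset_of_card_le ?_ ?_
      · intro g hg
        simp only [Finset.mem_insert, Finset.mem_singleton] at hg
        rcases hg with rfl | rfl | rfl | rfl <;> simp [hw, hw', mul_mem hw hw']
      · rw [← Fintype.card_subtype, ← Nat.card_eq_fintype_card, Φ.card_W]
        simp [Ne.symm hw1, hne1.symm, hne.symm, hd.symm, hw1, hne1]
    intro x hx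
    have hm : x ∈ ({1, w, w', w * w'} : Finset G) := by rw [hset]; simpa using hx
    simpa using hm
  have hfix : p * w' * p⁻¹ = w' := by
    have hcw : p * w * p⁻¹ = w := by rw [hc, mul_inv_cancel_right]
    rcases hmemW _ (T.conj_W hp hw') with e | e | e | e
    · exact absurd (conj_eq_one_iff.1 e) hne1
    · exact absurd ((MulAut.conj p).injective (e.trans hcw.symm)) hne
    · exact e
    · have hWw : p * w' * p⁻¹ * w = w * (p * w' * p⁻¹) :=
        Φ.K_comm (Φ.W_le_K (T.conj_W hp hw')) hw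
      have e2 : p * (p * w' * p⁻¹) * p⁻¹ = w' := by
        rw [e, show p * (w * w') * p⁻¹ = p * w * p⁻¹ * (p * w' * p⁻¹) by group, hcw, e,
          ← mul_assoc, Φ.sq_W hw, one_mul]
      have h4 : p * w' * p⁻¹ = w' := by
        calc p * w' * p⁻¹ = p * (p * p * p) * w' * (p * p * p)⁻¹ * p⁻¹ := by rw [h3]; group
          _ = p * (p * (p * (p * w' * p⁻¹) * p⁻¹) * p⁻¹) * p⁻¹ := by group
          _ = w' := by rw [e2, e2]
      exact h4
  have hcomm : ∀ x ∈ Φ.W, p * x = x * p := by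
    intro x hx
    rcases hmemW x hx with e | e | e | e <;> rw [e]
    · simp
    · exact hc
    · exact mul_inv_eq_iff_eq_mul.1 hfix
    · exact Commute.mul_right hc (mul_inv_eq_iff_eq_mul.1 hfix)
  exact hpK (Φ.mem_K.2 ⟨hcomm _ Φ.z_mem_W, hcomm _ Φ.e_mem_W⟩)

/-- The centralizer of an element of the torus in the subgroup of order 64. -/
def X (_T : Torus Φ π₀) (p : G) : Subgroup G := Φ.R ⊓ centralizer ({p} : Set G)

theorem mem_X {p x : G} : x ∈ T.X p ↔ x ∈ Φ.R ∧ x * p = p * x := by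
  rw [X, mem_inf, mem_centralizer_singleton_iff]

variable {p : G} (hp : p ∈ T.P) (hpK : p ∉ Φ.K)
include hp hpK

theorem X_inf_W {x : G} (hx : x ∈ T.X p) (hxW : x ∈ Φ.W) : x = 1 :=
  T.move_W hp hpK hxW ((T.mem_X.1 hx).2).symm

theorem conj_X {q : G} (hq : q ∈ T.P) {x : G} (hx : x ∈ T.X p) : q * x * q⁻¹ ∈ T.X p := by
  obtain ⟨hxR, hxp⟩ := T.mem_X.1 hx
  refine T.mem_X.2 ⟨T.conj_R hq hxR, ?_⟩
  calc q * x * q⁻¹ * p = q * x * (q⁻¹ * p) := by group
    _ = q * x * (p * q⁻¹) := by rw [T.comm _ (inv_mem hq) _ hp]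
    _ = q * (p * x) * q⁻¹ := by rw [← hxp]; group
    _ = q * p * x * q⁻¹ := by group
    _ = p * (q * x * q⁻¹) := by rw [T.comm _ hq _ hp]; group

theorem pi_moves {x : G} (hx : x ∈ T.X p) (hx1 : x ≠ 1) : π₀ * x * π₀⁻¹ ≠ x := fun h =>
  hx1 (T.X_inf_W hp hpK hx (Φ.fixed_pi T.pi_K T.pi_order (T.mem_X.1 hx).1
    (mul_inv_eq_iff_eq_mul.1 h)))

theorem card_X_mod : Nat.card ↥(T.X p) % 3 = 1 := by
  set s : Set G := (T.X p : Set G) \ {1} with hs
  have hz : zpowers π₀ ≤ T.P := zpowers_le.2 T.pi_mem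
  have hdvd : Nat.card ↥(zpowers π₀) ∣ Nat.card ↥s := by
    refine free_dvd _ s (fun h hh x hx => ⟨T.conj_X hp hpK (hz hh) hx.1, fun e =>
      hx.2 (conj_eq_one_iff.1 e)⟩) fun h hh x hx hc => ?_
    by_contra h1
    have hmem : h ∈ Submonoid.powers π₀ := mem_powers_iff_mem_zpowers.2 hh
    obtain ⟨i, rfl⟩ := hmem
    have hc3 : π₀ * x = x * π₀ := by
      have h3 : π₀ ^ 3 = 1 := T.pi_order ▸ pow_orderOf_eq_one π₀
      simp only at hc h1
      rw [show π₀ ^ i = π₀ ^ (i % 3) from pow_eq_pow_mod i h3] at hc h1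
      have : i % 3 < 3 := Nat.mod_lt _ (by norm_num)
      interval_cases (i % 3)
      · exact absurd (pow_zero π₀) h1
      · rwa [pow_one] at hc
      · have hπ : π₀ = π₀ ^ 2 * π₀ ^ 2 := by
          rw [← pow_add, show 2 + 2 = 3 + 1 from rfl, pow_succ, h3, one_mul]
        rw [hπ]
        exact Commute.mul_left hc hc
    exact T.pi_moves hp hpK hx.1 hx.2 (by rw [hc3, mul_inv_cancel_right])
  have hsc : Nat.card ↥s = Nat.card ↥(T.X p) - 1 := by
    rw [Nat.card_coe_set_eq, hs, Set.ncard_sdiff (Set.singleton_subset_iff.2 (one_mem (T.X p))),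
      Set.ncard_singleton, ← Nat.card_coe_set_eq]
    rfl
  rw [Nat.card_zpowers, T.pi_order, hsc] at hdvd
  have := Nat.card_pos (α := ↥(T.X p))
  omega

theorem card_X : Nat.card ↥(T.X p) = 1 ∨ Nat.card ↥(T.X p) = 4 := by
  classical
  have hle : T.X p ≤ Φ.R := inf_le_left
  have hd : Nat.card ↥(T.X p) ∣ 64 := Φ.card_R ▸ Subgroup.card_dvd_of_le hle
  let f : ↥(T.X p) × ↥Φ.W → ↥Φ.R := fun a => ⟨a.1 * a.2, mul_mem (hle a.1.2) (Φ.W_le_R a.2.2)⟩
  have hf : Function.Injective f := by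
    rintro ⟨x, w⟩ ⟨x', w'⟩ e
    have e' : (x : G) * w = x' * w' := congrArg Subtype.val e
    have h1 : (x' : G)⁻¹ * x = w' * (w : G)⁻¹ := by
      rw [eq_mul_inv_iff_mul_eq, mul_assoc, e', inv_mul_cancel_left]
    have h2 := T.X_inf_W hp hpK (mul_mem (inv_mem x'.2) x.2) (h1 ▸ mul_mem w'.2 (inv_mem w.2))
    obtain rfl : x' = x := Subtype.ext (inv_mul_eq_one.1 h2)
    exact Prod.ext rfl (Subtype.ext (mul_left_cancel e'))
  have h16 : Nat.card ↥(T.X p) ≤ 16 := by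
    have := Nat.card_le_card_of_injective f hf
    rw [Nat.card_prod, Φ.card_W, Φ.card_R] at this
    omega
  have hmod := T.card_X_mod hp hpK
  obtain ⟨k, hk, hk'⟩ := (Nat.dvd_prime_pow Nat.prime_two).1 (show _ ∣ 2 ^ 6 from hd)
  rw [hk'] at h16 hmod ⊢
  have hk4 : k ≠ 4 := by
    rintro rfl
    have hb := hf.bijective_of_nat_card_le (by rw [Nat.card_prod, Φ.card_W, Φ.card_R, hk']; norm_num)
    obtain ⟨a, b, ⟨-, ha⟩, ⟨-, hb'⟩, hab⟩ := Φ.exists_comm_z
    obtain ⟨⟨x, w⟩, hxw⟩ := hb.2 ⟨a, ha⟩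
    obtain ⟨⟨x', w'⟩, hxw'⟩ := hb.2 ⟨b, hb'⟩
    have e1 : (x : G) * w = a := congrArg Subtype.val hxw
    have e2 : (x' : G) * w' = b := congrArg Subtype.val hxw'
    have c1 : Commute (w : G) (x' : G) := (Φ.K_comm (Φ.R_le_K (hle x'.2)) w.2).symm
    have c2 : Commute (w' : G) (x : G) := (Φ.K_comm (Φ.R_le_K (hle x.2)) w'.2).symm
    have c3 : Commute (w' : G) (w : G) := Φ.K_comm (Φ.W_le_K w'.2) w.2
    have e3 : z = (x : G) * x' * (x : G)⁻¹ * (x' : G)⁻¹ := by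
      calc z = a * b * a⁻¹ * b⁻¹ := hab.symm
        _ = (x : G) * w * (x' * w') * (x * w : G)⁻¹ * (x' * w' : G)⁻¹ := by rw [e1, e2]
        _ = x * ((w : G) * x') * (w' * (w : G)⁻¹) * (x : G)⁻¹ * (w' : G)⁻¹ * (x' : G)⁻¹ := by group
        _ = x * x' * ((w : G) * (w : G)⁻¹) * ((w' : G) * (x : G)⁻¹) * (w' : G)⁻¹ * (x' : G)⁻¹ := by
            rw [c1.eq, c3.inv_right.eq]; group
        _ = _ := by rw [c2.inv_right.eq]; group
    refine Φ.cfg.z_ne (T.X_inf_W hp hpK ?_ Φ.z_mem_W)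
    refine (congrArg (· ∈ T.X p) e3).mpr ?_
    exact mul_mem (mul_mem (mul_mem x.2 x'.2) (inv_mem x.2)) (inv_mem x'.2)
  have hk6 : k ≤ 4 := by
    by_contra h
    have := Nat.pow_le_pow_right (show 0 < 2 by norm_num) (show 5 ≤ k by omega)
    omega
  interval_cases k <;> simp_all

/-- The three involutions of a centralizer of order four. -/
theorem X_structure (h4 : Nat.card ↥(T.X p) = 4) {x : G} (hx : x ∈ T.X p) (hx1 : x ≠ 1) :
    x * x = 1 ∧ π₀ * (π₀ * x * π₀⁻¹) * π₀⁻¹ = x * (π₀ * x * π₀⁻¹) ∧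
      ∀ y ∈ T.X p, y = 1 ∨ y = x ∨ y = π₀ * x * π₀⁻¹ ∨ y = x * (π₀ * x * π₀⁻¹) := by
  classical
  haveI := Fintype.ofFinite G
  haveI : Fact (Nat.Prime 2) := ⟨Nat.prime_two⟩
  set y := π₀ * x * π₀⁻¹ with hy
  set y' := π₀ * y * π₀⁻¹ with hy'
  have hy3 : π₀ * y' * π₀⁻¹ = x := by
    calc π₀ * y' * π₀⁻¹ = π₀ * π₀ * π₀ * x * (π₀ * π₀ * π₀)⁻¹ := by rw [hy', hy]; group
      _ = x := by rw [cube T.pi_order]; group
  have hyX : y ∈ T.X p := T.conj_X hp hpK T.pi_mem hx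
  have hy'X : y' ∈ T.X p := T.conj_X hp hpK T.pi_mem hyX
  have hne1 : y ≠ x := T.pi_moves hp hpK hx hx1
  have hy1 : y ≠ 1 := fun e => hx1 (conj_eq_one_iff.1 e)
  have hy'1 : y' ≠ 1 := fun e => hy1 (conj_eq_one_iff.1 e)
  have hne2 : y' ≠ y := T.pi_moves hp hpK hyX hy1
  have hne3 : y' ≠ x := fun e => T.pi_moves hp hpK hy'X hy'1 (hy3.trans e.symm)
  have hset : ({1, x, y, y'} : Finset G) = Finset.univ.filter (fun g => g ∈ T.X p) := by
    refine Finset.eq_of_subset_of_card_le ?_ ?_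
    · intro g hg
      simp only [Finset.mem_insert, Finset.mem_singleton] at hg
      rcases hg with rfl | rfl | rfl | rfl <;> simp [hx, hyX, hy'X]
    · rw [← Fintype.card_subtype, ← Nat.card_eq_fintype_card, h4]
      simp [hx1.symm, hy1.symm, hy'1.symm, hne1.symm, hne2.symm, hne3.symm]
  have hall : ∀ g ∈ T.X p, g = 1 ∨ g = x ∨ g = y ∨ g = y' := by
    intro g hg
    have hm : g ∈ ({1, x, y, y'} : Finset G) := by rw [hset]; simpa using hg
    simpa using hm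
  have hsq : x * x = 1 := by
    obtain ⟨g, hg⟩ := exists_prime_orderOf_dvd_card' (G := ↥(T.X p)) 2 (by rw [h4]; norm_num)
    have hg2 : (g : G) * g = 1 := by
      rw [← sq, ← Subgroup.coe_pow, ← hg, pow_orderOf_eq_one, coe_one]
    have hcj : ∀ a b : G, a * a = 1 → b * a * b⁻¹ * (b * a * b⁻¹) = 1 := fun a b ha => by
      rw [show b * a * b⁻¹ * (b * a * b⁻¹) = b * (a * a) * b⁻¹ by group, ha]; group
    rcases hall g g.2 with e | e | e | e
    · rw [show g = 1 from Subtype.ext e, orderOf_one] at hg; norm_num at hg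
    · exact e ▸ hg2
    · rw [← hy3]; exact hcj _ _ (hcj _ _ (e ▸ hg2))
    · rw [← hy3]; exact hcj _ _ (e ▸ hg2)
  have hxy : x * y = y' := by
    rcases hall _ (mul_mem hx hyX) with e | e | e | e
    · exact absurd (mul_left_cancel (e.trans hsq.symm)) hne1
    · exact absurd (mul_eq_left.1 e) hy1
    · exact absurd (mul_eq_right.1 e) hx1
    · exact e
  refine ⟨hsq, hxy.symm, fun g hg => ?_⟩
  rcases hall g hg with e | e | e | e
  · exact Or.inl e
  · exact Or.inr (Or.inl e)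
  · exact Or.inr (Or.inr (Or.inl e))
  · exact Or.inr (Or.inr (Or.inr (e.trans hxy.symm)))

omit hp hpK

/-- Two elements with different nontrivial centralizers. -/
theorem exists_two : ∃ p ∈ T.P, ∃ q ∈ T.P, p ∉ Φ.K ∧ q ∉ Φ.K ∧ Nat.card ↥(T.X p) = 4 ∧
    Nat.card ↥(T.X q) = 4 ∧ ∀ x ∈ T.X p, x ∈ T.X q → x = 1 := by
  classical
  haveI := T.isMulCommutative
  have hN : T.P ≤ normalizer (Φ.R : Set G) := fun p hp =>
    Subgroup.mem_normalizer_iff.2 fun x => ⟨fun hx => T.conj_R hp hx, fun hx => by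
      have := T.conj_R (inv_mem hp) hx
      simpa [mul_assoc] using this⟩
  have hgen := Coprime.iSup_centralizer_eq T.not_isCyclic hN (by
    rw [T.card, Φ.card_R]; norm_num)
  have hdisj : ∀ p ∈ T.P, ∀ q ∈ T.P, p ∉ Φ.K → q ∉ Φ.K → Nat.card ↥(T.X p) = 4 →
      Nat.card ↥(T.X q) = 4 → ∀ x ∈ T.X p, x ∈ T.X q → x ≠ 1 → T.X p = T.X q := by
    intro p hp q hq hpK hqK h4 h4' x hx hx' hx1
    refine Subgroup.eq_of_le_of_card_ge (fun g hg => ?_) (by rw [h4, h4'])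
    obtain ⟨-, -, hall⟩ := T.X_structure hp hpK h4 hx hx1
    have hy := T.conj_X hq hqK T.pi_mem hx'
    rcases hall g hg with rfl | rfl | rfl | rfl
    exacts [one_mem _, hx', hy, mul_mem hx' hy]
  have hall : ∀ a : G, a ∈ T.P → a ≠ 1 → a ∈ Φ.K → Φ.R ⊓ centralizer {a} ≤ Φ.W := by
    intro a ha ha1 haK x hx
    obtain ⟨hxR, hxc⟩ := mem_inf.1 hx
    rw [mem_centralizer_singleton_iff] at hxc
    have ho : orderOf a = 3 := by
      haveI : Fact (Nat.Prime 3) := ⟨Nat.prime_three⟩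
      exact orderOf_eq_prime (by rw [pow_succ, pow_two]; exact T.exp a ha) ha1
    exact Φ.fixed_pi haK ho hxR hxc.symm
  by_contra hcon
  push Not at hcon
  -- all centralizers lie in a product of order at most 16
  by_cases hex : ∃ p ∈ T.P, p ∉ Φ.K ∧ Nat.card ↥(T.X p) = 4
  · obtain ⟨p, hp, hpK, h4⟩ := hex
    have hWX : T.X p ≤ centralizer (Φ.W : Set G) := fun x hx => mem_centralizer_iff.2 fun w hw =>
      (Φ.K_comm (Φ.R_le_K (T.mem_X.1 hx).1) hw).symm
    let m : ↥(T.X p) × ↥Φ.W →* G :=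
      MonoidHom.noncommCoprod (T.X p).subtype Φ.W.subtype fun x w =>
        (mem_centralizer_iff.1 (hWX x.2) w w.2).symm
    have hle : Φ.R ≤ m.range := by
      rw [← hgen]
      refine iSup₂_le fun a ⟨ha, ha1⟩ => ?_
      by_cases haK : a ∈ Φ.K
      · exact fun x hx => ⟨(1, ⟨x, hall a ha ha1 haK hx⟩), one_mul x⟩
      rcases T.card_X ha haK with h | h
      · intro x hx
        have : x = 1 := by
          have hbot := Subgroup.eq_bot_of_card_eq _ h
          exact (Subgroup.mem_bot).1 (hbot ▸ (show x ∈ T.X a from hx))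
        rw [this]; exact one_mem _
      · obtain ⟨x₀, hx₀, hx₀', hx₀1⟩ := hcon p hp a ha hpK haK h4 h
        intro x hx
        rw [show Φ.R ⊓ centralizer {a} = T.X a from rfl,
          ← hdisj p hp a ha hpK haK h4 h x₀ hx₀ hx₀' hx₀1] at hx
        exact ⟨(⟨x, hx⟩, 1), mul_one x⟩
    have := Subgroup.card_le_of_le hle
    rw [Φ.card_R] at this
    have h2 : Nat.card ↥m.range ≤ 16 := by
      refine (Nat.card_le_card_of_surjective _ m.rangeRestrict_surjective).trans ?_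
      rw [Nat.card_prod, h4, Φ.card_W]
    omega
  · push Not at hex
    have hle : Φ.R ≤ Φ.W := by
      rw [← hgen]
      refine iSup₂_le fun a ⟨ha, ha1⟩ => ?_
      by_cases haK : a ∈ Φ.K
      · exact hall a ha ha1 haK
      intro x hx
      have := (T.card_X ha haK).resolve_right (hex a ha haK)
      have hbot := Subgroup.eq_bot_of_card_eq _ this
      have hx1 : x = 1 := Subgroup.mem_bot.1 (hbot ▸ (show x ∈ T.X a from hx))
      rw [hx1]
      exact one_mem _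
    have := Subgroup.card_le_of_le hle
    rw [Φ.card_R, Φ.card_W] at this
    omega

end Torus

end Mark

end Cfsg.Agent.Lib.Aut34Cent67
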