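import Cfsg.Agent.Lib.Aut34Cent67.Classes
import Cfsg.Agent.Lib.Fusion.Thompson

/-!
# The normal subgroup of index four

helper67.  The subgroup generated by the elements of odd order has the subgroup of order 64 as a
Sylow 2-subgroup.
-/

set_option autoImplicit false
set_option linter.unusedSectionVars false
set_option linter.style.haveILetI false

open Subgroup

namespace Cfsg.Agent.Lib.Aut34Cent67

universe u w

/-- The subgroup generated by the elements of odd order. -/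
def oddGen (G : Type u) [Group G] : Subgroup G := closure {g : G | Odd (orderOf g)}

theorem mem_oddGen {G : Type u} [Group G] {g : G} (h : Odd (orderOf g)) : g ∈ oddGen G :=
  subset_closure h

theorem oddGen_normal (G : Type u) [Group G] : (oddGen G).Normal := by
  refine ⟨fun x hx g => ?_⟩
  have hle : oddGen G ≤ (oddGen G).comap (MulAut.conj g).toMonoidHom := by
    refine (closure_le _).2 fun y hy => ?_
    refine mem_comap.2 (mem_oddGen ?_)
    show Odd (orderOf ((MulAut.conj g) y))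
    rw [MulEquiv.orderOf_eq]
    exact hy
  exact hle hx

/-- An element of odd order lies in every subgroup of index two. -/
theorem mem_of_index_two {G : Type u} [Group G] {H : Subgroup G} (hH : H.index = 2) {g : G}
    (h : Odd (orderOf g)) : g ∈ H := by
  obtain ⟨k, hk⟩ := h
  have e : g = ((g * g) ^ k)⁻¹ := by
    refine eq_inv_of_mul_eq_one_right ?_
    rw [← pow_two, ← pow_mul, ← pow_succ, ← hk, pow_orderOf_eq_one]
  rw [e]
  exact inv_mem (pow_mem (Subgroup.mul_self_mem_of_index_two hH g) k)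

theorem odd_orderOf {G : Type u} [Group G] {g : G} {n : ℕ} (h : g ^ n = 1) (hn : Odd n) :
    Odd (orderOf g) := hn.of_dvd_nat (orderOf_dvd_of_pow_eq_one h)

namespace Mark

open L34Sylow67 (Frame)

variable {G : Type u} [Group G] [Finite G] {z : G} {E : Subgroup G} (Φ : Mark z E)
  {F : Type w} [Field F] [Fintype F] (Ψ : Frame F Φ.R)
  (hΨ : ∀ g : G, g ∈ Φ.W ↔ ∃ x : F, Ψ.a (x, 0) = g)

include hΨ

/-- The normalizer of the subgroup of order 64 normalizes the four group. -/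
theorem conj_W_of_R {n : G} (hn : ∀ x ∈ Φ.R, n * x * n⁻¹ ∈ Φ.R) {w : G} (hw : w ∈ Φ.W) :
    n * w * n⁻¹ ∈ Φ.W := by
  have hmap : ∀ Ψ' : Frame F Φ.R, Ψ'.A.map (MulAut.conj n).toMonoidHom = Ψ'.A ∨
      Ψ'.A.map (MulAut.conj n).toMonoidHom = Ψ'.B := fun Ψ' =>
    Ψ'.eq_or_eq (by rintro _ ⟨x, hx, rfl⟩; exact hn x (Ψ'.A_le hx)) (Ψ'.conj_sub n)
      (Ψ'.card_conj n).ge
  have hA := hmap Ψ
  have hB := hmap Ψ.symm
  simp only [Frame.symm_A, Frame.symm_B] at hB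
  have hne : Ψ.A.map (MulAut.conj n).toMonoidHom ≠ Ψ.B.map (MulAut.conj n).toMonoidHom := fun e =>
    Ψ.A_ne_B (Subgroup.map_injective (f := (MulAut.conj n).toMonoidHom) (MulAut.conj n).injective e)
  have h1 : n * w * n⁻¹ ∈ Ψ.A.map (MulAut.conj n).toMonoidHom := ⟨w, Φ.W_le_A Ψ hΨ hw, rfl⟩
  have h2 : n * w * n⁻¹ ∈ Ψ.B.map (MulAut.conj n).toMonoidHom := ⟨w, Φ.W_le_B Ψ hΨ hw, rfl⟩
  rcases hA with hA | hA <;> rcases hB with hB | hB
  · exact Φ.A_inf_B Ψ hΨ (hA ▸ h1) (hB ▸ h2)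
  · exact absurd (hA.trans hB.symm) hne
  · exact absurd (hA.trans hB.symm) hne
  · exact Φ.A_inf_B Ψ hΨ (hB ▸ h2) (hA ▸ h1)

variable (hns : ¬ Group.IsSolvable G)
include hns

/-- The subgroup of order 64 is generated by elements of odd order. -/
theorem R_le_oddGen : Φ.R ≤ oddGen G := by
  haveI hN := oddGen_normal G
  obtain ⟨π₀, hπ, ho⟩ := Φ.exists_pi
  have hπC := Φ.K_le hπ
  have hπN : π₀ ∈ oddGen G := mem_oddGen (by rw [ho]; decide)
  set a := Ψ.a (0, 1) with ha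
  have haA : a ∈ Ψ.A := ⟨_, rfl⟩
  have haR := Ψ.A_le haA
  have haW : a ∉ Φ.W := fun h => by
    obtain ⟨x, hx⟩ := (hΨ a).1 h
    exact zero_ne_one (congrArg Prod.snd (Ψ.a_inj hx))
  set d := π₀ * a * π₀⁻¹ * a⁻¹ with hd
  have hdA : d ∈ Ψ.A := mul_mem (Φ.three_stab Ψ hπ ho haA) (inv_mem haA)
  have hdN : d ∈ oddGen G := by
    rw [show d = π₀ * (a * π₀⁻¹ * a⁻¹) by rw [hd]; group]
    exact mul_mem hπN (hN.conj_mem _ (inv_mem hπN) a)
  have hdW : d ∉ Φ.W := fun h => haW (Φ.fixed_coset hπ ho haR (by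
    obtain ⟨v, hv⟩ := Φ.three_stab Ψ hπ ho haA
    have e : a⁻¹ * (π₀ * a * π₀⁻¹) = d := by
      rw [hd, ← hv, ha, Ψ.a_inv, Ψ.a_comm]
    rw [e]; exact h))
  obtain ⟨hAB, hBA⟩ := Φ.unit_swap Ψ hΨ (Φ.p_mem 0) (Φ.v_p 0)
  set τ := Φ.p 0 with hτ
  have hτC := Φ.cfg.le (Φ.p_mem 0)
  set d' := τ * d * τ⁻¹ with hd'
  have hd'B : d' ∈ Ψ.B := hAB d hdA
  have hd'N : d' ∈ oddGen G := hN.conj_mem _ hdN τ
  have hd'W : d' ∉ Φ.W := fun h => hdW (by
    have := Φ.conj_W (inv_mem hτC) h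
    rwa [show τ⁻¹ * (τ * d * τ⁻¹) * τ⁻¹⁻¹ = d by group] at this)
  set w₀ := br d d' with hw₀
  have hw₀W : w₀ ∈ Φ.W := by
    refine Φ.A_inf_B Ψ hΨ ?_ ?_
    · rw [show w₀ = d * (d' * d⁻¹ * d'⁻¹) by rw [hw₀]; simp only [br]; group]
      exact mul_mem hdA (Ψ.normal_A (Ψ.B_le hd'B) (inv_mem hdA))
    · exact mul_mem (Ψ.normal_B (Ψ.A_le hdA) hd'B) (inv_mem hd'B)
  have hw₀1 : w₀ ≠ 1 := fun h => Φ.not_commute Ψ hΨ hdA hdW hd'B hd'W
    (mul_inv_eq_iff_eq_mul.1 (mul_inv_eq_one.1 h))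
  have hw₀N : w₀ ∈ oddGen G :=
    mul_mem (mul_mem (mul_mem hdN hd'N) (inv_mem hdN)) (inv_mem hd'N)
  obtain ⟨n₀, -, hn₀⟩ := Φ.exists_move hns hw₀W hw₀1
  have hW : Φ.W ≤ oddGen G := by
    intro x hx
    by_cases hx1 : x = 1
    · rw [hx1]; exact one_mem _
    obtain ⟨n, -, hn⟩ := Φ.exists_move hns hx hx1
    have e : x = n * n₀⁻¹ * w₀ * (n * n₀⁻¹)⁻¹ := by rw [← hn, ← hn₀]; group
    rw [e]
    exact hN.conj_mem _ hw₀N _
  have hA : Ψ.A ≤ oddGen G := by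
    intro x hx
    by_cases hxW : x ∈ Φ.W
    · exact hW hxW
    have h3 : Φ.act π₀ * Φ.act π₀ * Φ.act π₀ = 1 := by
      rw [← Φ.act_mul hπC hπC, ← Φ.act_mul (mul_mem hπC hπC) hπC, cube ho, act_one]
    have hne : Φ.act π₀ ≠ 1 := fun h => by
      obtain ⟨j, hj⟩ := IsPGroup.iff_orderOf.1 Φ.isPGroup_E ⟨π₀, (Φ.act_eq_one_iff hπC).1 h⟩
      rw [Subgroup.orderOf_mk, ho] at hj
      rcases j with _ | j
      · norm_num at hj
      · omega
    have hxR := Ψ.A_le hx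
    have hdC := Φ.K_le (Ψ.A_le hdA).1
    obtain ⟨t, htA, htN, hact⟩ : ∃ t ∈ Ψ.A, t ∈ oddGen G ∧ Φ.act t = Φ.act x := by
      rcases dt_orbit _ _ _ h3 hne (Φ.act_dt (Ψ.A_le hdA) (Ψ.sq_of_mem hdA) hdW)
        (Φ.act_dt hxR (Ψ.sq_of_mem hx) hxW) with h | h | h
      · exact ⟨d, hdA, hdN, h.symm⟩
      · exact ⟨_, Φ.three_stab Ψ hπ ho hdA, hN.conj_mem _ hdN π₀, by
          rw [Φ.conj_centralizer hπC hdC, h]⟩
      · exact ⟨_, Φ.three_stab Ψ hπ ho (Φ.three_stab Ψ hπ ho hdA),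
          hN.conj_mem _ (hN.conj_mem _ hdN π₀) π₀, by
          rw [Φ.conj_centralizer hπC (mul_mem (mul_mem hπC hdC) (inv_mem hπC)),
            Φ.conj_centralizer hπC hdC, h]
          group⟩
    have hmW : t * x ∈ Φ.W := by
      refine Φ.inf_E (Ψ.A_le (mul_mem htA hx)) ?_ (Ψ.sq_of_mem (mul_mem htA hx))
      refine (Φ.act_eq_one_iff (Φ.K_le (Ψ.A_le (mul_mem htA hx)).1)).1 ?_
      rw [Φ.act_mul (Φ.K_le (Ψ.A_le htA).1) (Φ.K_le hxR.1), hact,
        Φ.act_sq (Φ.K_le hxR.1) (Ψ.sq_of_mem hx)]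
    have := mul_mem (inv_mem htN) (hW hmW)
    rwa [inv_mul_cancel_left] at this
  intro r hr
  obtain ⟨v, y, rfl⟩ := Ψ.exists_eq hr
  refine mul_mem (hA ⟨_, rfl⟩) ?_
  have hbA : τ * Ψ.b (0, y) * τ⁻¹ ∈ Ψ.A := hBA _ ⟨_, rfl⟩
  have := hN.conj_mem _ (hA hbA) τ⁻¹
  rwa [show τ⁻¹ * (τ * Ψ.b (0, y) * τ⁻¹) * τ⁻¹⁻¹ = Ψ.b (0, y) by group] at this

omit hns in
/-- A subgroup of index two avoiding the involution `p 0`. -/
theorem exists_H : ∃ H : Subgroup G, H.index = 2 ∧ Φ.p 0 ∉ H := by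
  haveI : Fact (Nat.Prime 2) := ⟨Nat.prime_two⟩
  obtain ⟨T, hTC, hET, hcard⟩ := Φ.exists_sylow
  obtain ⟨hAB, -⟩ := Φ.unit_swap Ψ hΨ (Φ.p_mem 0) (Φ.v_p 0)
  set τ := Φ.p 0 with hτ
  have hτT : τ ∈ (T : Subgroup G) := hET (Φ.p_mem 0)
  set a := Ψ.a (0, 1) with ha
  have haW : a ∉ Φ.W := fun h => by
    obtain ⟨x, hx⟩ := (hΨ a).1 h
    exact zero_ne_one (congrArg Prod.snd (Ψ.a_inj hx))
  -- elements interchanging `A` and `B` do not normalize `A`
  have hnot : ∀ c : G, c ∈ centralizer ({z} : Set G) → (∀ x ∈ Ψ.A, c * x * c⁻¹ ∈ Ψ.B) →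
      c ∉ normalizer (Ψ.A : Set G) := fun c hc hsw hn => haW (by
    have h := Φ.A_inf_B Ψ hΨ ((Subgroup.mem_normalizer_iff.1 hn a).1 ⟨_, rfl⟩) (hsw a ⟨_, rfl⟩)
    have := Φ.conj_W (inv_mem hc) h
    rwa [show c⁻¹ * (c * a * c⁻¹) * c⁻¹⁻¹ = a by group] at this)
  set M := (T : Subgroup G) ⊓ normalizer (Ψ.A : Set G) with hM
  have hnorm : ∀ c ∈ (T : Subgroup G),
      Ψ.A.map (MulAut.conj c).toMonoidHom = Ψ.A → c ∈ normalizer (Ψ.A : Set G) :=
    fun c _ h => L34Sylow67.normalizer_iff_map.2 h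
  have hidx : (M.subgroupOf (T : Subgroup G)).index = 2 := by
    refine Subgroup.index_eq_two_iff.2 ⟨⟨τ, hτT⟩, fun b => ?_⟩
    simp only [mem_subgroupOf, Subgroup.coe_mul]
    have hbC := hTC b.2
    rcases Φ.conj_AB Ψ (Φ.C_le_normalizer hbC) with h | h
    · refine Or.inr ⟨mem_inf.2 ⟨b.2, hnorm _ b.2 h⟩, fun hbτ => ?_⟩
      have := (Subgroup.mul_mem_cancel_left _ (mem_inf.2 ⟨b.2, hnorm _ b.2 h⟩)).1 hbτ
      exact hnot τ (hTC hτT) hAB (mem_inf.1 this).2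
    · refine Or.inl ⟨mem_inf.2 ⟨mul_mem b.2 hτT, hnorm _ (mul_mem b.2 hτT) ?_⟩, fun hb => ?_⟩
      · refine Subgroup.eq_of_le_of_card_ge ?_ (Subgroup.card_map_of_injective
          (MulAut.conj ((b : G) * τ)).injective).ge
        rintro _ ⟨x, hx, rfl⟩
        show (b : G) * τ * x * ((b : G) * τ)⁻¹ ∈ Ψ.A
        rw [show (b : G) * τ * x * ((b : G) * τ)⁻¹ = (b : G) * (τ * x * τ⁻¹) * (b : G)⁻¹ by group]
        rcases Φ.conj_AB Ψ.symm (Φ.C_le_normalizer hbC) with h' | h'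
        · simp only [Frame.symm_A] at h'
          exact absurd (Subgroup.map_injective (f := (MulAut.conj (b : G)).toMonoidHom)
            (MulAut.conj (b : G)).injective (h.trans h'.symm)) Ψ.A_ne_B
        · simp only [Frame.symm_A, Frame.symm_B] at h'
          exact h' ▸ ⟨_, hAB x hx, rfl⟩
      · have := L34Sylow67.normalizer_iff_map.1 (mem_inf.1 hb).2
        exact Ψ.A_ne_B (this.symm.trans h)
  have hMcard : Nat.card ↥M = 128 := by
    have h := (M.subgroupOf (T : Subgroup G)).card_mul_index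
    rw [hidx, hcard, Nat.card_congr (subgroupOfEquivOfLe
      (show M ≤ (T : Subgroup G) from inf_le_left)).toEquiv] at h
    omega
  have hMidx : M.index % 4 = 2 := by
    have h1 := M.card_mul_index
    have h2 := (T : Subgroup G).card_mul_index
    rw [hMcard] at h1
    rw [hcard, ← h1] at h2
    obtain ⟨k, hk⟩ := Nat.odd_iff.2 (Nat.two_dvd_ne_zero.1 T.not_dvd_index)
    rw [hk] at h2
    omega
  have hord : orderOf τ = 2 := orderOf_eq_prime (by rw [sq]; exact Φ.p_sq 0) fun e => by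
    have h := Φ.v_p 0
    rw [← hτ, e, Φ.v_one] at h
    revert h
    decide
  obtain ⟨N, hN, htN⟩ := Fusion.Thompson.exists_index_two_of_fixedPointFree (G := G) (α := G ⧸ M)
    hMidx τ hord (fun x => by
    induction x using QuotientGroup.induction_on with
    | H k =>
      intro he
      rw [MulAction.Quotient.smul_mk, smul_eq_mul, QuotientGroup.eq] at he
      have hmem : k⁻¹ * τ * k⁻¹⁻¹ ∈ M := by
        have := inv_mem he
        simpa [mul_assoc] using this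
      obtain ⟨c, hc, hcx⟩ := Φ.tau_class Ψ hΨ (g := k⁻¹) (hTC (mem_inf.1 hmem).1)
      rw [← hcx] at hmem
      have hxE : c * τ * c⁻¹ ∈ E := Φ.conj_mem hc (Φ.p_mem 0)
      have key : ∀ π : Equiv.Perm (Fin 4), permV π (unit 0) = unit (π 0) := by decide +kernel
      obtain ⟨hsw, -⟩ := Φ.unit_swap Ψ hΨ hxE (i := Φ.act c 0)
        (by rw [Φ.v_conj' hc (Φ.p_mem 0), Φ.v_p]; exact key _)
      exact hnot _ (Φ.cfg.le hxE) hsw (mem_inf.1 hmem).2)
  exact ⟨N, hN, htN⟩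

/-- An involution of `H` centralizing `z` outside the subgroup of order 64. -/
theorem exists_outer {H : Subgroup G} (hH : H.index = 2) (hτH : Φ.p 0 ∉ H) :
    ∃ s ∈ H, s ∈ centralizer ({z} : Set G) ∧ s * s = 1 ∧ s ∉ Φ.R := by
  haveI : Fact (Nat.Prime 2) := ⟨Nat.prime_two⟩
  haveI : Fact (Nat.Prime 3) := ⟨Nat.prime_three⟩
  haveI hHn := Subgroup.normal_of_index_eq_two hH
  set N := normalizer (Φ.W : Set G) with hNW
  set L := H ⊓ N with hL
  have hidx : (L.subgroupOf N).index = 2 := by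
    refine Subgroup.index_eq_two_iff.2 ⟨⟨Φ.p 0, Φ.C_le_normalizer (Φ.cfg.le (Φ.p_mem 0))⟩,
      fun b => ?_⟩
    simp only [mem_subgroupOf, Subgroup.coe_mul, hL, mem_inf, mul_mem b.2
      (Φ.C_le_normalizer (Φ.cfg.le (Φ.p_mem 0))), b.2, and_true]
    have h := Subgroup.mul_mem_iff_of_index_two hH (a := (b : G)) (b := Φ.p 0)
    by_cases hb : (b : G) ∈ H
    · exact Or.inr ⟨hb, fun h' => hτH ((h.1 h').1 hb)⟩
    · exact Or.inl ⟨h.2 (iff_of_false hb hτH), hb⟩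
  have hLcard : Nat.card ↥L = 1152 := by
    have h := (L.subgroupOf N).card_mul_index
    rw [hidx, Φ.card_normalizer hns, Nat.card_congr (subgroupOfEquivOfLe
      (show L ≤ N from inf_le_right)).toEquiv] at h
    omega
  obtain ⟨Q⟩ : Nonempty (Sylow 3 ↥L) := inferInstance
  have hQcard : Nat.card ↥(Q : Subgroup ↥L) = 9 := by
    rw [Q.card_eq_multiplicity, hLcard, show (1152 : ℕ) = 3 ^ 2 * 2 ^ 7 from rfl,
      Nat.factorization_mul (by norm_num) (by norm_num),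
      Nat.Prime.factorization_pow Nat.prime_three, Nat.Prime.factorization_pow Nat.prime_two]
    simp
  -- the normalizer of a Sylow 3-subgroup has even order
  have hev : 2 ∣ Nat.card ↥(normalizer ((Q : Subgroup ↥L) : Set ↥L)) := by
    by_contra hodd
    have h1 := card_sylow_modEq_one 3 ↥L
    have h2 := Q.card_dvd_index
    rw [Sylow.card_eq_index_normalizer Q] at h1 h2
    have h3 : Nat.card ↥(normalizer ((Q : Subgroup ↥L) : Set ↥L)) *
        (normalizer (Q : Set ↥L)).index = 1152 :=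
      ((normalizer ((Q : Subgroup ↥L) : Set ↥L)).card_mul_index).trans hLcard
    have h4 := (Q : Subgroup ↥L).card_mul_index
    rw [hQcard, hLcard] at h4
    have h5 : (Q : Subgroup ↥L).index = 128 := by omega
    rw [h5] at h2
    obtain ⟨j, hj, hj'⟩ := (Nat.dvd_prime_pow Nat.prime_two).1
      (show _ ∣ 2 ^ 7 from h2)
    rw [hj'] at h1 h3
    unfold Nat.ModEq at h1
    interval_cases j <;> omega
  obtain ⟨s₀, hs₀⟩ := exists_prime_orderOf_dvd_card'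
    (G := ↥(normalizer ((Q : Subgroup ↥L) : Set ↥L))) 2 hev
  set s : G := ((s₀ : ↥L) : G) with hs
  have hso : orderOf s = 2 := by rw [hs, Subgroup.orderOf_coe, Subgroup.orderOf_coe, hs₀]
  have hss : s * s = 1 := by rw [← sq, ← hso, pow_orderOf_eq_one]
  have hs1 : s ≠ 1 := fun e => by rw [e, orderOf_one] at hso; norm_num at hso
  have hsH : s ∈ H := (mem_inf.1 (s₀ : ↥L).2).1
  have hsN : s ∈ N := (mem_inf.1 (s₀ : ↥L).2).2
  set P := (Q : Subgroup ↥L).map L.subtype with hP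
  have hPcard : Nat.card ↥P = 9 := by
    rw [hP, card_map_of_injective L.subtype_injective, hQcard]
  have hPN : ∀ x ∈ P, x ∈ N := fun x hx => (mem_inf.1 (map_subtype_le _ hx)).2
  have hPs : ∀ x ∈ P, s * x * s⁻¹ ∈ P := by
    rintro _ ⟨x, hx, rfl⟩
    exact ⟨(s₀ : ↥L) * x * (s₀ : ↥L)⁻¹, (Subgroup.mem_normalizer_iff.1 s₀.2 x).1 hx, rfl⟩
  have hsR : s ∉ Φ.R := by
    intro hsR
    have hcomm : ∀ x ∈ P, x * s = s * x := by
      intro x hx
      have h1 : x * s * x⁻¹ * s⁻¹ ∈ Φ.R := mul_mem (Φ.conj_R (hPN x hx) hsR) (inv_mem hsR)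
      have h2 : x * s * x⁻¹ * s⁻¹ ∈ P := by
        rw [show x * s * x⁻¹ * s⁻¹ = x * (s * x⁻¹ * s⁻¹) by group]
        exact mul_mem hx (hPs _ (inv_mem hx))
      have e : x * s * x⁻¹ * s⁻¹ = 1 := orderOf_eq_one_iff.1 (Nat.eq_one_of_dvd_coprimes
        (show Nat.Coprime 64 9 by norm_num) (Φ.card_R ▸ Subgroup.orderOf_dvd_natCard _ h1)
        (hPcard ▸ Subgroup.orderOf_dvd_natCard _ h2))
      exact mul_inv_eq_iff_eq_mul.1 (mul_inv_eq_one.1 e)
    by_cases hsW : s ∈ Φ.W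
    · obtain ⟨n, -, hn⟩ := Φ.exists_move hns hsW hs1
      have hle : P.map (MulAut.conj n⁻¹).toMonoidHom ≤ centralizer ({z} : Set G) := by
        rintro _ ⟨x, hx, rfl⟩
        refine mem_centralizer_singleton_iff.2 ?_
        show n⁻¹ * x * n⁻¹⁻¹ * z = z * (n⁻¹ * x * n⁻¹⁻¹)
        have e : z = n⁻¹ * s * n⁻¹⁻¹ := by rw [← hn]; group
        calc n⁻¹ * x * n⁻¹⁻¹ * z = n⁻¹ * x * n⁻¹⁻¹ * (n⁻¹ * s * n⁻¹⁻¹) :=
              congrArg (n⁻¹ * x * n⁻¹⁻¹ * ·) e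
          _ = n⁻¹ * (x * s) * n⁻¹⁻¹ := by group
          _ = n⁻¹ * (s * x) * n⁻¹⁻¹ := by rw [hcomm x hx]
          _ = (n⁻¹ * s * n⁻¹⁻¹) * (n⁻¹ * x * n⁻¹⁻¹) := by group
          _ = z * (n⁻¹ * x * n⁻¹⁻¹) := congrArg (· * (n⁻¹ * x * n⁻¹⁻¹)) e.symm
      have h9 := Subgroup.card_dvd_of_le hle
      rw [Subgroup.card_map_of_injective (MulAut.conj n⁻¹).injective, hPcard, Φ.cfg.card_C] at h9
      omega
    · -- `P` meets `K`
      obtain ⟨x, hx, hx1⟩ := (P ⊓ Φ.K).bot_or_exists_ne_one.resolve_left fun hbot => by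
        let f : ↥P × ↥Φ.K → ↥N := fun q =>
          ⟨q.1 * q.2, mul_mem (hPN _ q.1.2) (Φ.C_le_normalizer (Φ.K_le q.2.2))⟩
        have hf : Function.Injective f := by
          rintro ⟨x, k⟩ ⟨x', k'⟩ e
          have e' : (x : G) * k = x' * k' := congrArg Subtype.val e
          have h1 : (x' : G)⁻¹ * x = k' * (k : G)⁻¹ := by
            rw [eq_mul_inv_iff_mul_eq, mul_assoc, e', inv_mul_cancel_left]
          have h2 : (x' : G)⁻¹ * x ∈ P ⊓ Φ.K :=
            mem_inf.2 ⟨mul_mem (inv_mem x'.2) x.2, h1 ▸ mul_mem k'.2 (inv_mem k.2)⟩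
          rw [hbot, mem_bot] at h2
          obtain rfl : x' = x := Subtype.ext (inv_mul_eq_one.1 h2)
          exact Prod.ext rfl (Subtype.ext (mul_left_cancel e'))
        have := Nat.card_le_card_of_injective f hf
        rw [Nat.card_prod, hPcard, Φ.card_K, Φ.card_normalizer hns] at this
        omega
      obtain ⟨hxP, hxK⟩ := mem_inf.1 hx
      have h9 : orderOf x ∣ 9 := hPcard ▸ Subgroup.orderOf_dvd_natCard _ hxP
      have h384 : orderOf x ∣ 384 := Φ.card_K ▸ Subgroup.orderOf_dvd_natCard _ hxK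
      have h3 : orderOf x ∣ 3 := Nat.dvd_gcd h9 h384
      have ho : orderOf x = 3 := ((Nat.dvd_prime Nat.prime_three).1 h3).resolve_left
        fun h => hx1 (orderOf_eq_one_iff.1 h)
      exact hsW (Φ.fixed_pi hxK ho hsR (hcomm x hxP))
  -- move the involution into `C`
  obtain ⟨w, hw, hw1, hsw⟩ : ∃ w ∈ Φ.W, w ≠ 1 ∧ s * w * s⁻¹ = w := by
    have hz' : s * z * s⁻¹ ∈ Φ.W := (Subgroup.mem_normalizer_iff.1 hsN z).1 Φ.z_mem_W
    by_cases h : s * z * s⁻¹ = z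
    · exact ⟨z, Φ.z_mem_W, Φ.cfg.z_ne, h⟩
    refine ⟨z * (s * z * s⁻¹), mul_mem Φ.z_mem_W hz', fun e => h ?_, ?_⟩
    · rw [eq_inv_of_mul_eq_one_right e, Φ.toQuad.z_inv]
    · calc s * (z * (s * z * s⁻¹)) * s⁻¹ = (s * z * s⁻¹) * ((s * s) * z * (s * s)⁻¹) := by group
        _ = (s * z * s⁻¹) * z := by rw [hss]; group
        _ = z * (s * z * s⁻¹) := (Φ.K_comm (Φ.W_le_K hz') Φ.z_mem_W)
  obtain ⟨n, hn, hnz⟩ := Φ.exists_move hns hw hw1
  refine ⟨n⁻¹ * s * n⁻¹⁻¹, hHn.conj_mem s hsH n⁻¹, mem_centralizer_singleton_iff.2 ?_, ?_, fun h => ?_⟩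
  · have e : z = n⁻¹ * w * n := by rw [← hnz]; group
    calc n⁻¹ * s * n⁻¹⁻¹ * z = n⁻¹ * s * n⁻¹⁻¹ * (n⁻¹ * w * n) :=
          congrArg (n⁻¹ * s * n⁻¹⁻¹ * ·) e
      _ = n⁻¹ * (s * w) * n := by group
      _ = n⁻¹ * (w * s) * n := by rw [mul_inv_eq_iff_eq_mul.1 hsw]
      _ = (n⁻¹ * w * n) * (n⁻¹ * s * n⁻¹⁻¹) := by group
      _ = z * (n⁻¹ * s * n⁻¹⁻¹) := congrArg (· * (n⁻¹ * s * n⁻¹⁻¹)) e.symm
  · rw [show n⁻¹ * s * n⁻¹⁻¹ * (n⁻¹ * s * n⁻¹⁻¹) = n⁻¹ * (s * s) * n by group, hss]; group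
  · have := Φ.conj_R hn h
    rw [show n * (n⁻¹ * s * n⁻¹⁻¹) * n⁻¹ = s by group] at this
    exact hsR this

/-- The normal subgroup. -/
theorem exists_normal : ∃ N : Subgroup G, N.Normal ∧ Φ.R ≤ N ∧
    (∀ Q : Subgroup G, Q ≤ N → IsPGroup 2 ↥Q → Nat.card ↥Q ≤ 64) ∧
    N ⊔ centralizer ({z} : Set G) = ⊤ ∧
    Nat.card ↥(N ⊓ centralizer ({z} : Set G)) = 192 := by
  haveI : Fact (Nat.Prime 2) := ⟨Nat.prime_two⟩
  haveI hN := oddGen_normal G
  have hRN := Φ.R_le_oddGen Ψ hΨ hns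
  obtain ⟨H, hH, hτH⟩ := Φ.exists_H Ψ hΨ
  haveI hHn := Subgroup.normal_of_index_eq_two hH
  obtain ⟨s, hsH, hsC, hs2, hsR⟩ := Φ.exists_outer Ψ hΨ hns hH hτH
  have hNH : oddGen G ≤ H := (closure_le _).2 fun g hg => mem_of_index_two hH hg
  obtain ⟨T, hTC, hET, hTcard⟩ := Φ.exists_sylow
  -- the second transfer
  set M₂ := Φ.R.subgroupOf H with hM₂
  have hRH : Φ.R ≤ H := hRN.trans hNH
  have hM₂idx : M₂.index % 4 = 2 := by
    have h1 := M₂.card_mul_index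
    rw [hM₂, Nat.card_congr (subgroupOfEquivOfLe hRH).toEquiv, Φ.card_R] at h1
    have h2 := H.card_mul_index
    rw [hH] at h2
    have h3 := (T : Subgroup G).card_mul_index
    rw [hTcard, ← h2, ← h1] at h3
    obtain ⟨k, hk⟩ := Nat.odd_iff.2 (Nat.two_dvd_ne_zero.1 T.not_dvd_index)
    rw [hk] at h3
    rw [hM₂]
    omega
  have hs1 : s ≠ 1 := fun e => hsR (e ▸ one_mem _)
  obtain ⟨N₂, hN₂, hsN₂⟩ := Fusion.Thompson.exists_index_two_of_fixedPointFree (G := ↥H)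
    (α := ↥H ⧸ M₂) hM₂idx ⟨s, hsH⟩
    (by rw [Subgroup.orderOf_mk]; exact orderOf_eq_prime (by rw [sq]; exact hs2) hs1)
    (fun x => by
      induction x using QuotientGroup.induction_on with
      | H k =>
        intro he
        rw [MulAction.Quotient.smul_mk, smul_eq_mul, QuotientGroup.eq] at he
        have he' : ((k : G)⁻¹ * s * k) ∈ Φ.R := by
          have := inv_mem (mem_subgroupOf.1 he)
          simpa [mul_assoc] using this
        refine Φ.not_conj_R Ψ hΨ hns hsC hsR he' ?_ k (by group)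
        rw [show (k : G)⁻¹ * s * k * ((k : G)⁻¹ * s * k) = (k : G)⁻¹ * (s * s) * k by group, hs2]
        group)
  have hN₂le : oddGen G ≤ N₂.map H.subtype := (closure_le _).2 fun g hg =>
    ⟨⟨g, mem_of_index_two hH hg⟩, mem_of_index_two hN₂ (by
      rw [Subgroup.orderOf_mk]; exact hg), rfl⟩
  have hsN : s ∉ oddGen G := fun h => hsN₂ (by
    obtain ⟨⟨a, ha⟩, ha', e⟩ := hN₂le h
    subst e
    exact ha')
  -- the intersection with a Sylow subgroup
  obtain ⟨c, hc, hcT⟩ := L34Sylow67.exists_conj_into T hTC (R := zpowers s)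
    (zpowers_le.2 hsC) (IsPGroup.of_card (n := 1) (by
      rw [Nat.card_zpowers, orderOf_eq_prime (by rw [sq]; exact hs2) hs1, pow_one]))
  have hsT := hcT s (mem_zpowers s)
  have hsN' : c * s * c⁻¹ ∉ oddGen G := fun h => hsN (by
    have := hN.conj_mem _ h c⁻¹
    rwa [show c⁻¹ * (c * s * c⁻¹) * c⁻¹⁻¹ = s by group] at this)
  have hTH : Nat.card ↥((T : Subgroup G) ⊓ H) = 128 := by
    have hτT : Φ.p 0 ∈ (T : Subgroup G) := hET (Φ.p_mem 0)
    have hidx : (((T : Subgroup G) ⊓ H).subgroupOf (T : Subgroup G)).index = 2 := by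
      refine Subgroup.index_eq_two_iff.2 ⟨⟨_, hτT⟩, fun b => ?_⟩
      simp only [mem_subgroupOf, Subgroup.coe_mul, mem_inf, mul_mem b.2 hτT, b.2, true_and]
      have h := Subgroup.mul_mem_iff_of_index_two hH (a := (b : G)) (b := Φ.p 0)
      by_cases hb : (b : G) ∈ H
      · exact Or.inr ⟨hb, fun h' => hτH ((h.1 h').1 hb)⟩
      · exact Or.inl ⟨h.2 (iff_of_false hb hτH), hb⟩
    have h := (((T : Subgroup G) ⊓ H).subgroupOf (T : Subgroup G)).card_mul_index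
    rw [hidx, hTcard, Nat.card_congr (subgroupOfEquivOfLe inf_le_left).toEquiv] at h
    omega
  have hTN : Nat.card ↥((T : Subgroup G) ⊓ oddGen G) ≤ 64 := by
    have hle : (T : Subgroup G) ⊓ oddGen G ≤ (T : Subgroup G) ⊓ H := inf_le_inf_left _ hNH
    obtain ⟨j, hj⟩ := Subgroup.card_dvd_of_le hle
    rw [hTH] at hj
    have hne : Nat.card ↥((T : Subgroup G) ⊓ oddGen G) ≠ 128 := fun h => hsN' (by
      have e := Subgroup.eq_of_le_of_card_ge hle (by rw [h, hTH])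
      have : c * s * c⁻¹ ∈ (T : Subgroup G) ⊓ oddGen G :=
        e ▸ mem_inf.2 ⟨hsT, hHn.conj_mem s hsH c⟩
      exact (mem_inf.1 this).2)
    rcases j with _ | _ | j
    · omega
    · omega
    · have h2 : Nat.card ↥((T : Subgroup G) ⊓ oddGen G) * 2 ≤
          Nat.card ↥((T : Subgroup G) ⊓ oddGen G) * (j + 1 + 1) := Nat.mul_le_mul_left _ (by omega)
      omega
  have htwo : ∀ Q : Subgroup G, Q ≤ oddGen G → IsPGroup 2 ↥Q → Nat.card ↥Q ≤ 64 := by
    intro Q hQ hQ2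
    obtain ⟨g, hg⟩ := L34Sylow67.exists_conj_sylow T hQ2
    refine le_trans ?_ hTN
    rw [← Subgroup.card_map_of_injective (f := (MulAut.conj g).toMonoidHom)
      (MulAut.conj g).injective]
    refine Subgroup.card_le_of_le ?_
    rintro _ ⟨x, hx, rfl⟩
    exact mem_inf.2 ⟨hg x hx, hN.conj_mem x (hQ hx) g⟩
  -- `R` is a Sylow subgroup of the normal subgroup
  have hR2 : IsPGroup 2 ↥(Φ.R.subgroupOf (oddGen G)) :=
    Φ.isPGroup_R.of_equiv (subgroupOfEquivOfLe hRN).symm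
  obtain ⟨Q, hQ⟩ := hR2.exists_le_sylow
  have hQR : (Q : Subgroup ↥(oddGen G)).map (oddGen G).subtype = Φ.R := by
    have hle : Φ.R ≤ (Q : Subgroup ↥(oddGen G)).map (oddGen G).subtype :=
      fun x hx => ⟨⟨x, hRN hx⟩, hQ hx, rfl⟩
    refine (Subgroup.eq_of_le_of_card_ge hle ?_).symm
    rw [Φ.card_R]
    exact htwo _ (map_subtype_le _) (Q.2.map _)
  have hsup : oddGen G ⊔ centralizer ({z} : Set G) = ⊤ := by
    rw [eq_top_iff, ← Sylow.normalizer_sup_eq_top Q]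
    refine sup_le (fun n hn => ?_) le_sup_left
    replace hn := hQR ▸ hn
    have hnW : ∀ w ∈ Φ.W, n * w * n⁻¹ ∈ Φ.W := fun w hw =>
      Φ.conj_W_of_R Ψ hΨ (fun x hx => (Subgroup.mem_normalizer_iff.1 hn x).1 hx) hw
    obtain ⟨π₀, ⟨T₃⟩⟩ := Φ.exists_torus hns
    obtain ⟨p, hp, hpK⟩ : ∃ p ∈ T₃.P, p ∉ Φ.K := by
      by_contra hcon
      push Not at hcon
      have := Subgroup.card_dvd_of_le (show T₃.P ≤ Φ.K from hcon)
      rw [T₃.card, Φ.card_K] at this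
      omega
    have hpz : p * z * p⁻¹ ≠ z := fun e =>
      Φ.cfg.z_ne (T₃.move_W hp hpK Φ.z_mem_W (mul_inv_eq_iff_eq_mul.1 e))
    obtain ⟨hp2, -, hall⟩ := four_cycle Φ.W Φ.card_W (fun x hx => Φ.sq_W hx)
      (fun x hx => T₃.conj_W hp hx) (T₃.exp p hp) Φ.z_mem_W Φ.cfg.z_ne hpz
    have hpN : p ∈ oddGen G := mem_oddGen (odd_orderOf (n := 3)
      (by rw [pow_succ, pow_two]; exact T₃.exp p hp) (by decide))
    obtain ⟨m, hmN, hm⟩ : ∃ m ∈ oddGen G, m * z * m⁻¹ = n * z * n⁻¹ := by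
      rcases hall _ (hnW z Φ.z_mem_W) with e | e | e | e
      · exact absurd (conj_eq_one_iff.1 e) Φ.cfg.z_ne
      · exact ⟨1, one_mem _, by rw [e]; group⟩
      · exact ⟨p, hpN, e.symm⟩
      · exact ⟨p * p, mul_mem hpN hpN, by rw [e, ← hp2]; group⟩
    have hmn : m⁻¹ * n ∈ centralizer ({z} : Set G) := mem_centralizer_singleton_iff.2
      (mul_inv_eq_iff_eq_mul.1 (by
        calc m⁻¹ * n * z * (m⁻¹ * n)⁻¹ = m⁻¹ * (n * z * n⁻¹) * m := by group
          _ = z := by rw [← hm]; group))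
    have hl : m ∈ oddGen G ⊔ centralizer ({z} : Set G) := Subgroup.mem_sup_left hmN
    have := mul_mem hl (Subgroup.mem_sup_right hmn)
    rwa [mul_inv_cancel_left] at this
  refine ⟨oddGen G, hN, hRN, htwo, hsup, ?_⟩
  -- the centralizer of `z`
  set D := oddGen G ⊓ centralizer ({z} : Set G) with hD
  have hd : Nat.card ↥D ∣ 768 := Φ.cfg.card_C ▸ Subgroup.card_dvd_of_le inf_le_right
  have h64 : 64 ∣ Nat.card ↥D := Φ.card_R ▸ Subgroup.card_dvd_of_le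
    (le_inf hRN (Φ.R_le_K.trans Φ.K_le))
  obtain ⟨π₀, hπ, ho⟩ := Φ.exists_pi
  have h3 : 3 ∣ Nat.card ↥D := ho ▸ Subgroup.orderOf_dvd_natCard _
    (mem_inf.2 ⟨mem_oddGen (by rw [ho]; decide), Φ.K_le hπ⟩)
  have h128 : ¬ 128 ∣ Nat.card ↥D := fun h => by
    obtain ⟨Q₂, hQ₂⟩ := Sylow.exists_subgroup_card_pow_prime 2 (n := 7) (G := ↥D) h
    have := htwo (Q₂.map D.subtype) ((map_subtype_le _).trans inf_le_left)
      (IsPGroup.of_card (n := 7) (by rw [card_map_of_injective D.subtype_injective, hQ₂]))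
    rw [card_map_of_injective D.subtype_injective, hQ₂] at this
    norm_num at this
  obtain ⟨j, hj⟩ := Nat.Coprime.mul_dvd_of_dvd_of_dvd (show Nat.Coprime 64 3 by norm_num) h64 h3
  have hj4 : j ∣ 4 := by
    rw [hj, show 768 = 64 * 3 * 4 from rfl] at hd
    exact Nat.dvd_of_mul_dvd_mul_left (by norm_num) hd
  have hjle : j ≤ 4 := Nat.le_of_dvd (by norm_num) hj4
  rw [hj] at h128 ⊢
  interval_cases j <;> omega

end Mark

end Cfsg.Agent.Lib.Aut34Cent67
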